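import Groth.Agent.Lib.RankOne16.Bruhat
import Groth.Agent.Lib.MTRigid29.NormalCentral
import Groth.Agent.Lib.TorPts21.Torus
import Groth.Agent.Lib.TorusHom19.Basic

/-!
# The centraliser of the coroot is the torus
-/

universe u

open CategoryTheory CategoryTheory.Limits MonoidalCategory CartesianMonoidalCategory MonObj AlgebraicGeometry

set_option linter.style.haveILetI false
set_option backward.isDefEq.respectTransparency false
set_option backward.isDefEq.respectTransparency.types false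

noncomputable section

namespace Groth.Agent.RankOne16

open RankOne (P A w Datum)

variable {S : Scheme.{u}}

/-- composing with a homomorphism, as a homomorphism of groups of points -/
def pushHom {G H : Over S} [GrpObj G] [GrpObj H] (f : G ⟶ H) [IsMonHom f] (X : Over S) : (X ⟶ G) →* (X ⟶ H) where
  toFun g := g ≫ f
  map_one' := MonObj.one_comp f
  map_mul' := fun a b => MonObj.mul_comp a b f

theorem commute_of_inverts {M : Type*} [Group M] {g w a : M} (hg : g * a * g⁻¹ = a⁻¹) (hw : w * a * w⁻¹ = a⁻¹) :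
    Commute (w * g⁻¹) a := by
  have hw' : a * w * a = w := by
    calc a * w * a = a * (w * a * w⁻¹) * w := by group
      _ = w := by rw [hw, mul_inv_cancel, _root_.one_mul]
  have hg' : g⁻¹ * a * g = a⁻¹ := by
    have h2 : g⁻¹ * a⁻¹ * g = a := by rw [← hg]; group
    calc g⁻¹ * a * g = (g⁻¹ * a⁻¹ * g)⁻¹ := by group
      _ = a⁻¹ := by rw [h2]
  calc w * g⁻¹ * a = w * (g⁻¹ * a * g) * g⁻¹ := by group
    _ = w * a⁻¹ * g⁻¹ := by rw [hg']
    _ = a * (w * g⁻¹) := by rw [← _root_.mul_assoc]; congr 1; exact (eq_mul_inv_of_mul_eq hw').symm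

variable {G T : Over S} [GrpObj G] [GrpObj T]
variable {i : T ⟶ G} {α : T ⟶ Red.Gm S} {pp pm : Red.Ga S ⟶ G} {av : Red.Gm S ⟶ T} {X X' : Over S}

/-- `v ↦ i(av v)` as a homomorphism -/
def AHom [IsMonHom i] [IsMonHom av] (X : Over S) : (Γ(X.left, ⊤))ˣ →* (X ⟶ G) where
  toFun v := A i av v
  map_one' := RankOne.A_one
  map_mul' v w := RankOne.A_mul v w

theorem sq_mul_inv_sq {R : Type*} [CommRing R] (u : Rˣ) (b : R) :
    (u : R) * (u : R) * ((((u⁻¹ : Rˣ)) : R) * (((u⁻¹ : Rˣ)) : R) * b) = b := by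
  linear_combination (b * ((u : R) * ((u⁻¹ : Rˣ) : R) + 1)) * Units.mul_inv u

theorem inv_sq_mul_sq {R : Type*} [CommRing R] (u : Rˣ) :
    (u : R) * (u : R) * ((((u⁻¹ : Rˣ)) : R) * (((u⁻¹ : Rˣ)) : R)) = 1 := by
  simpa using sq_mul_inv_sq u 1

theorem zpow_av_i [IsMonHom i] [IsMonHom av] (z : X ⟶ Red.Gm S) (n : ℤ) :
    ((z ≫ av) ^ n) ≫ i = A i av (GmPts.unitOfPt z ^ n) := by
  have h1 : ((z ≫ av) ^ n) ≫ i = (z ≫ av ≫ i) ^ n := by
    rw [← Category.assoc]; exact map_zpow (pushHom i X) (z ≫ av) n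
  rw [h1, RankOne.comp_eq_A]
  exact (map_zpow (AHom (i := i) (av := av) X) _ n).symm

theorem torus_comm (hT : Red.IsTorus T) (s t : X ⟶ T) : s * t = t * s :=
  MTRigid29.commute_of_isMultTypeFT (TorPts21.isMultTypeFT_of_isTorus hT) s t

theorem cell_symm (D : Datum i α pp pm av) (a : Γ(X.left, ⊤)) (t : X ⟶ T) (c : Γ(X.left, ⊤)) :
    (P pp a * (t ≫ i) * P pm c)⁻¹ = cell i pp pm (-c) t⁻¹ (-a) := by
  have := D.hom_i; have := D.hom_pp; have := D.hom_pm
  rw [cell, RankOne.P_neg, RankOne.P_neg, GrpObj.inv_comp, mul_inv_rev, mul_inv_rev, _root_.mul_assoc]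

theorem ptm_inj (D : Datum i α pp pm av) (hΩ : IsOpenImmersion (cellMap i pp pm).left)
    {a a' c c' : Γ(X.left, ⊤)} {t t' : X ⟶ T}
    (h : P pp a * (t ≫ i) * P pm c = P pp a' * (t' ≫ i) * P pm c') : a = a' ∧ t = t' ∧ c = c' := by
  have h1 := congrArg Inv.inv h
  rw [cell_symm D, cell_symm D] at h1
  obtain ⟨e1, e2, e3⟩ := cell_inj hΩ h1
  exact ⟨neg_injective e3, inv_injective e2, neg_injective e1⟩

theorem torus_eq_cell [IsMonHom pp] [IsMonHom pm] (t : X ⟶ T) : t ≫ i = cell i pp pm 0 t 0 := by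
  rw [cell, RankOne.P_zero, RankOne.P_zero, _root_.one_mul, _root_.mul_one]

/-- the geometric point of `X` over a point -/
def geomHom (p : X.left) : kPt (Red.geomPt p ≫ X.hom) ⟶ X := Over.homMk (Red.geomPt p)

theorem geomHom_apply (p : X.left) (q : (kPt (Red.geomPt p ≫ X.hom)).left) : (geomHom p).left q = p := by
  show (Spec.map _ ≫ X.left.fromSpecResidueField p) q = p
  rw [Scheme.Hom.comp_apply]
  exact Scheme.fromSpecResidueField_apply p _

/-- A point lands in the cell if its geometric points do. -/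
theorem inCell_of_geom (g : X ⟶ G)
    (h : ∀ p : X.left, InCell (i := i) (pp := pp) (pm := pm) (geomHom p ≫ g)) :
    InCell (i := i) (pp := pp) (pm := pm) g := fun p => by
  have h1 := h p (IsLocalRing.closedPoint _)
  have h2 : (geomHom p ≫ g).left (IsLocalRing.closedPoint (AlgebraicClosure (X.left.residueField p))) = g.left p :=
    congrArg g.left (geomHom_apply p _)
  exact h2 ▸ h1

variable (D : Datum i α pp pm av) (hT : Red.IsTorus T)
include D hT

theorem A_comm_T (u : (Γ(X.left, ⊤))ˣ) (t : X ⟶ T) : A i av u * (t ≫ i) = (t ≫ i) * A i av u := by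
  have := D.hom_i
  rw [show A i av u = (GmPts.ptOfUnit u ≫ av) ≫ i from (Category.assoc _ _ _).symm, ← MonObj.mul_comp,
    ← MonObj.mul_comp, torus_comm hT]

theorem exists_unit_sq_sq_ne {K : Type u} [Field K] [IsAlgClosed K] {x : Spec (CommRingCat.of K) ⟶ S} (n : ℤ)
    (hn : n ≠ 0) : ∃ v : (Γ((kPt x).left, ⊤))ˣ,
      (v ^ n) * (v ^ n) ≠ 1 ∧ (v ^ n)⁻¹ * (v ^ n)⁻¹ ≠ (v ^ n) * (v ^ n) := by
  obtain ⟨v, hv⟩ := exists_zpow_ne_one x (n * 4) (mul_ne_zero hn (by norm_num))
  have e : v ^ (n * 4) = v ^ n * v ^ n * (v ^ n * v ^ n) := by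
    rw [← zpow_add, ← zpow_add]; congr 1; ring
  rw [e] at hv
  refine ⟨v, fun h => hv (by rw [h, _root_.one_mul]), fun h => hv ?_⟩
  conv_lhs => arg 1; rw [← h]
  group

variable (hΩ : IsOpenImmersion (cellMap i pp pm).left) (hG : Rig G)
include hΩ hG

/-- Over an algebraically closed field, the centraliser of a power of the coroot is the torus. -/
theorem mem_torus_pt {K : Type u} [Field K] [IsAlgClosed K] {x : Spec (CommRingCat.of K) ⟶ S} (n : ℤ) (hn : n ≠ 0)
    (g : kPt x ⟶ G) (h : ∀ v, Commute g (A i av (v ^ n))) : ∃ t : kPt x ⟶ T, t ≫ i = g := by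
  have := D.hom_i; have := D.hom_pp; have := D.hom_pm; have := D.hom_av
  obtain ⟨v, hv1, hv2⟩ := exists_unit_sq_sq_ne (x := x) D hT n hn
  set u := v ^ n with hu
  have hc := (h v).eq
  rw [← hu] at hc
  rcases bruhat D hΩ hG g with ⟨t, a, rfl⟩ | ⟨a, t, b, rfl⟩
  · refine ⟨t, ?_⟩
    have h1 : P pp a * A i av u = A i av u * P pp a := by
      rw [← _root_.mul_assoc, A_comm_T D hT, _root_.mul_assoc, _root_.mul_assoc] at hc
      exact mul_left_cancel hc
    rw [RankOne.A_conj_P D] at h1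
    have h2 := mul_right_cancel h1
    have h3 : cell i pp pm 0 1 a = cell i pp pm 0 1 ((u : Γ((kPt x).left, ⊤)) * (u : Γ((kPt x).left, ⊤)) * a) := by
      simp only [cell, RankOne.P_zero, MonObj.one_comp, _root_.one_mul, h2]
    obtain ⟨-, -, h4⟩ := cell_inj hΩ h3
    by_cases ha : a = 0
    · rw [ha, RankOne.P_zero, _root_.mul_one]
    · refine absurd (Units.ext ((isUnit_of_ne ha).mul_right_cancel ?_)) hv1
      rw [Units.val_mul, Units.val_one, _root_.one_mul]; exact h4.symm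
  · exfalso
    set b' := (((u⁻¹ : (Γ((kPt x).left, ⊤))ˣ)) : Γ((kPt x).left, ⊤)) * (((u⁻¹ : (Γ((kPt x).left, ⊤))ˣ)) :
      Γ((kPt x).left, ⊤)) * b
    have e1 : P pp b * A i av u = A i av u * P pp b' := by
      rw [RankOne.A_conj_P D, sq_mul_inv_sq]
    have e2 : W pp pm * A i av u = A i av u⁻¹ * W pp pm := by
      rw [RankOne.A_inv, ← W_conj_A D, inv_mul_cancel_right]
    have eW : ∀ y, W pp pm * P pp y = P pm (-y) * (W pp pm : kPt x ⟶ G) := fun y => by
      rw [← W_conj_P D, inv_mul_cancel_right]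
    set s := GmPts.ptOfUnit u ≫ av with hs
    set s' := GmPts.ptOfUnit u⁻¹ ≫ av with hs'
    have hA : A i av u = s ≫ i := (Category.assoc _ _ _).symm
    have hA' : A i av u⁻¹ = s' ≫ i := (Category.assoc _ _ _).symm
    have key : P pp a * ((t * s') ≫ i) * P pm (-b') * W pp pm =
        P pp ((u : Γ((kPt x).left, ⊤)) * (u : Γ((kPt x).left, ⊤)) * a) * ((t * s) ≫ i) * P pm (-b) * W pp pm := by
      rw [MonObj.mul_comp, MonObj.mul_comp, ← hA, ← hA', ← A_comm_T D hT u t]
      calc _ = P pp a * (t ≫ i) * (A i av u⁻¹ * (W pp pm * P pp b')) := by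
            simp only [eW, _root_.mul_assoc]
        _ = P pp a * (t ≫ i) * W pp pm * P pp b * A i av u := by
            rw [← _root_.mul_assoc (A i av u⁻¹), ← e2]
            simp only [_root_.mul_assoc, e1]
        _ = A i av u * (P pp a * (t ≫ i) * W pp pm * P pp b) := hc
        _ = _ := by
            simp only [_root_.mul_assoc, ← eW]
            rw [← _root_.mul_assoc (A i av u), RankOne.A_conj_P D]
            simp only [_root_.mul_assoc]
    obtain ⟨-, h2, -⟩ := ptm_inj D hΩ (mul_right_cancel key)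
    have h3 := congrArg (fun z => GmPts.unitOfPt (z ≫ α)) (mul_left_cancel h2)
    simp only [hs, hs', RankOne.unitOfPt_av D] at h3
    exact hv2 h3

/-- The centraliser of a nonzero power of the coroot is the torus. -/
theorem mem_torus (n : ℤ) (hn : n ≠ 0) (g : X ⟶ G)
    (h : ∀ (X' : Over S) (e : X' ⟶ X) (v : (Γ(X'.left, ⊤))ˣ), Commute (e ≫ g) (A i av (v ^ n))) :
    ∃ t : X ⟶ T, t ≫ i = g := by
  have := D.hom_i; have := D.hom_pp; have := D.hom_pm; have := D.hom_av
  obtain ⟨a, t, b, hg⟩ := exists_cell hΩ g (inCell_of_geom g fun p => by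
    obtain ⟨t, ht⟩ := mem_torus_pt D hT hΩ hG n hn (geomHom p ≫ g) fun v => h _ _ v
    rw [← ht, torus_eq_cell (pp := pp) (pm := pm)]
    exact inCell_cell _ _ _)
  refine ⟨t, ?_⟩
  obtain ⟨X', e, v, he, hv⟩ := exists_cover_zpow_sub_one X (2 * n) (mul_ne_zero two_ne_zero hn)
  set u := v ^ n with hu
  have hv' : IsUnit ((u : Γ(X'.left, ⊤)) * (u : Γ(X'.left, ⊤)) - 1) := by
    rwa [hu, ← Units.val_mul, ← zpow_add, ← two_mul]
  set a' := e.left.appTop a
  set b' := e.left.appTop b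
  have hA : A i av u = (GmPts.ptOfUnit u ≫ av) ≫ i := (Category.assoc _ _ _).symm
  have hc : cell i pp pm a' (e ≫ t) b' * A i av u = A i av u * cell i pp pm a' (e ≫ t) b' := by
    have := (h X' e v).eq
    rwa [hg, comp_cell] at this
  set ui := (((u⁻¹ : (Γ(X'.left, ⊤))ˣ)) : Γ(X'.left, ⊤))
  have key : cell i pp pm a' ((e ≫ t) * (GmPts.ptOfUnit u ≫ av)) (ui * ui * b') =
      cell i pp pm (ui * ui * a') ((e ≫ t) * (GmPts.ptOfUnit u ≫ av)) b' := by
    calc _ = cell i pp pm a' (e ≫ t) b' * A i av u := by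
          simp only [cell, MonObj.mul_comp, ← hA]
          simp only [_root_.mul_assoc (P pm a'), _root_.mul_assoc (((e ≫ t) ≫ i))]
          rw [RankOne.A_conj_P D, sq_mul_inv_sq]
      _ = _ := by
          rw [hc]
          simp only [cell, MonObj.mul_comp, ← hA, ← A_comm_T D hT u (e ≫ t)]
          rw [← _root_.mul_assoc, ← _root_.mul_assoc, RankOne.A_conj_M D]
          simp only [_root_.mul_assoc]; rfl
  obtain ⟨e1, -, e3⟩ := cell_inj hΩ key
  have hu2 : (u : Γ(X'.left, ⊤)) * (u : Γ(X'.left, ⊤)) * (ui * ui) = 1 := inv_sq_mul_sq u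
  have z : ∀ y : Γ(X'.left, ⊤), y = ui * ui * y → y = 0 := fun y hy => by
    refine hv'.mul_right_eq_zero.1 ?_
    linear_combination ((u : Γ(X'.left, ⊤)) * (u : Γ(X'.left, ⊤))) * hy + y * hu2
  rw [← cancel_epi e, hg, comp_cell, show e.left.appTop a = 0 from z _ e1,
    show e.left.appTop b = 0 from z _ e3.symm, ← torus_eq_cell, Category.assoc]

/-- A point inverting a nonzero power of the coroot is a torus point times `w(1)`. -/
theorem eq_torus_mul_W (n : ℤ) (hn : n ≠ 0) (g : X ⟶ G)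
    (h : ∀ (X' : Over S) (e : X' ⟶ X) (v : (Γ(X'.left, ⊤))ˣ),
      (e ≫ g) * A i av (v ^ n) * (e ≫ g)⁻¹ = (A i av (v ^ n))⁻¹) :
    ∃ t : X ⟶ T, g = (t ≫ i) * W pp pm := by
  have := D.hom_i; have := D.hom_av
  obtain ⟨t, ht⟩ := mem_torus D hT hΩ hG n hn (W pp pm * g⁻¹) fun X' e v => by
    rw [MonObj.comp_mul, GrpObj.comp_inv, comp_W]
    exact commute_of_inverts (h X' e v) (W_conj_A D _)
  refine ⟨t⁻¹, ?_⟩
  rw [GrpObj.inv_comp, ht]
  simp [_root_.mul_assoc]

end Groth.Agent.RankOne16
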