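import Groth.Agent.Lib.RankOne16.Centre
import Groth.Agent.Lib.AttrBorel21.AlmostSimple

/-!
# The geometric fibres of `Ga`
-/

universe u

open CategoryTheory CategoryTheory.Limits MonoidalCategory CartesianMonoidalCategory MonObj AlgebraicGeometry

set_option linter.style.haveILetI false
set_option backward.isDefEq.respectTransparency false
set_option backward.isDefEq.respectTransparency.types false

noncomputable section

namespace Groth.Agent.RankOne16

open DiagGL

variable {S : Scheme.{u}} {K : Type u} [Field K] (ψ : Spec (CommRingCat.of K) ⟶ S)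

theorem props_bc_Ga : IsAffine (Red.bc ψ (Red.Ga S)).left ∧ Smooth (Red.bc ψ (Red.Ga S)).hom ∧
    ConnectedSpace (Red.bc ψ (Red.Ga S)).left := by
  obtain ⟨ha, hs, hc⟩ := AttrBorel21.smooth_affine_Ga K
  let q := Limits.IsTerminal.from specULiftZIsTerminal S
  let q' := Limits.IsTerminal.from specULiftZIsTerminal (Spec (CommRingCat.of K))
  have hq : ψ ≫ q = q' := Limits.IsTerminal.hom_ext specULiftZIsTerminal _ _
  let e : Red.bc ψ (Red.Ga S) ≅ Red.Ga (Spec (CommRingCat.of K)) :=
    Over.isoMk (pullbackLeftPullbackSndIso Red.GaZ.hom q ψ ≪≫ pullback.congrHom rfl hq) (by simp [pullback.map]; erw [pullback.lift_snd, pullbackLeftPullbackSndIso_hom_snd])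
  haveI : IsIso e.hom.left := inferInstanceAs (IsIso ((Over.forget _).map e.hom))
  haveI : IsIso e.inv.left := inferInstanceAs (IsIso ((Over.forget _).map e.inv))
  haveI := ha
  haveI := hs
  haveI := hc
  refine ⟨IsAffine.of_isIso e.hom.left, by rw [← Over.w e.hom]; infer_instance, ?_⟩
  exact e.inv.left.homeomorph.surjective.connectedSpace e.inv.left.homeomorph.continuous

/-- points of a base change, as a homomorphism -/
def bcHom (G : Over S) [GrpObj G] (A : Over (Spec (CommRingCat.of K))) :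
    ((Over.map ψ).obj A ⟶ G) →* (A ⟶ Red.bc ψ G) :=
  MonoidHom.mk' (fun a => (Over.mapPullbackAdj ψ).homEquiv A G a) (homEquiv_mul ψ A)

theorem bcHom_bijective (G : Over S) [GrpObj G] (A : Over (Spec (CommRingCat.of K))) :
    Function.Bijective (bcHom ψ G A) := ((Over.mapPullbackAdj ψ).homEquiv A G).bijective

theorem gaFn_pow {X : Over S} (z : X ⟶ Red.Ga S) (m : ℕ) : Red.gaFn (z ^ m) = (m : Γ(X.left, ⊤)) * Red.gaFn z := by
  induction m with
  | zero => rw [pow_zero, GaPts.gaFn_one, Nat.cast_zero, zero_mul]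
  | succ n ih => rw [pow_succ, GaPts.gaFn_mul, ih, Nat.cast_succ, add_mul, _root_.one_mul]

theorem hasNoSubtorus_Ga [IsAlgClosed K] : Red.HasNoSubtorus K (Red.bc ψ (Red.Ga S)) := by
  intro T _ j _ _ hT
  obtain ⟨hTa, hTs, -, -⟩ := TorPts21.props_of_isTorus hT
  haveI := hTa
  haveI := hTs
  obtain ⟨r, ⟨C⟩⟩ := TorPts21.exists_chars hT
  let adj := Over.mapPullbackAdj ψ
  let A := VecGrp.pt K K
  -- powers of points of the fibre of `Ga`
  have hpow : ∀ (y : A ⟶ T) (m : ℕ), ((m : Γ(((Over.map ψ).obj A).left, ⊤)) = 0 → (y ^ m) = 1) ∧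
      (y ^ m = 1 → IsUnit (m : Γ(((Over.map ψ).obj A).left, ⊤)) → y = 1) := by
    intro y m
    obtain ⟨z, hz⟩ := (bcHom_bijective ψ (Red.Ga S) A).surjective (y ≫ j)
    have h1 : (y ^ m) ≫ j = (y ≫ j) ^ m := map_pow (pushHom j A) y m
    constructor
    · intro hm
      have hz1 : z ^ m = 1 := GaPts.gaFn_injective
        (show Red.gaFn (z ^ m) = Red.gaFn 1 by rw [gaFn_pow, hm, zero_mul, GaPts.gaFn_one])
      rw [← cancel_mono j, MonObj.one_comp, h1, ← hz, ← MonoidHom.map_pow, hz1, MonoidHom.map_one]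
    · intro hy hm
      rw [hy, MonObj.one_comp, ← hz, ← MonoidHom.map_pow] at h1
      have hzm : z ^ m = 1 := (bcHom_bijective ψ (Red.Ga S) A).injective (by rw [← h1, MonoidHom.map_one])
      have h2 := gaFn_pow z m
      rw [hzm, GaPts.gaFn_one, eq_comm, hm.mul_right_eq_zero] at h2
      have hz1 : z = 1 := GaPts.gaFn_injective (show Red.gaFn z = Red.gaFn 1 by rw [h2, GaPts.gaFn_one])
      rw [← cancel_mono j, MonObj.one_comp, ← hz, hz1, MonoidHom.map_one]
  let R := Γ(((Over.map ψ).obj A).left, ⊤)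
  refine TorPts21.isTrivialGrp_of_pts fun x => ?_
  by_cases h2 : (2 : R) = 0
  · obtain ⟨y, rfl⟩ := exists_pow_eq C 2 two_ne_zero x
    exact (hpow y 2).1 (by rw [Nat.cast_two]; exact h2)
  · rcases Nat.eq_zero_or_pos r with hr | hr
    · subst hr
      refine C.inj fun a => ?_
      rw [show a = 1 from Multiplicative.toAdd.injective (Subsingleton.elim _ _), map_one, map_one]
    · exfalso
      obtain ⟨y, hy⟩ := C.surj (T := A) ((Units.coeHom _).comp (MonoidHom.mk'
        (fun a : Multiplicative (Fin r → ℤ) => (-1 : (Γ(A.left, ⊤))ˣ) ^ a.toAdd ⟨0, hr⟩) fun a b => by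
          simp only [toAdd_mul, Pi.add_apply, zpow_add]))
      have hy2 : y ^ 2 = 1 := by
        refine C.inj fun a => ?_
        rw [pow_two, C.mul, hy, C.one]
        show ((((-1 : (Γ(A.left, ⊤))ˣ) ^ a.toAdd ⟨0, hr⟩) : (Γ(A.left, ⊤))ˣ) : Γ(A.left, ⊤)) * _ = 1
        rw [MonoidHom.comp_apply, MonoidHom.mk'_apply, Units.coeHom_apply, ← Units.val_mul,
          ← mul_zpow, neg_mul_neg]
        simp
      have hunit : IsUnit ((2 : ℕ) : R) := by
        rw [Nat.cast_two]
        exact isUnit_of_ne (x := Spec.map (CommRingCat.ofHom (algebraMap K K)) ≫ ψ) h2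
      have hy1 := (hpow y 2).2 hy2 hunit
      have h3 := C.one A (Multiplicative.ofAdd (Pi.single ⟨0, hr⟩ 1))
      rw [← hy1, hy] at h3
      simp at h3
      exact h2 (by linear_combination -h3)

end Groth.Agent.RankOne16
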