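import Groth.Agent.Lib.RankOne16.Charts
import Groth.Agent.Lib.TorsorSch25.ExactPts

/-!
# A homomorphism out of a group of semisimple rank one from generators and relations
-/

universe u

open CategoryTheory CategoryTheory.Limits MonoidalCategory CartesianMonoidalCategory MonObj AlgebraicGeometry

set_option linter.style.haveILetI false
set_option backward.isDefEq.respectTransparency false
set_option backward.isDefEq.respectTransparency.types false

noncomputable section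

namespace Groth.Agent.RankOne16

open RankOne (P A w Datum)

variable {S : Scheme.{u}}

/-- the cover of the target of two jointly surjective open immersions -/
def pairCover {U V Y : Scheme.{u}} (f : U ⟶ Y) (g : V ⟶ Y) [IsOpenImmersion f] [IsOpenImmersion g]
    (h : ∀ y, y ∈ Set.range f ∨ y ∈ Set.range g) : Y.OpenCover :=
  Scheme.Cover.mkOfCovers (P := @IsOpenImmersion) (ULift.{u} Bool) (fun b => cond b.down U V)
    (fun b => match b with
      | ⟨true⟩ => f
      | ⟨false⟩ => g)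
    (fun y => by
      rcases h y with ⟨z, hz⟩ | ⟨z, hz⟩
      exacts [⟨⟨true⟩, z, hz⟩, ⟨⟨false⟩, z, hz⟩])
    (fun b => by
      obtain ⟨⟨⟩⟩ := b <;> assumption)

/-- Morphisms glue along two charts. -/
theorem exists_glue {U V Y Z : Over S} (f : U ⟶ Y) (g : V ⟶ Y) [IsOpenImmersion f.left] [IsOpenImmersion g.left]
    (h : ∀ y, y ∈ Set.range f.left ∨ y ∈ Set.range g.left) (φ : U ⟶ Z) (ψ : V ⟶ Z)
    (hag : ∀ (X : Over S) (a : X ⟶ U) (b : X ⟶ V), a ≫ f = b ≫ g → a ≫ φ = b ≫ ψ) :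
    ∃ k : Y ⟶ Z, f ≫ k = φ ∧ g ≫ k = ψ := by
  let 𝒰 := pairCover f.left g.left h
  let loc : ∀ b : 𝒰.I₀, 𝒰.X b ⟶ Z.left := fun b => match (show ULift.{u} Bool from b) with
    | ⟨true⟩ => φ.left
    | ⟨false⟩ => ψ.left
  have hloc : ∀ b c : 𝒰.I₀, pullback.fst (𝒰.f b) (𝒰.f c) ≫ loc b = pullback.snd (𝒰.f b) (𝒰.f c) ≫ loc c := by
    haveI : Mono f.left := inferInstance
    haveI : Mono g.left := inferInstance
    rintro ⟨⟨⟩⟩ ⟨⟨⟩⟩
    · show pullback.fst g.left g.left ≫ ψ.left = pullback.snd g.left g.left ≫ ψ.left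
      rw [(cancel_mono g.left).1 pullback.condition]
    · show pullback.fst g.left f.left ≫ ψ.left = pullback.snd g.left f.left ≫ φ.left
      let X : Over S := Over.mk (pullback.fst g.left f.left ≫ V.hom)
      let b : X ⟶ V := Over.homMk (pullback.fst g.left f.left)
      let a : X ⟶ U := Over.homMk (pullback.snd g.left f.left) (by
        show pullback.snd g.left f.left ≫ U.hom = pullback.fst g.left f.left ≫ V.hom
        rw [← Over.w f, ← Over.w g, pullback.condition_assoc])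
      exact (congrArg CommaMorphism.left (hag X a b (Over.OverMorphism.ext pullback.condition.symm))).symm
    · show pullback.fst f.left g.left ≫ φ.left = pullback.snd f.left g.left ≫ ψ.left
      let X : Over S := Over.mk (pullback.fst f.left g.left ≫ U.hom)
      let a : X ⟶ U := Over.homMk (pullback.fst f.left g.left)
      let b : X ⟶ V := Over.homMk (pullback.snd f.left g.left) (by
        show pullback.snd f.left g.left ≫ V.hom = pullback.fst f.left g.left ≫ U.hom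
        rw [← Over.w f, ← Over.w g, pullback.condition_assoc])
      exact congrArg CommaMorphism.left (hag X a b (Over.OverMorphism.ext pullback.condition))
    · show pullback.fst f.left f.left ≫ φ.left = pullback.snd f.left f.left ≫ φ.left
      rw [(cancel_mono f.left).1 pullback.condition]
  let k := Scheme.Cover.glueMorphisms 𝒰 loc hloc
  refine ⟨Over.homMk k (Scheme.Cover.hom_ext 𝒰 _ _ fun b => ?_), ?_, ?_⟩
  · rw [Scheme.Cover.ι_glueMorphisms_assoc]
    obtain ⟨⟨⟩⟩ := b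
    · show ψ.left ≫ Z.hom = g.left ≫ Y.hom
      rw [Over.w, Over.w]
    · show φ.left ≫ Z.hom = f.left ≫ Y.hom
      rw [Over.w, Over.w]
  · exact Over.OverMorphism.ext (Scheme.Cover.ι_glueMorphisms 𝒰 loc hloc ⟨true⟩)
  · exact Over.OverMorphism.ext (Scheme.Cover.ι_glueMorphisms 𝒰 loc hloc ⟨false⟩)

/-- Equality of points after two opens covering the source. -/
theorem hom_ext_two {X Y Z : Over S} (k : X ⟶ Y) {U V : Over S} (f : U ⟶ Y) (g : V ⟶ Y) [IsOpenImmersion f.left]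
    [IsOpenImmersion g.left] (h : ∀ y, y ∈ Set.range f.left ∨ y ∈ Set.range g.left) (a b : X ⟶ Z)
    (hU : ∀ (X' : Over S) (e : X' ⟶ X) (z : X' ⟶ U), z ≫ f = e ≫ k → e ≫ a = e ≫ b)
    (hV : ∀ (X' : Over S) (e : X' ⟶ X) (z : X' ⟶ V), z ≫ g = e ≫ k → e ≫ a = e ≫ b) : a = b := by
  let 𝒰 := pairCover (pullback.snd f.left k.left) (pullback.snd g.left k.left) (fun x => by
    rw [Scheme.Pullback.range_snd, Scheme.Pullback.range_snd]
    exact h (k.left x))
  apply Over.OverMorphism.ext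
  refine Scheme.Cover.hom_ext 𝒰 _ _ fun c => ?_
  obtain ⟨⟨⟩⟩ := c
  · let X' : Over S := Over.mk (pullback.snd g.left k.left ≫ X.hom)
    let e : X' ⟶ X := Over.homMk (pullback.snd g.left k.left)
    let z : X' ⟶ V := Over.homMk (pullback.fst g.left k.left) (by
      show pullback.fst g.left k.left ≫ V.hom = pullback.snd g.left k.left ≫ X.hom
      rw [← Over.w g, ← Over.w k, pullback.condition_assoc])
    exact congrArg CommaMorphism.left (hV X' e z (Over.OverMorphism.ext pullback.condition))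
  · let X' : Over S := Over.mk (pullback.snd f.left k.left ≫ X.hom)
    let e : X' ⟶ X := Over.homMk (pullback.snd f.left k.left)
    let z : X' ⟶ U := Over.homMk (pullback.fst f.left k.left) (by
      show pullback.fst f.left k.left ≫ U.hom = pullback.snd f.left k.left ≫ X.hom
      rw [← Over.w f, ← Over.w k, pullback.condition_assoc])
    exact congrArg CommaMorphism.left (hU X' e z (Over.OverMorphism.ext pullback.condition))

/-- Equality of points on the two opens where one of two functions summing to one is invertible. -/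
theorem hom_ext_units {X Z : Over S} (a b : X ⟶ Z) (y u : Γ(X.left, ⊤)) (hsum : ∃ c d, c * y + d * u = 1)
    (hy : ∀ (X' : Over S) (e : X' ⟶ X), IsUnit (e.left.appTop y) → e ≫ a = e ≫ b)
    (hu : ∀ (X' : Over S) (e : X' ⟶ X), IsUnit (e.left.appTop u) → e ≫ a = e ≫ b) : a = b := by
  have hunit : ∀ z : Γ(X.left, ⊤), IsUnit ((X.left.basicOpen z).ι.appTop z) := fun z => by
    have hz := RingedSpace.isUnit_res_basicOpen X.left.toRingedSpace z
    have h' := hz.map (X.left.presheaf.map (homOfLE (show (X.left.basicOpen z).ι ''ᵁ ⊤ ≤ X.left.basicOpen z by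
      rw [Scheme.Opens.ι_image_top])).op).hom
    erw [← CommRingCat.comp_apply, ← Functor.map_comp] at h'
    rw [Scheme.Opens.ι_appTop]
    exact h'
  let 𝒰 := pairCover (X.left.basicOpen y).ι (X.left.basicOpen u).ι (fun x => by
    rw [Scheme.Opens.range_ι, Scheme.Opens.range_ι]
    obtain ⟨c, d, hcd⟩ := hsum
    by_contra hne
    push_neg at hne
    obtain ⟨h1, h2⟩ := hne
    simp only [SetLike.mem_coe, Scheme.mem_basicOpen_top] at h1 h2
    have h3 := congrArg (X.left.presheaf.germ ⊤ x trivial) hcd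
    rw [map_add, map_mul, map_mul, map_one] at h3
    exact (IsLocalRing.maximalIdeal.isMaximal _).ne_top (Ideal.eq_top_of_isUnit_mem _ (h3 ▸ Ideal.add_mem _
      (Ideal.mul_mem_left _ _ ((IsLocalRing.mem_maximalIdeal _).2 h1))
      (Ideal.mul_mem_left _ _ ((IsLocalRing.mem_maximalIdeal _).2 h2))) isUnit_one))
  apply Over.OverMorphism.ext
  refine Scheme.Cover.hom_ext 𝒰 _ _ fun c => ?_
  obtain ⟨⟨⟩⟩ := c
  · exact congrArg CommaMorphism.left (hu (Over.mk ((X.left.basicOpen u).ι ≫ X.hom)) (Over.homMk (X.left.basicOpen u).ι) (hunit u))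
  · exact congrArg CommaMorphism.left (hy (Over.mk ((X.left.basicOpen y).ι ≫ X.hom)) (Over.homMk (X.left.basicOpen y).ι) (hunit y))

/-- A unit avoiding two linear conditions exists after a cover. -/
theorem exists_cover_three (X : Over S) (x y : Γ(X.left, ⊤)) :
    ∃ (X' : Over S) (g : X' ⟶ X) (v : (Γ(X'.left, ⊤))ˣ), Epi g ∧
      IsUnit (g.left.appTop y - (v : Γ(X'.left, ⊤))) ∧ IsUnit (1 + g.left.appTop x * (v : Γ(X'.left, ⊤))) := by
  let A := Γ(X.left, ⊤)
  let P₀ : Polynomial A := Polynomial.X * (Polynomial.C y - Polynomial.X) * (1 + Polynomial.C x * Polynomial.X)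
  let B := Localization.Away P₀
  let c : Spec (CommRingCat.of B) ⟶ Spec Γ(X.left, ⊤) := Spec.map (CommRingCat.ofHom (algebraMap A B))
  haveI : Module.Flat A B := Module.Flat.trans A (Polynomial A) B
  haveI : Flat c := (HasRingHomProperty.Spec_iff (P := @Flat)).mpr (RingHom.flat_algebraMap_iff.2 inferInstance)
  haveI : Surjective c := (surjective_iff c).mpr fun p => by
    let q : Ideal (Polynomial A) := Ideal.map Polynomial.C p.asIdeal
    haveI := p.2
    haveI : q.IsPrime := Ideal.isPrime_map_C_of_isPrime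
    have hX : Polynomial.X ∉ q := fun h => p.2.ne_top ((Ideal.eq_top_iff_one _).2 (by
      simpa using (Ideal.mem_map_C_iff.1 h 1)))
    have h1 : Polynomial.C y - Polynomial.X ∉ q := fun h => p.2.ne_top ((Ideal.eq_top_iff_one _).2 (by
      simpa using (p.asIdeal.neg_mem (Ideal.mem_map_C_iff.1 h 1))))
    have h2 : 1 + Polynomial.C x * Polynomial.X ∉ q := fun h => p.2.ne_top ((Ideal.eq_top_iff_one _).2 (by
      simpa using (Ideal.mem_map_C_iff.1 h 0)))
    have hP : P₀ ∉ q := fun h => by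
      rcases (Ideal.IsPrime.mem_or_mem ‹q.IsPrime› h) with h' | h'
      · rcases (Ideal.IsPrime.mem_or_mem ‹q.IsPrime› h') with h'' | h''
        exacts [hX h'', h1 h'']
      · exact h2 h'
    obtain ⟨r, hr⟩ : (⟨q, ‹q.IsPrime›⟩ : PrimeSpectrum (Polynomial A)) ∈
        Set.range (PrimeSpectrum.comap (algebraMap (Polynomial A) B)) := by
      rw [PrimeSpectrum.localization_away_comap_range B P₀]; exact hP
    refine ⟨r, PrimeSpectrum.ext ?_⟩
    show Ideal.comap (algebraMap A B) r.asIdeal = p.asIdeal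
    rw [IsScalarTower.algebraMap_eq A (Polynomial A) B, ← Ideal.comap_comap,
      show Ideal.comap (algebraMap (Polynomial A) B) r.asIdeal = q from congrArg PrimeSpectrum.asIdeal hr]
    refine le_antisymm (fun a ha => ?_) Ideal.le_comap_map
    simpa using Ideal.mem_map_C_iff.1 ha 0
  haveI : Epi (pullback.fst X.left.toSpecΓ c) := Flat.epi_of_flat_of_surjective _
  let X' : Over S := Over.mk (pullback.fst X.left.toSpecΓ c ≫ X.hom)
  let g : X' ⟶ X := Over.homMk (pullback.fst X.left.toSpecΓ c)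
  haveI : Epi g.left := ‹Epi (pullback.fst X.left.toSpecΓ c)›
  let φ : B →+* Γ(X'.left, ⊤) :=
    ((Scheme.ΓSpecIso (CommRingCat.of B)).inv ≫ (pullback.snd X.left.toSpecΓ c).appTop).hom
  have hφ : φ.comp (algebraMap A B) = g.left.appTop.hom := by
    have h1 : CommRingCat.ofHom (algebraMap A B) ≫ (Scheme.ΓSpecIso (CommRingCat.of B)).inv =
        (Scheme.ΓSpecIso Γ(X.left, ⊤)).inv ≫ c.appTop :=
      Scheme.ΓSpecIso_inv_naturality (CommRingCat.ofHom (algebraMap A B))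
    have h2 : (Scheme.ΓSpecIso Γ(X.left, ⊤)).inv ≫ X.left.toSpecΓ.appTop = 𝟙 _ := by
      rw [Scheme.toSpecΓ_appTop, Iso.inv_hom_id]
    have h3 : CommRingCat.ofHom (algebraMap A B) ≫
        ((Scheme.ΓSpecIso (CommRingCat.of B)).inv ≫ (pullback.snd X.left.toSpecΓ c).appTop) = g.left.appTop := by
      rw [reassoc_of% h1, ← Scheme.Hom.comp_appTop, ← pullback.condition, Scheme.Hom.comp_appTop, reassoc_of% h2]
      rfl
    exact congrArg CommRingCat.Hom.hom h3
  let ψ : Polynomial A →+* Γ(X'.left, ⊤) := φ.comp (algebraMap (Polynomial A) B)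
  have hC : ∀ a : A, ψ (Polynomial.C a) = g.left.appTop.hom a := fun a => by
    rw [← hφ, IsScalarTower.algebraMap_eq A (Polynomial A) B]; rfl
  have hu : IsUnit (ψ P₀) := (IsLocalization.Away.algebraMap_isUnit (S := B) P₀).map φ
  simp only [P₀, map_mul, map_sub, map_add, map_one, IsUnit.mul_iff] at hu
  obtain ⟨⟨⟨v, hv⟩, h1⟩, h2⟩ := hu
  rw [hC] at h1 h2
  refine ⟨X', g, v, Over.epi_of_epi_left _, ?_, ?_⟩
  · rw [hv]; exact h1
  · rw [hv]; exact h2

variable {G T H : Over S} [GrpObj G] [GrpObj T] [GrpObj H]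
variable {i : T ⟶ G} {α : T ⟶ Red.Gm S} {pp pm : Red.Ga S ⟶ G} {av : Red.Gm S ⟶ T}
  {fT : T ⟶ H} {fP : Red.Ga S ⟶ H} {h : 𝟙_ (Over S) ⟶ H}

section
variable (R : Rel T α av H fT fP h)
include R

/-- The commutation rule in the relations, one coordinate invertible. -/
theorem Rel.P_mul_F1_unit {X : Over S} (b : Γ(X.left, ⊤)) (y : (Γ(X.left, ⊤))ˣ) (t : X ⟶ T) (x : Γ(X.left, ⊤)) :
    P fP b * F1 fT fP h (y : Γ(X.left, ⊤)) t x = F2 fT fP h (b + (((y⁻¹ : (Γ(X.left, ⊤))ˣ)) : Γ(X.left, ⊤)))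
      ((GmPts.ptOfUnit (-y⁻¹) ≫ av) * sT α av t)
      (-((((GmPts.unitOfPt (t ≫ α))⁻¹ : (Γ(X.left, ⊤))ˣ) : Γ(X.left, ⊤)) * (((y⁻¹ : (Γ(X.left, ⊤))ˣ)) : Γ(X.left, ⊤)) + x)) := by
  rw [R.F1_eq_F2, R.P_mul_F2]

theorem Rel.P_mul_FM_unit {X : Over S} (b : Γ(X.left, ⊤)) (y u : (Γ(X.left, ⊤))ˣ)
    (hu : (u : Γ(X.left, ⊤)) = 1 + b * (y : Γ(X.left, ⊤))) :
    P fP b * FM fP h (y : Γ(X.left, ⊤)) =
      F1 fT fP h ((y * u⁻¹ : (Γ(X.left, ⊤))ˣ) : Γ(X.left, ⊤)) (GmPts.ptOfUnit u ≫ av)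
        (b * (((u⁻¹ : (Γ(X.left, ⊤))ˣ)) : Γ(X.left, ⊤))) := by
  have := R.hom_P; have := R.hom_T; have := R.hom_av; have := R.hom_α
  have h1 := R.P_mul_F1_unit b y 1 0
  have e0 : F1 fT fP h (y : Γ(X.left, ⊤)) (1 : X ⟶ T) 0 = FM fP h (y : Γ(X.left, ⊤)) := by
    rw [F1, MonObj.one_comp, RankOne.P_zero, _root_.mul_one, _root_.mul_one]
  rw [e0] at h1
  rw [h1, R.F1_eq_F2 (y * u⁻¹) _ (b * (((u⁻¹ : (Γ(X.left, ⊤))ˣ)) : Γ(X.left, ⊤)))]
  have e1 : sT α av (1 : X ⟶ T) = 1 := by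
    rw [sT, MonObj.one_comp, inv_one, _root_.mul_one]
  rw [e1, _root_.mul_one, MonObj.one_comp, GmPts.unitOfPt_one, inv_one, Units.val_one, _root_.one_mul, add_zero,
    R.sT_av, R.h2, ← MonObj.mul_comp, ← GmPts.ptOfUnit_mul]
  have hy := Units.mul_inv y
  have hu' := Units.mul_inv u
  congr 1
  · simp only [mul_inv_rev, inv_inv, Units.val_mul]
    linear_combination (-(((y⁻¹ : (Γ(X.left, ⊤))ˣ)) : Γ(X.left, ⊤))) * hu - b * hy
  · congr 2
    simp [_root_.mul_comm, _root_.mul_left_comm]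
  · simp only [mul_inv_rev, inv_inv, Units.val_mul, Units.val_neg]
    set Y := (((y⁻¹ : (Γ(X.left, ⊤))ˣ)) : Γ(X.left, ⊤))
    set Ui := (((u⁻¹ : (Γ(X.left, ⊤))ˣ)) : Γ(X.left, ⊤))
    linear_combination (Ui * Y + Y) * hu' - b * Ui * hy - Ui * Y * hu

/-- The commutation rule of the relations. -/
theorem Rel.P_mul_FM {X : Over S} (b y : Γ(X.left, ⊤)) (u : (Γ(X.left, ⊤))ˣ) (hu : (u : Γ(X.left, ⊤)) = 1 + b * y) :
    P fP b * FM fP h y = F1 fT fP h (y * (((u⁻¹ : (Γ(X.left, ⊤))ˣ)) : Γ(X.left, ⊤))) (GmPts.ptOfUnit u ≫ av)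
        (b * (((u⁻¹ : (Γ(X.left, ⊤))ˣ)) : Γ(X.left, ⊤))) := by
  obtain ⟨X', g, v, hg, hv1, hv2⟩ := exists_cover_three X b y
  haveI := hg
  rw [← cancel_epi g, R.comp_F1, MonObj.comp_mul, RankOne.comp_P, comp_FM, map_mul, map_mul, ← Category.assoc,
    GmPts.ptOfUnit_comp]
  set U := Units.map g.left.appTop.hom.toMonoidHom u
  set B := g.left.appTop b
  set Y := g.left.appTop y
  have hUval : (U : Γ(X'.left, ⊤)) = g.left.appTop (u : Γ(X.left, ⊤)) := rfl
  have hUinv : g.left.appTop (((u⁻¹ : (Γ(X.left, ⊤))ˣ)) : Γ(X.left, ⊤)) = (((U⁻¹ : (Γ(X'.left, ⊤))ˣ)) : Γ(X'.left, ⊤)) := rfl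
  rw [hUinv]
  have hU : (U : Γ(X'.left, ⊤)) = 1 + B * Y := by rw [hUval, hu, map_add, map_one, map_mul]
  set u1 := hv2.unit
  have hu1 : (u1 : Γ(X'.left, ⊤)) = 1 + B * (v : Γ(X'.left, ⊤)) := hv2.unit_spec
  set y2 := hv1.unit
  have hy2 : (y2 : Γ(X'.left, ⊤)) = Y - (v : Γ(X'.left, ⊤)) := hv1.unit_spec
  set B1 := B * (((u1⁻¹ : (Γ(X'.left, ⊤))ˣ)) : Γ(X'.left, ⊤))
  set u2 := U * u1⁻¹
  have hu2 : (u2 : Γ(X'.left, ⊤)) = 1 + B1 * (y2 : Γ(X'.left, ⊤)) := by
    simp only [u2, B1, Units.val_mul, hU, hy2]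
    linear_combination (-(((u1⁻¹ : (Γ(X'.left, ⊤))ˣ)) : Γ(X'.left, ⊤))) * hu1 + Units.mul_inv u1
  have := R.hom_T; have := R.hom_P; have := R.hom_av
  calc P fP B * FM fP h Y = P fP B * FM fP h (v : Γ(X'.left, ⊤)) * FM fP h (y2 : Γ(X'.left, ⊤)) := by
        rw [_root_.mul_assoc, ← R.FM_add, hy2, add_sub_cancel]
    _ = FM fP h ((v * u1⁻¹ : (Γ(X'.left, ⊤))ˣ) : Γ(X'.left, ⊤)) * ((GmPts.ptOfUnit u1 ≫ av) ≫ fT) *
          (P fP B1 * FM fP h (y2 : Γ(X'.left, ⊤))) := by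
        rw [R.P_mul_FM_unit B v u1 hu1, F1]; simp only [_root_.mul_assoc]; rfl
    _ = FM fP h (Y * (((U⁻¹ : (Γ(X'.left, ⊤))ˣ)) : Γ(X'.left, ⊤))) * (A fT av u1 * A fT av u2) *
          P fP (B1 * (((u2⁻¹ : (Γ(X'.left, ⊤))ˣ)) : Γ(X'.left, ⊤))) := by
        rw [R.P_mul_FM_unit B1 y2 u2 hu2, F1, ← R.A_eq, ← R.A_eq]
        rw [show Y * (((U⁻¹ : (Γ(X'.left, ⊤))ˣ)) : Γ(X'.left, ⊤)) = ((v * u1⁻¹ : (Γ(X'.left, ⊤))ˣ) : Γ(X'.left, ⊤)) +
          (((u1⁻¹ : (Γ(X'.left, ⊤))ˣ)) : Γ(X'.left, ⊤)) * (((u1⁻¹ : (Γ(X'.left, ⊤))ˣ)) : Γ(X'.left, ⊤)) *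
            ((y2 * u2⁻¹ : (Γ(X'.left, ⊤))ˣ) : Γ(X'.left, ⊤)) from ?_, R.FM_add]
        · simp only [_root_.mul_assoc]
          congr 1
          rw [← _root_.mul_assoc (A fT av u1), R.A_mul_FM]
          simp only [_root_.mul_assoc]
        · simp only [u2, Units.val_mul, mul_inv_rev, inv_inv, hy2]
          have e := Units.mul_inv u1
          have e' := Units.mul_inv U
          set Ui := (((U⁻¹ : (Γ(X'.left, ⊤))ˣ)) : Γ(X'.left, ⊤))
          set u1i := (((u1⁻¹ : (Γ(X'.left, ⊤))ˣ)) : Γ(X'.left, ⊤))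
          linear_combination u1i * Ui * Y * hu1 - u1i * Ui * (v : Γ(X'.left, ⊤)) * hU + (v : Γ(X'.left, ⊤)) * u1i * e' -
            (Y * Ui + u1i * (Y - (v : Γ(X'.left, ⊤))) * Ui) * e
    _ = _ := by
        rw [← RankOne.A_mul, show u1 * u2 = U by simp [u2], F1, ← R.A_eq,
          show B1 * (((u2⁻¹ : (Γ(X'.left, ⊤))ˣ)) : Γ(X'.left, ⊤)) = B * (((U⁻¹ : (Γ(X'.left, ⊤))ˣ)) : Γ(X'.left, ⊤)) by
            simp only [u2, B1, mul_inv_rev, inv_inv, Units.val_mul]
            linear_combination (B * (((U⁻¹ : (Γ(X'.left, ⊤))ˣ)) : Γ(X'.left, ⊤))) * Units.mul_inv u1]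

end

variable (D : Datum i α pp pm av) [IsMonHom α] (hT : Red.IsTorus T)
variable (hΩ : IsOpenImmersion (cellMap i pp pm).left) (hG : Rig G) (R : Rel T α av H fT fP h)
include D hT hΩ hG R

/-- Generators and relations give a homomorphism. -/
theorem exists_hom : ∃ f : G ⟶ H, IsMonHom f ∧ i ≫ f = fT ∧ pp ≫ f = fP ∧
    (W pp pm : 𝟙_ (Over S) ⟶ G) ≫ f = h := by
  have := D.hom_i; have := D.hom_pp; have := D.hom_pm; have := R.hom_T; have := R.hom_P
  haveI := hΩ
  haveI := isOpenImmersion_kap2 D hT hΩ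
  have hcov := range_cover D hT hΩ hG
  let Z := Dom T
  let ca : Z ⟶ Red.Ga S := fst (Red.Ga S ⊗ T) (Red.Ga S) ≫ fst (Red.Ga S) T
  let ct : Z ⟶ T := fst (Red.Ga S ⊗ T) (Red.Ga S) ≫ snd (Red.Ga S) T
  let cb : Z ⟶ Red.Ga S := snd (Red.Ga S ⊗ T) (Red.Ga S)
  let φ1 : Z ⟶ H := F1 fT fP h (Red.gaFn ca) ct (Red.gaFn cb)
  let φ2 : Z ⟶ H := F2 fT fP h (Red.gaFn ca) ct (Red.gaFn cb)
  have hlift : ∀ {X : Over S} (z : X ⟶ Z), z = lift (lift (GaPts.ptOfFn (Red.gaFn (z ≫ ca))) (z ≫ ct))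
      (GaPts.ptOfFn (Red.gaFn (z ≫ cb))) := fun z => by
    have e : ∀ {X' : Over S} (w : X' ⟶ Red.Ga S), GaPts.ptOfFn (Red.gaFn w) = w := fun w => GaPts.gaFn_injective (GaPts.gaFn_ptOfFn _)
    rw [e, e]
    apply CartesianMonoidalCategory.hom_ext
    · apply CartesianMonoidalCategory.hom_ext <;> simp [ca, ct]
    · simp [cb]
  have h1 : ∀ {X : Over S} (y : Γ(X.left, ⊤)) (t : X ⟶ T) (x : Γ(X.left, ⊤)),
      lift (lift (GaPts.ptOfFn y) t) (GaPts.ptOfFn x) ≫ φ1 = F1 fT fP h y t x ∧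
      lift (lift (GaPts.ptOfFn y) t) (GaPts.ptOfFn x) ≫ φ2 = F2 fT fP h y t x := fun y t x => by
    constructor <;>
    simp only [φ1, φ2, R.comp_F1, R.comp_F2, ← GaPts.gaFn_comp, ca, ct, cb, lift_fst_assoc, lift_fst, lift_snd,
      GaPts.gaFn_ptOfFn]
  obtain ⟨f, hf1, hf2⟩ := exists_glue (cellMap i pp pm) (kap2 i pp pm) hcov φ1 φ2 fun X a b hab => by
    rw [hlift a, hlift b] at hab ⊢
    rw [← cell_eq, lift_kap2] at hab
    obtain ⟨y, hy⟩ := isUnit_overlap D hT hΩ hab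
    rw [(h1 _ _ _).1, (h1 _ _ _).2]
    have hG2 := (relG D hT).F1_eq_F2 y (a ≫ ct) (Red.gaFn (a ≫ cb))
    rw [F1_eq D hT, F2_eq D hT, hy, hab, ← lift_kap2, ← lift_kap2] at hG2
    haveI : Mono (kap2 i pp pm) := Over.mono_of_mono_left _
    have h2 := congrArg (fun z => z ≫ φ2) ((cancel_mono (kap2 i pp pm)).1 hG2)
    simp only [(h1 _ _ _).2] at h2
    rw [h2, ← R.F1_eq_F2, hy]
  have e1 : ∀ {X : Over S} (y : Γ(X.left, ⊤)) (t : X ⟶ T) (x : Γ(X.left, ⊤)),
      cell i pp pm y t x ≫ f = F1 fT fP h y t x := fun y t x => by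
    rw [cell_eq, Category.assoc, hf1, (h1 _ _ _).1]
  have e2 : ∀ {X : Over S} (a : Γ(X.left, ⊤)) (t : X ⟶ T) (c : Γ(X.left, ⊤)),
      (P pp a * (t ≫ i) * P pm c * W pp pm) ≫ f = F2 fT fP h a t c := fun a t c => by
    rw [← lift_kap2, Category.assoc, hf2, (h1 _ _ _).2]
  -- reduce an identity to the two charts
  have charts : ∀ {X : Over S} (k : X ⟶ G) (Φ Ψ : ∀ X' : Over S, (X' ⟶ X) → (X' ⟶ G) → (X' ⟶ H)),
      (∀ (X' : Over S) (e : X' ⟶ X), e ≫ Φ X (𝟙 X) k = Φ X' e (e ≫ k) ∧ e ≫ Ψ X (𝟙 X) k = Ψ X' e (e ≫ k)) →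
      (∀ (X' : Over S) (e : X' ⟶ X) y t x, Φ X' e (cell i pp pm y t x) = Ψ X' e (cell i pp pm y t x)) →
      (∀ (X' : Over S) (e : X' ⟶ X) a t c, Φ X' e (P pp a * (t ≫ i) * P pm c * W pp pm) =
        Ψ X' e (P pp a * (t ≫ i) * P pm c * W pp pm)) → Φ X (𝟙 X) k = Ψ X (𝟙 X) k := by
    intro X k Φ Ψ hnat hc1 hc2
    refine hom_ext_two k (cellMap i pp pm) (kap2 i pp pm) hcov _ _ (fun X' e z hz => ?_) (fun X' e z hz => ?_)
    · rw [(hnat X' e).1, (hnat X' e).2, ← hz, hlift z, ← cell_eq]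
      exact hc1 _ _ _ _ _
    · rw [(hnat X' e).1, (hnat X' e).2, ← hz, hlift z, lift_kap2]
      exact hc2 _ _ _ _ _
  -- left multiplication by the generators
  have lT : ∀ {X : Over S} (s : X ⟶ T) (k : X ⟶ G), ((s ≫ i) * k) ≫ f = (s ≫ fT) * (k ≫ f) := by
    intro X s k
    have := charts k (fun _ e k' => (((e ≫ s) ≫ i) * k') ≫ f) (fun _ e k' => ((e ≫ s) ≫ fT) * (k' ≫ f))
      (fun X' e => ⟨by rw [Category.id_comp, ← Category.assoc, MonObj.comp_mul]; simp only [Category.assoc],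
        by rw [Category.id_comp, MonObj.comp_mul]; simp only [Category.assoc]⟩)
      (fun X' e y t x => by
        have := (relG D hT).T_mul_F1 (e ≫ s) y t x
        rw [F1_eq D hT, F1_eq D hT] at this
        rw [this, e1, e1, R.T_mul_F1])
      (fun X' e a t c => by
        have := (relG D hT).T_mul_F2 (e ≫ s) a t c
        rw [F2_eq D hT, F2_eq D hT] at this
        rw [this, e2, e2, R.T_mul_F2])
    simpa only [Category.id_comp] using this
  have lW : ∀ {X : Over S} (k : X ⟶ G), (W pp pm * k) ≫ f = hW h X * (k ≫ f) := by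
    intro X k
    exact charts k (fun _ _ k' => (W pp pm * k') ≫ f) (fun X' _ k' => hW h X' * (k' ≫ f))
      (fun X' e => ⟨by rw [← Category.assoc, MonObj.comp_mul, comp_W],
        by rw [MonObj.comp_mul, comp_hW]; simp only [Category.assoc]⟩)
      (fun X' e y t x => by
        have := (relG D hT).hW_mul_F1 y t x
        rw [F1_eq D hT, F2_eq D hT, hW_eq D hT] at this
        rw [this, e1, e2, R.hW_mul_F1])
      (fun X' e a t c => by
        have := (relG D hT).hW_mul_F2 a t c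
        rw [F1_eq D hT, F2_eq D hT, hW_eq D hT] at this
        rw [this, e1, e2, R.hW_mul_F2])
  have lP : ∀ {X : Over S} (b : Γ(X.left, ⊤)) (k : X ⟶ G), (P pp b * k) ≫ f = P fP b * (k ≫ f) := by
    intro X b k
    have := charts k (fun _ e k' => (P pp (e.left.appTop b) * k') ≫ f) (fun _ e k' => P fP (e.left.appTop b) * (k' ≫ f))
      (fun X' e => ⟨by rw [← Category.assoc, MonObj.comp_mul, RankOne.comp_P]; simp,
        by rw [MonObj.comp_mul, RankOne.comp_P]; simp [Category.assoc]⟩)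
      (fun X' e y t x => by
        set B := e.left.appTop b
        refine hom_ext_units _ _ y (1 + B * y) ⟨-B, 1, by ring⟩ (fun X'' e' hy => ?_) (fun X'' e' hu => ?_)
        · rw [← Category.assoc, MonObj.comp_mul, MonObj.comp_mul, RankOne.comp_P, RankOne.comp_P, ← Category.assoc,
            comp_cell]
          obtain ⟨y', hy'⟩ := hy
          rw [← hy']
          have := (relG D hT).P_mul_F1_unit (e'.left.appTop B) y' (e' ≫ t) (e'.left.appTop x)
          rw [F1_eq D hT, F2_eq D hT] at this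
          rw [this, e1, e2, R.P_mul_F1_unit]
        · rw [← Category.assoc, MonObj.comp_mul, MonObj.comp_mul, RankOne.comp_P, RankOne.comp_P, ← Category.assoc,
            comp_cell]
          obtain ⟨u, hu'⟩ := hu
          rw [map_add, map_one, map_mul] at hu'
          set B' := e'.left.appTop B
          set y' := e'.left.appTop y
          set x' := e'.left.appTop x
          set t' := e' ≫ t
          have hGf := (relG D hT).P_mul_FM B' y' u hu'
          have hHf := R.P_mul_FM B' y' u hu'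
          set Ui := (((u⁻¹ : (Γ(X''.left, ⊤))ˣ)) : Γ(X''.left, ⊤))
          set z := ((((GmPts.unitOfPt (t' ≫ α))⁻¹ : (Γ(X''.left, ⊤))ˣ) : Γ(X''.left, ⊤))) * (B' * Ui) + x'
          have comb : ∀ {K' : Over S} [GrpObj K'] {fT' : T ⟶ K'} {fP' : Red.Ga S ⟶ K'} {h' : 𝟙_ (Over S) ⟶ K'}
              (R' : Rel T α av K' fT' fP' h'),
              P fP' B' * F1 fT' fP' h' y' t' x' = F1 fT' fP' h' (y' * Ui) ((GmPts.ptOfUnit u ≫ av) * t') z := by
            intro K' _ fT' fP' h' R'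
            have := R'.hom_P; have := R'.hom_T
            have e0 := R'.P_mul_FM B' y' u hu'
            calc P fP' B' * F1 fT' fP' h' y' t' x' = (P fP' B' * FM fP' h' y') * (t' ≫ fT') * P fP' x' := by
                  rw [F1]; simp only [_root_.mul_assoc]
              _ = FM fP' h' (y' * Ui) * ((GmPts.ptOfUnit u ≫ av) ≫ fT') * ((P fP' (B' * Ui) * (t' ≫ fT')) * P fP' x') := by
                  rw [e0, F1]; simp only [_root_.mul_assoc]; rfl
              _ = _ := by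
                  rw [R'.P_mul_T, F1, MonObj.mul_comp, RankOne.P_add]; simp only [_root_.mul_assoc]
          have hG' := comb (relG D hT)
          rw [F1_eq D hT, F1_eq D hT] at hG'
          rw [hG', e1, e1, comb R])
      (fun X' e a t c => by
        have := (relG D hT).P_mul_F2 (e.left.appTop b) a t c
        rw [F2_eq D hT, F2_eq D hT] at this
        rw [this, e2, e2, R.P_mul_F2])
    simpa using this
  have lWi : ∀ {X : Over S} (k : X ⟶ G), ((W pp pm)⁻¹ * k) ≫ f = (hW h X)⁻¹ * (k ≫ f) := fun k => by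
    rw [eq_inv_mul_iff_mul_eq, ← lW, mul_inv_cancel_left]
  have lM : ∀ {X : Over S} (a : Γ(X.left, ⊤)) (k : X ⟶ G), (P pm a * k) ≫ f = FM fP h a * (k ≫ f) := fun {X} a k => by
    rw [show P pm a = W pp pm * P pp (-a) * (W pp pm : X ⟶ G)⁻¹ by rw [W_conj_P D, neg_neg], _root_.mul_assoc,
      _root_.mul_assoc, lW, lP, lWi, FM]
    simp only [_root_.mul_assoc]
  have lcell : ∀ {X : Over S} y (t : X ⟶ T) x (k : X ⟶ G),
      (cell i pp pm y t x * k) ≫ f = (cell i pp pm y t x ≫ f) * (k ≫ f) := fun y t x k => by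
    rw [e1, cell, F1, _root_.mul_assoc, _root_.mul_assoc, lM, lT, lP]
    simp only [_root_.mul_assoc]
  have hone : ∀ X : Over S, (1 : X ⟶ G) ≫ f = 1 := fun X => by
    rw [show (1 : X ⟶ G) = cell i pp pm 0 1 0 by
      rw [cell, RankOne.P_zero, RankOne.P_zero, MonObj.one_comp, _root_.one_mul, _root_.one_mul], e1, F1, R.FM_zero,
      RankOne.P_zero, MonObj.one_comp, _root_.one_mul, _root_.one_mul]
  have lcelli : ∀ {X : Over S} y (t : X ⟶ T) x (k : X ⟶ G),
      ((cell i pp pm y t x)⁻¹ * k) ≫ f = (cell i pp pm y t x ≫ f)⁻¹ * (k ≫ f) := fun y t x k => by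
    rw [eq_inv_mul_iff_mul_eq, ← lcell, mul_inv_cancel_left]
  have hmul : ∀ (X : Over S) (g k : X ⟶ G), (g * k) ≫ f = (g ≫ f) * (k ≫ f) := fun X g k => by
    obtain ⟨X', e, a, b, a', b', t, t', ⟨he, -, -⟩, hg⟩ := exists_cover_cells hΩ hG g
    haveI := he
    have hg' : (e ≫ g) ≫ f = (cell i pp pm a t b ≫ f) * (cell i pp pm a' t' b' ≫ f)⁻¹ := by
      rw [hg, lcell]
      conv_lhs => rw [← _root_.mul_one (cell i pp pm a' t' b')⁻¹, lcelli, hone, _root_.mul_one]
    rw [← cancel_epi e, ← Category.assoc, MonObj.comp_mul, MonObj.comp_mul, ← Category.assoc, ← Category.assoc, hg',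
      hg, _root_.mul_assoc, lcell, lcelli, _root_.mul_assoc]
  haveI hf : IsMonHom f := TorsorSch25.isMonHom_of_points f hmul
  refine ⟨f, hf, ?_, ?_, ?_⟩
  · have h0 := lT (𝟙 T) 1
    rwa [hone, _root_.mul_one, _root_.mul_one, Category.id_comp, Category.id_comp] at h0
  · have h0 := lP (Red.gaFn (𝟙 (Red.Ga S))) 1
    rwa [hone, _root_.mul_one, _root_.mul_one, ← RankOne.comp_eq_P, ← RankOne.comp_eq_P, Category.id_comp,
      Category.id_comp] at h0
  · have h0 := lW (X := 𝟙_ (Over S)) 1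
    rw [hone, _root_.mul_one, _root_.mul_one] at h0
    rw [h0, hW, Subsingleton.elim (toUnit (𝟙_ (Over S))) (𝟙 _), Category.id_comp]

omit R in
/-- Homomorphisms are determined by the generators. -/
theorem hom_unique (f f' : G ⟶ H) [IsMonHom f] [IsMonHom f'] (hi : i ≫ f = i ≫ f') (hp : pp ≫ f = pp ≫ f')
    (hw : (W pp pm : 𝟙_ (Over S) ⟶ G) ≫ f = W pp pm ≫ f') : f = f' := by
  have := D.hom_i; have := D.hom_pp; have := D.hom_pm
  refine hom_ext_gens hΩ hG f f' hi hp ?_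
  have hP : ∀ (X : Over S) (a : Γ(X.left, ⊤)), P pp a ≫ f = P pp a ≫ f' := fun X a => by
    rw [P, Category.assoc, Category.assoc, hp]
  have hWX : ∀ X : Over S, (W pp pm : X ⟶ G) ≫ f = W pp pm ≫ f' := fun X => by
    rw [← comp_W (toUnit X), Category.assoc, Category.assoc, hw]
  rw [← Category.id_comp pm, RankOne.comp_eq_P, show P pm (Red.gaFn (𝟙 (Red.Ga S))) =
    W pp pm * P pp (-Red.gaFn (𝟙 (Red.Ga S))) * (W pp pm : Red.Ga S ⟶ G)⁻¹ by rw [W_conj_P D, neg_neg],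
    MonObj.mul_comp, MonObj.mul_comp, MonObj.mul_comp, MonObj.mul_comp, GrpObj.inv_comp, GrpObj.inv_comp, hP, hWX]

end Groth.Agent.RankOne16
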