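import Groth.Agent.Lib.RankOne16.Scale
import Groth.Agent.Lib.MTRigid29.BaseChange

/-!
# `Gm` is a torus and squaring is non-trivial
-/

universe u

open CategoryTheory CategoryTheory.Limits MonoidalCategory CartesianMonoidalCategory MonObj AlgebraicGeometry

set_option linter.style.haveILetI false
set_option backward.isDefEq.respectTransparency false
set_option backward.isDefEq.respectTransparency.types false

noncomputable section

namespace Groth.Agent.RankOne16

open DiagGL

variable {S : Scheme.{u}}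

/-- reindexing the characters -/
def charsReindex {M N : Type} [AddCommGroup M] [AddCommGroup N] {σ : Over S} [GrpObj σ] (C : Chars M σ) (e : N ≃+ M) :
    Chars N σ where
  ch x := (C.ch x).comp (AddMonoidHom.toMultiplicative e.toAddMonoidHom)
  nat t x a := C.nat t x _
  mul x y a := C.mul x y _
  inj {T x y} h := C.inj fun a => by
    have := h (Multiplicative.ofAdd (e.symm a.toAdd))
    simpa using this
  surj {T} c := by
    obtain ⟨x, hx⟩ := C.surj (c.comp (AddMonoidHom.toMultiplicative e.symm.toAddMonoidHom))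
    refine ⟨x, ?_⟩
    rw [hx]
    ext a
    simp

theorem isTorus_Gm (S : Scheme.{u}) : Red.IsTorus (Red.Gm S) := by
  refine ⟨S, 𝟙 S, inferInstance, inferInstance, fun V hV => ⟨V, hV.isCompact, by simp⟩,
    fun s => ⟨⊤, trivial, 1, ?_⟩⟩
  exact MTRigid29.nonempty_grpIso_of_chars
    (charsReindex (Chars.baseChange _ _ (charsDS S ℤ)) (LinearEquiv.funUnique (Fin 1) ℤ ℤ).toAddEquiv)
    (charsDS _ (Fin 1 → ℤ))

theorem map_pow_ne_one {T : Over S} (β : T ⟶ Red.Gm S) (n : ℕ) (hn : n ≠ 0) (s : S)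
    (z : ∀ x : Spec (CommRingCat.of (AlgebraicClosure (S.residueField s))) ⟶ S,
      ∀ v : (Γ((kPt x).left, ⊤))ˣ, ∃ t : kPt x ⟶ T, GmPts.unitOfPt (t ≫ β) = v ^ n) :
    (Over.pullback (Red.geomPt s)).map β ≠ 1 := by
  intro h
  let ψ := Red.geomPt s
  let adj := Over.mapPullbackAdj ψ
  let A : Over (Spec (CommRingCat.of (AlgebraicClosure (S.residueField s)))) := Over.mk (𝟙 _)
  let x : Spec (CommRingCat.of (AlgebraicClosure (S.residueField s))) ⟶ S := 𝟙 _ ≫ ψ
  obtain ⟨v, hv⟩ := exists_zpow_ne_one x n (by exact_mod_cast hn)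
  obtain ⟨t, ht⟩ := z x v
  let t' : (Over.map ψ).obj A ⟶ T := t
  have h1 : adj.homEquiv A (Red.Gm S) (t' ≫ β) = adj.homEquiv A (Red.Gm S) 1 := by
    rw [adj.homEquiv_naturality_right, h, adj.homEquiv_unit, adj.homEquiv_unit, Functor.map_one, MonObj.comp_one,
      MonObj.comp_one]
  have h2 : t' ≫ β = 1 := (adj.homEquiv A (Red.Gm S)).injective h1
  refine hv ?_
  rw [zpow_natCast, ← ht, show t ≫ β = 1 from h2, GmPts.unitOfPt_one]

end Groth.Agent.RankOne16
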