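import Groth.Agent.Lib.RankOne16.CommField
import Groth.Agent.Lib.RankOne16.GmTorus
import Groth.Agent.Lib.RankOne16.Extend
import Groth.Agent.Lib.TorsorSch25.ExactPts

/-!
# The commutation rule in rank one: the slope and the coroot
-/

universe u

open CategoryTheory CategoryTheory.Limits MonoidalCategory CartesianMonoidalCategory MonObj AlgebraicGeometry

set_option linter.style.haveILetI false
set_option backward.isDefEq.respectTransparency false
set_option backward.isDefEq.respectTransparency.types false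

noncomputable section

namespace Groth.Agent.RankOne16

open RankOne (P)

variable {S : Scheme.{u}}

/-- A unit value avoiding the zeros of a polynomial with invertible constant coefficient exists after a cover. -/
theorem exists_cover_poly (X : Over S) (Q : Polynomial Γ(X.left, ⊤)) (hQ : IsUnit (Q.coeff 0)) :
    ∃ (X' : Over S) (g : X' ⟶ X) (v : (Γ(X'.left, ⊤))ˣ), Epi g ∧
      IsUnit (Q.eval₂ g.left.appTop.hom (v : Γ(X'.left, ⊤))) := by
  let A := Γ(X.left, ⊤)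
  let P₀ : Polynomial A := Polynomial.X * Q
  let B := Localization.Away P₀
  let c : Spec (CommRingCat.of B) ⟶ Spec Γ(X.left, ⊤) := Spec.map (CommRingCat.ofHom (algebraMap A B))
  haveI : Module.Flat A B := Module.Flat.trans A (Polynomial A) B
  haveI : Flat c := (HasRingHomProperty.Spec_iff (P := @Flat)).mpr (RingHom.flat_algebraMap_iff.2 inferInstance)
  haveI : Surjective c := (surjective_iff c).mpr fun p => by
    let q : Ideal (Polynomial A) := Ideal.map Polynomial.C p.asIdeal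
    haveI := p.2
    haveI : q.IsPrime := Ideal.isPrime_map_C_of_isPrime
    have hP : P₀ ∉ q := fun h => by
      rcases (Ideal.IsPrime.mem_or_mem ‹q.IsPrime› h) with h' | h'
      · exact p.2.ne_top ((Ideal.eq_top_iff_one _).2 (by simpa using (Ideal.mem_map_C_iff.1 h' 1)))
      · exact p.2.ne_top (Ideal.eq_top_of_isUnit_mem _ (Ideal.mem_map_C_iff.1 h' 0) hQ)
    obtain ⟨r, hr⟩ : (⟨q, ‹q.IsPrime›⟩ : PrimeSpectrum (Polynomial A)) ∈
        Set.range (PrimeSpectrum.comap (algebraMap (Polynomial A) B)) := by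
      rw [PrimeSpectrum.localization_away_comap_range B P₀]; exact hP
    refine ⟨r, PrimeSpectrum.ext ?_⟩
    show Ideal.comap (algebraMap A B) r.asIdeal = p.asIdeal
    rw [IsScalarTower.algebraMap_eq A (Polynomial A) B, ← Ideal.comap_comap,
      show Ideal.comap (algebraMap (Polynomial A) B) r.asIdeal = q from congrArg PrimeSpectrum.asIdeal hr]
    refine le_antisymm (fun a ha => ?_) Ideal.le_comap_map
    simpa using Ideal.mem_map_C_iff.1 ha 0
  haveI : Epi (pullback.fst X.left.toSpecΓ c) := Flat.epi_of_flat_of_surjective _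
  let X' : Over S := Over.mk (pullback.fst X.left.toSpecΓ c ≫ X.hom)
  let g : X' ⟶ X := Over.homMk (pullback.fst X.left.toSpecΓ c)
  haveI : Epi g.left := ‹Epi (pullback.fst X.left.toSpecΓ c)›
  let φ : B →+* Γ(X'.left, ⊤) :=
    ((Scheme.ΓSpecIso (CommRingCat.of B)).inv ≫ (pullback.snd X.left.toSpecΓ c).appTop).hom
  have hφ : φ.comp (algebraMap A B) = g.left.appTop.hom := by
    have h1 : CommRingCat.ofHom (algebraMap A B) ≫ (Scheme.ΓSpecIso (CommRingCat.of B)).inv =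
        (Scheme.ΓSpecIso Γ(X.left, ⊤)).inv ≫ c.appTop :=
      Scheme.ΓSpecIso_inv_naturality (CommRingCat.ofHom (algebraMap A B))
    have h2 : (Scheme.ΓSpecIso Γ(X.left, ⊤)).inv ≫ X.left.toSpecΓ.appTop = 𝟙 _ := by
      rw [Scheme.toSpecΓ_appTop, Iso.inv_hom_id]
    have h3 : CommRingCat.ofHom (algebraMap A B) ≫
        ((Scheme.ΓSpecIso (CommRingCat.of B)).inv ≫ (pullback.snd X.left.toSpecΓ c).appTop) = g.left.appTop := by
      rw [reassoc_of% h1, ← Scheme.Hom.comp_appTop, ← pullback.condition, Scheme.Hom.comp_appTop, reassoc_of% h2]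
      rfl
    exact congrArg CommRingCat.Hom.hom h3
  let ψ : Polynomial A →+* Γ(X'.left, ⊤) := φ.comp (algebraMap (Polynomial A) B)
  have hψ : ψ = Polynomial.eval₂RingHom g.left.appTop.hom (ψ Polynomial.X) := by
    refine Polynomial.ringHom_ext (fun a => ?_) (by rw [Polynomial.coe_eval₂RingHom, Polynomial.eval₂_X])
    rw [Polynomial.coe_eval₂RingHom, Polynomial.eval₂_C, ← hφ, IsScalarTower.algebraMap_eq A (Polynomial A) B]
    rfl
  have hu : IsUnit (ψ P₀) := (IsLocalization.Away.algebraMap_isUnit (S := B) P₀).map φ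
  simp only [P₀, map_mul, IsUnit.mul_iff] at hu
  obtain ⟨⟨v, hv⟩, h1⟩ := hu
  refine ⟨X', g, v, Over.epi_of_epi_left _, ?_⟩
  rw [hψ, Polynomial.coe_eval₂RingHom, ← hv] at h1
  exact h1

theorem fn_injective_of_epi {X X' : Over S} (g : X' ⟶ X) [Epi g] (a b : Γ(X.left, ⊤))
    (h : g.left.appTop a = g.left.appTop b) : a = b := by
  have h1 : (GaPts.ptOfFn a : X ⟶ Red.Ga S) = GaPts.ptOfFn b := by
    rw [← cancel_epi g, GaPts.ptOfFn_comp, GaPts.ptOfFn_comp, h]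
  simpa only [GaPts.gaFn_ptOfFn] using congrArg Red.gaFn h1

variable {G T : Over S} [GrpObj G] [GrpObj T]
variable {i : T ⟶ G} {α : T ⟶ Red.Gm S} {pp pm : Red.Ga S ⟶ G} (K : Cellular i α pp pm)
variable (hnc : ∀ s : S, ¬ ∀ (X : Over S) (_ : X ⟶ sp (Red.geomPt s)) (u v : Γ(X.left, ⊤)),
      P pp u * P pm v = P pm v * P pp u)
include K hnc

/-- The slope is invertible and cuts out the products in the cell. -/
theorem Cellular.exists_unit_slope : ∃ c : ∀ X : Over S, (Γ(X.left, ⊤))ˣ,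
    (∀ (X X' : Over S) (g : X' ⟶ X), Units.map g.left.appTop.hom.toMonoidHom (c X) = c X') ∧
    (∀ (X : Over S) (u : Γ(X.left, ⊤)), InV i pp pm u 1 ↔ IsUnit (1 + (c X : Γ(X.left, ⊤)) * u)) ∧
    ∀ (X : Over S) (u b a : Γ(X.left, ⊤)) (t : X ⟶ T), Co i pp pm u 1 b t a →
      b * (1 + (c X : Γ(X.left, ⊤)) * u) = 1 := by
  obtain ⟨c, hc, hcε, hcb⟩ := K.exists_slope
  have hunit : ∀ X, IsUnit (c X) := by
    let XS : Over S := Over.mk (𝟙 S)
    have hS : IsUnit (c XS) := by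
      refine isUnit_of_geom _ fun p hp => ?_
      rw [hc] at hp
      let y : Spec (CommRingCat.of (AlgebraicClosure (S.residueField p))) ⟶ S := Red.geomPt p
      have hy : c (sp y) = 0 := by
        let m : sp y ⟶ kPt (Red.geomPt p ≫ XS.hom) := Over.homMk (𝟙 _) (by
          show 𝟙 _ ≫ Red.geomPt p ≫ 𝟙 S = Red.geomPt p
          rw [Category.id_comp]; exact Category.comp_id _)
        rw [← hc _ _ m, hp, map_zero]
      refine hnc p fun X d u v => ?_
      by_cases hall : ∀ r, Wf i pp pm y r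
      · exact K.commute_of_all y hall d u v
      · push_neg at hall
        obtain ⟨f, hf⟩ := hall
        have h := K.slope_of_bad y hcε hf
        rw [hy, map_zero, zero_mul] at h
        simp at h
    intro X
    rw [← hc XS X (Over.homMk X.hom (Category.comp_id _))]
    exact hS.map _
  let cu : ∀ X : Over S, (Γ(X.left, ⊤))ˣ := fun X => (hunit X).unit
  have hb : ∀ (X : Over S) (u b a : Γ(X.left, ⊤)) (t : X ⟶ T), Co i pp pm u 1 b t a →
      b * (1 + (cu X : Γ(X.left, ⊤)) * u) = 1 := by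
    intro X u b a t h
    refine ext_of_affine fun R _ φ e => ?_
    rw [map_mul, map_add, map_mul, map_one, (hunit X).unit_spec, hc]
    have h1 := K.co_comp e h
    rw [map_one] at h1
    have h2 := hcb R φ ((fn φ).symm (e.left.appTop u)) ((fn φ).symm (e.left.appTop b))
      ⟨_, _, by rwa [RingEquiv.apply_symm_apply, RingEquiv.apply_symm_apply]⟩
    have h3 := ((hunit (sp φ)).map (fn φ).symm).mul_right_eq_zero.1 h2
    have h4 := congrArg (fn φ) h3
    simp only [map_sub, map_mul, map_add, map_one, map_zero, RingEquiv.apply_symm_apply] at h4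
    exact sub_eq_zero.1 h4
  refine ⟨cu, fun X X' g => Units.ext ?_, fun X u => ⟨fun h => ?_, fun hu => ?_⟩, hb⟩
  · show g.left.appTop ((hunit X).unit : Γ(X.left, ⊤)) = ((hunit X').unit : Γ(X'.left, ⊤))
    rw [(hunit X).unit_spec, (hunit X').unit_spec, hc]
  · obtain ⟨b, t, a, hco⟩ := K.exists_co h
    exact IsUnit.of_mul_eq_one_right _ (hb X u b a t hco)
  · refine K.inV_of_geom fun p => ?_
    rw [map_one]
    let y : Spec (CommRingCat.of (AlgebraicClosure (X.left.residueField p))) ⟶ S := Red.geomPt p ≫ X.hom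
    obtain ⟨r, hr⟩ := (fn y).surjective ((geomHom p).left.appTop u)
    rw [← hr]
    by_contra hW
    have h := K.slope_of_bad y hcε (f := r) hW
    have h' := congrArg (fn y) h
    rw [map_mul, RingEquiv.apply_symm_apply, map_neg, map_one, hr] at h'
    have hu' := hu.map (geomHom p).left.appTop.hom
    rw [map_add, map_one, map_mul, show (geomHom p).left.appTop.hom (cu X : Γ(X.left, ⊤)) = c (sp y) by
      rw [(hunit X).unit_spec]; exact hc _ _ _] at hu'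
    erw [h', add_neg_cancel] at hu'
    haveI : Nonempty (⊤ : (kPt y).left.Opens) :=
      ⟨⟨(IsLocalRing.closedPoint (AlgebraicClosure (X.left.residueField p)) :
        Spec (CommRingCat.of (AlgebraicClosure (X.left.residueField p)))), trivial⟩⟩
    haveI : Nontrivial Γ((kPt y).left, ⊤) := Scheme.component_nontrivial _ ⊤
    exact not_isUnit_zero hu'

/-- The commutation rule: the slope, the coroot and the formula. -/
theorem Cellular.exists_rule : ∃ (c : ∀ X : Over S, (Γ(X.left, ⊤))ˣ) (av : Red.Gm S ⟶ T),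
    (∀ (X X' : Over S) (g : X' ⟶ X), Units.map g.left.appTop.hom.toMonoidHom (c X) = c X') ∧ IsMonHom av ∧
    (∀ (X : Over S) (w : (Γ(X.left, ⊤))ˣ), GmPts.unitOfPt ((GmPts.ptOfUnit w ≫ av) ≫ α) = w * w) ∧
    (∀ (X : Over S) (x y : Γ(X.left, ⊤)), InV i pp pm x y ↔ IsUnit (1 + (c X : Γ(X.left, ⊤)) * x * y)) ∧
    ∀ (X : Over S) (x y : Γ(X.left, ⊤)) (z : (Γ(X.left, ⊤))ˣ),
      (z : Γ(X.left, ⊤)) = 1 + (c X : Γ(X.left, ⊤)) * x * y →
      Co i pp pm x y (y * ((z⁻¹ : (Γ(X.left, ⊤))ˣ) : Γ(X.left, ⊤))) (GmPts.ptOfUnit z ≫ av)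
        (x * ((z⁻¹ : (Γ(X.left, ⊤))ˣ) : Γ(X.left, ⊤))) := by
  obtain ⟨c, hc, hW, hb⟩ := K.exists_unit_slope hnc
  have hcv : ∀ (X X' : Over S) (g : X' ⟶ X), g.left.appTop (c X : Γ(X.left, ⊤)) = (c X' : Γ(X'.left, ⊤)) :=
    fun X X' g => congrArg Units.val (hc X X' g)
  let U : ∀ X : Over S, (Γ(X.left, ⊤))ˣ → Γ(X.left, ⊤) := fun X w =>
    (((c X)⁻¹ : (Γ(X.left, ⊤))ˣ) : Γ(X.left, ⊤)) * ((w : Γ(X.left, ⊤)) - 1)
  have hU : ∀ (X : Over S) (w : (Γ(X.left, ⊤))ˣ), 1 + (c X : Γ(X.left, ⊤)) * U X w = w := fun X w => by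
    simp only [U]; rw [Units.mul_inv_cancel_left]; ring
  have hUeq : ∀ {X : Over S} (w : (Γ(X.left, ⊤))ˣ) (u : Γ(X.left, ⊤)),
      (w : Γ(X.left, ⊤)) = 1 + (c X : Γ(X.left, ⊤)) * u → U X w = u := fun {X} w u h => by
    simp only [U]; rw [h, add_sub_cancel_left, Units.inv_mul_cancel_left]
  have hUnat : ∀ {X X' : Over S} (g : X' ⟶ X) (w : (Γ(X.left, ⊤))ˣ),
      g.left.appTop (U X w) = U X' (Units.map g.left.appTop.hom.toMonoidHom w) := fun {X X'} g w => by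
    refine (hUeq _ _ ?_).symm
    show g.left.appTop (w : Γ(X.left, ⊤)) = _
    rw [← hcv X X' g, ← map_mul, ← map_one g.left.appTop.hom, ← map_add, hU]
  have hex : ∀ (X : Over S) (w : (Γ(X.left, ⊤))ˣ), ∃ t a,
      Co i pp pm (U X w) 1 (((w⁻¹ : (Γ(X.left, ⊤))ˣ)) : Γ(X.left, ⊤)) t a := fun X w => by
    obtain ⟨b, t, a, h⟩ := K.exists_co ((hW X (U X w)).2 (by rw [hU]; exact w.isUnit))
    refine ⟨t, a, ?_⟩
    rwa [show (((w⁻¹ : (Γ(X.left, ⊤))ˣ)) : Γ(X.left, ⊤)) = b from Units.inv_eq_of_mul_eq_one_left (by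
      have h' := hb X _ b a t h
      rwa [hU] at h')]
  choose τ F hco using hex
  have hnat : ∀ {X X' : Over S} (g : X' ⟶ X) (w : (Γ(X.left, ⊤))ˣ),
      g ≫ τ X w = τ X' (Units.map g.left.appTop.hom.toMonoidHom w) ∧
      g.left.appTop (F X w) = F X' (Units.map g.left.appTop.hom.toMonoidHom w) := fun {X X'} g w => by
    have h := K.co_comp g (hco X w)
    rw [hUnat, map_one] at h
    obtain ⟨-, h1, h2⟩ := K.co_unique h
      (show Co i pp pm _ 1 (g.left.appTop (((w⁻¹ : (Γ(X.left, ⊤))ˣ)) : Γ(X.left, ⊤))) _ _ from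
        hco X' (Units.map g.left.appTop.hom.toMonoidHom w))
    exact ⟨h1, h2⟩
  have := K.hom_α
  -- multiplicativity
  have hmul : ∀ (X : Over S) (w w' : (Γ(X.left, ⊤))ˣ), τ X (w * w') = τ X w * τ X w' := fun X w w' => by
    have hp : (U X (w * w') - U X w) * (((w⁻¹ : (Γ(X.left, ⊤))ˣ)) : Γ(X.left, ⊤)) = U X w' := by
      simp only [U, Units.val_mul]
      linear_combination ((((c X)⁻¹ : (Γ(X.left, ⊤))ˣ) : Γ(X.left, ⊤)) * ((w' : Γ(X.left, ⊤)) - 1)) * Units.mul_inv w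
    have h := K.co_add_one (p := U X (w * w') - U X w) (hco X w) (by rw [hp]; exact hco X w') w⁻¹ rfl
    rw [sub_add_cancel, ← Units.val_mul, ← mul_inv] at h
    rw [(K.co_unique (hco X (w * w')) h).2.1, torus_comm K.torus]
  -- the symmetric identity
  have hY : ∀ (X : Over S) (w : (Γ(X.left, ⊤))ˣ), GmPts.unitOfPt (τ X w ≫ α) = w * w ∧
      F X w = U X w * (((w⁻¹ : (Γ(X.left, ⊤))ˣ)) : Γ(X.left, ⊤)) := by
    intro X w
    have key : ∀ (X : Over S) (w r : (Γ(X.left, ⊤))ˣ), IsUnit (1 + (r : Γ(X.left, ⊤))) →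
        IsUnit ((w : Γ(X.left, ⊤)) + ((w : Γ(X.left, ⊤)) - 1) * r) →
        IsUnit (1 + (c X : Γ(X.left, ⊤)) * F X w * r) →
        (w : Γ(X.left, ⊤)) * ((w : Γ(X.left, ⊤)) + ((w : Γ(X.left, ⊤)) - 1) * r) =
          (GmPts.unitOfPt (τ X w ≫ α) : Γ(X.left, ⊤)) * (1 + (c X : Γ(X.left, ⊤)) * F X w * r) := by
      intro X w r h1 hz h2
      set gam := GmPts.unitOfPt (τ X w ≫ α)
      obtain ⟨s, hs⟩ := h1
      obtain ⟨z, hz⟩ := hz
      obtain ⟨w2, hw2⟩ := h2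
      have e2 : U X w2 = F X w * r := hUeq _ _ (by rw [hw2, _root_.mul_assoc])
      have hA := K.co_of_one r (e2 ▸ hco X w2)
      have hB := K.co_add_right (hco X w) hA
      have e3 : U X z = U X w * (s : Γ(X.left, ⊤)) := hUeq _ _ (by
        rw [hz, hs, ← _root_.mul_assoc, show (c X : Γ(X.left, ⊤)) * U X w = (w : Γ(X.left, ⊤)) - 1 by
          linear_combination hU X w]
        ring)
      have hC := K.co_of_one s (e3 ▸ hco X z)
      rw [← hs] at hB
      have e := (K.co_unique hB hC).1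
      rw [← hz, ← hw2]
      refine (r.mul_right_inj).1 ?_
      have ew := Units.mul_inv w
      have eg := Units.mul_inv gam
      have ez := Units.mul_inv z
      have e2' := Units.mul_inv w2
      linear_combination ((w : Γ(X.left, ⊤)) * (gam : Γ(X.left, ⊤)) * (w2 : Γ(X.left, ⊤)) * (z : Γ(X.left, ⊤))) * e -
        ((gam : Γ(X.left, ⊤)) * (w2 : Γ(X.left, ⊤)) * (z : Γ(X.left, ⊤))) * ew -
        ((w : Γ(X.left, ⊤)) * (r : Γ(X.left, ⊤)) * (z : Γ(X.left, ⊤))) *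
          ((gam : Γ(X.left, ⊤)) * ((gam⁻¹ : (Γ(X.left, ⊤))ˣ) : Γ(X.left, ⊤)) * e2' + eg) +
        ((w : Γ(X.left, ⊤)) * (gam : Γ(X.left, ⊤)) * (w2 : Γ(X.left, ⊤)) * (s : Γ(X.left, ⊤))) * ez +
        ((gam : Γ(X.left, ⊤)) * (w2 : Γ(X.left, ⊤)) * (w : Γ(X.left, ⊤))) * hs -
        ((gam : Γ(X.left, ⊤)) * (w2 : Γ(X.left, ⊤))) * hz
    let Q : ∀ X : Over S, (Γ(X.left, ⊤))ˣ → Polynomial Γ(X.left, ⊤) := fun X w =>
      (1 + Polynomial.X) * (Polynomial.C (w : Γ(X.left, ⊤)) + Polynomial.C ((w : Γ(X.left, ⊤)) - 1) * Polynomial.X) *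
        (1 + Polynomial.C ((c X : Γ(X.left, ⊤)) * F X w) * Polynomial.X)
    have hQ0 : ∀ X w, (Q X w).coeff 0 = (w : Γ(X.left, ⊤)) := fun X w => by
      simp [Q, Polynomial.coeff_zero_eq_eval_zero]
    obtain ⟨X₁, g, r₁, hg, hu₁⟩ := exists_cover_poly X (Q X w) (by rw [hQ0]; exact w.isUnit)
    haveI := hg
    obtain ⟨X₂, g', r₂, hg', hu₂⟩ := exists_cover_poly X₁
      (Q X₁ (Units.map g.left.appTop.hom.toMonoidHom w) * (Polynomial.X - Polynomial.C (r₁ : Γ(X₁.left, ⊤))))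
      (by rw [Polynomial.mul_coeff_zero, hQ0]; exact (Units.isUnit _).mul (by simp))
    haveI := hg'
    set w₁ := Units.map g.left.appTop.hom.toMonoidHom w
    simp only [Q, Polynomial.eval₂_mul, Polynomial.eval₂_add, Polynomial.eval₂_sub, Polynomial.eval₂_one,
      Polynomial.eval₂_X, Polynomial.eval₂_C, IsUnit.mul_iff] at hu₁ hu₂
    obtain ⟨⟨a1, a2⟩, a3⟩ := hu₁
    obtain ⟨⟨⟨b1, b2⟩, b3⟩, b4⟩ := hu₂
    rw [map_sub, map_one] at a2 b2
    rw [map_mul, hcv, (hnat g w).2] at a3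
    rw [map_mul, hcv, (hnat g' w₁).2] at b3
    set w₂ := Units.map g'.left.appTop.hom.toMonoidHom w₁
    have k1 := congrArg g'.left.appTop.hom (key X₁ w₁ r₁ a1 a2 a3)
    have k2 := key X₂ w₂ r₂ b1 b2 b3
    simp only [map_mul, map_add, map_sub, map_one, hcv, (hnat g' w₁).2] at k1
    have hgn : ∀ {A B : Over S} (h : B ⟶ A) (v : (Γ(A.left, ⊤))ˣ),
        Units.map h.left.appTop.hom.toMonoidHom (GmPts.unitOfPt (τ A v ≫ α)) =
          GmPts.unitOfPt (τ B (Units.map h.left.appTop.hom.toMonoidHom v) ≫ α) := fun {A B} h v => by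
      rw [← (hnat h v).1, Category.assoc, GmPts.unitOfPt_comp]; rfl
    set gam := GmPts.unitOfPt (τ X₂ w₂ ≫ α)
    have hgam : g'.left.appTop.hom (GmPts.unitOfPt (τ X₁ w₁ ≫ α) : Γ(X₁.left, ⊤)) = (gam : Γ(X₂.left, ⊤)) :=
      congrArg Units.val (hgn g' w₁)
    erw [hgam] at k1
    have hw₂ : g'.left.appTop.hom (w₁ : Γ(X₁.left, ⊤)) = (w₂ : Γ(X₂.left, ⊤)) := rfl
    rw [hw₂] at k1
    have hF : (w₂ : Γ(X₂.left, ⊤)) * ((w₂ : Γ(X₂.left, ⊤)) - 1) = (gam : Γ(X₂.left, ⊤)) * ((c X₂ : Γ(X₂.left, ⊤)) * F X₂ w₂) := by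
      refine b4.mul_left_cancel ?_
      linear_combination k2 - k1
    have hg2 : gam = w₂ * w₂ := Units.ext (by
      rw [Units.val_mul]
      linear_combination (r₂ : Γ(X₂.left, ⊤)) * hF - k2)
    have hfin : F X₂ w₂ = U X₂ w₂ * (((w₂⁻¹ : (Γ(X₂.left, ⊤))ˣ)) : Γ(X₂.left, ⊤)) := by
      rw [Units.eq_mul_inv_iff_mul_eq]
      refine (hUeq _ _ ?_).symm
      rw [hg2, Units.val_mul] at hF
      have hF' := (Units.mul_right_inj w₂).1 (hF.trans (_root_.mul_assoc _ _ _))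
      linear_combination hF'
    constructor
    · refine Units.ext ((fn_injective_of_epi g _ _ ?_))
      refine fn_injective_of_epi g' _ _ ?_
      show (Units.map g'.left.appTop.hom.toMonoidHom (Units.map g.left.appTop.hom.toMonoidHom (GmPts.unitOfPt (τ X w ≫ α))) : Γ(X₂.left, ⊤)) =
        Units.map g'.left.appTop.hom.toMonoidHom (Units.map g.left.appTop.hom.toMonoidHom (w * w))
      rw [hgn, hgn, map_mul, map_mul]
      exact congrArg Units.val hg2
    · refine fn_injective_of_epi g _ _ (fn_injective_of_epi g' _ _ ?_)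
      rw [(hnat g w).2, (hnat g' w₁).2, map_mul, map_mul, hUnat, hUnat]
      exact hfin
  -- the coroot
  let id' : (Γ((Red.Gm S).left, ⊤))ˣ := GmPts.unitOfPt (𝟙 (Red.Gm S))
  let av : Red.Gm S ⟶ T := τ _ id'
  have hav : ∀ {X : Over S} (t : X ⟶ Red.Gm S), t ≫ av = τ X (GmPts.unitOfPt t) := fun {X} t => by
    rw [(hnat t id').1]
    congr 1
  haveI hom : IsMonHom av := TorsorSch25.isMonHom_of_points av fun X a b => by
    rw [hav, hav, hav, GmPts.unitOfPt_mul, hmul]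
  have hτ : ∀ {X : Over S} (w : (Γ(X.left, ⊤))ˣ), GmPts.ptOfUnit w ≫ av = τ X w := fun w => by
    rw [hav, GmPts.unitOfPt_ptOfUnit]
  -- the formula for invertible second argument
  have hyu : ∀ (X : Over S) (x : Γ(X.left, ⊤)) (y z : (Γ(X.left, ⊤))ˣ),
      (z : Γ(X.left, ⊤)) = 1 + (c X : Γ(X.left, ⊤)) * x * y →
      Co i pp pm x (y : Γ(X.left, ⊤)) ((y : Γ(X.left, ⊤)) * ((z⁻¹ : (Γ(X.left, ⊤))ˣ) : Γ(X.left, ⊤)))
        (GmPts.ptOfUnit z ≫ av) (x * ((z⁻¹ : (Γ(X.left, ⊤))ˣ) : Γ(X.left, ⊤))) := fun X x y z hz => by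
    have h := hco X z
    rw [hUeq z (x * y) (by rw [hz, _root_.mul_assoc]), (hY X z).2, hUeq z (x * y) (by rw [hz, _root_.mul_assoc])] at h
    have h' := K.co_of_one y h
    rw [hτ]
    rwa [_root_.mul_comm x (y : Γ(X.left, ⊤)), _root_.mul_assoc, Units.inv_mul_cancel_left] at h'
  have hform : ∀ (X : Over S) (x y : Γ(X.left, ⊤)) (z : (Γ(X.left, ⊤))ˣ),
      (z : Γ(X.left, ⊤)) = 1 + (c X : Γ(X.left, ⊤)) * x * y →
      Co i pp pm x y (y * ((z⁻¹ : (Γ(X.left, ⊤))ˣ) : Γ(X.left, ⊤))) (GmPts.ptOfUnit z ≫ av)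
        (x * ((z⁻¹ : (Γ(X.left, ⊤))ˣ) : Γ(X.left, ⊤))) := by
    intro X x y z hz
    obtain ⟨X', g, v, hg, hv1, hv2⟩ := exists_cover_three X ((c X : Γ(X.left, ⊤)) * x) y
    haveI := hg
    unfold Co
    rw [← cancel_epi g, MonObj.comp_mul, RankOne.comp_P, RankOne.comp_P, comp_cell, map_mul, map_mul, ← Category.assoc,
      GmPts.ptOfUnit_comp]
    rw [map_mul, hcv] at hv2
    set Z : (Γ(X'.left, ⊤))ˣ := Units.map g.left.appTop.hom.toMonoidHom z
    have hZ : (Z : Γ(X'.left, ⊤)) = 1 + (c X' : Γ(X'.left, ⊤)) * g.left.appTop x * g.left.appTop y := by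
      show g.left.appTop (z : Γ(X.left, ⊤)) = _
      rw [hz, map_add, map_one, map_mul, map_mul, hcv]
    obtain ⟨z₁, hz₁⟩ := hv2
    obtain ⟨y₂, hy₂⟩ := hv1
    set x' := g.left.appTop x
    set y' := g.left.appTop y
    have h1 := hyu X' x' v z₁ hz₁
    have hz₂ : ((z₁⁻¹ * Z : (Γ(X'.left, ⊤))ˣ) : Γ(X'.left, ⊤)) = 1 + (c X' : Γ(X'.left, ⊤)) *
        (x' * ((z₁⁻¹ : (Γ(X'.left, ⊤))ˣ) : Γ(X'.left, ⊤))) * y₂ := by
      rw [Units.val_mul, hy₂]
      linear_combination ((z₁⁻¹ : (Γ(X'.left, ⊤))ˣ) : Γ(X'.left, ⊤)) * hZ + Units.mul_inv z₁ -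
        ((z₁⁻¹ : (Γ(X'.left, ⊤))ˣ) : Γ(X'.left, ⊤)) * hz₁
    have h2 := hyu X' _ y₂ _ hz₂
    have h3 := K.co_add_right h1 h2
    rw [hτ, (hY X' z₁).1, hτ, ← hmul, mul_inv_cancel_left, ← hτ, mul_inv_rev] at h3
    rw [show (v : Γ(X'.left, ⊤)) + (y₂ : Γ(X'.left, ⊤)) = y' by rw [hy₂, add_sub_cancel]] at h3
    have eb : y' * ((Z⁻¹ : (Γ(X'.left, ⊤))ˣ) : Γ(X'.left, ⊤)) = (v : Γ(X'.left, ⊤)) * ((z₁⁻¹ : (Γ(X'.left, ⊤))ˣ) : Γ(X'.left, ⊤)) +
        ((z₁⁻¹ * z₁⁻¹ : (Γ(X'.left, ⊤))ˣ) : Γ(X'.left, ⊤)) *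
          ((y₂ : Γ(X'.left, ⊤)) * (((z₁⁻¹ * Z)⁻¹ : (Γ(X'.left, ⊤))ˣ) : Γ(X'.left, ⊤))) := by
      simp only [Units.val_mul, mul_inv_rev, inv_inv]
      rw [hy₂]
      have e1 := Units.mul_inv z₁
      have eZ := Units.mul_inv Z
      linear_combination (((Z⁻¹ : (Γ(X'.left, ⊤))ˣ) : Γ(X'.left, ⊤)) * (((z₁⁻¹ : (Γ(X'.left, ⊤))ˣ)) : Γ(X'.left, ⊤))) *
          ((y' * hz₁) - (v : Γ(X'.left, ⊤)) * hZ) +
        ((v : Γ(X'.left, ⊤)) * (((z₁⁻¹ : (Γ(X'.left, ⊤))ˣ)) : Γ(X'.left, ⊤))) * eZ -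
        (y' * ((Z⁻¹ : (Γ(X'.left, ⊤))ˣ) : Γ(X'.left, ⊤)) + (y' - (v : Γ(X'.left, ⊤))) * ((Z⁻¹ : (Γ(X'.left, ⊤))ˣ) : Γ(X'.left, ⊤)) *
          (((z₁⁻¹ : (Γ(X'.left, ⊤))ˣ)) : Γ(X'.left, ⊤))) * e1
    have ea : x' * ((Z⁻¹ : (Γ(X'.left, ⊤))ˣ) : Γ(X'.left, ⊤)) = x' * ((z₁⁻¹ : (Γ(X'.left, ⊤))ˣ) : Γ(X'.left, ⊤)) *
        (((z₁⁻¹ * Z)⁻¹ : (Γ(X'.left, ⊤))ˣ) : Γ(X'.left, ⊤)) := by
      simp only [Units.val_mul, mul_inv_rev, inv_inv]
      linear_combination (-x' * ((Z⁻¹ : (Γ(X'.left, ⊤))ˣ) : Γ(X'.left, ⊤))) * Units.mul_inv z₁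
    rw [← eb, ← ea] at h3
    exact h3
  refine ⟨c, av, hc, hom, fun X w => by rw [hτ, (hY X w).1], fun X x y => ⟨fun h => ?_, fun h => ?_⟩, hform⟩
  · refine isUnit_of_geom _ fun p hp => ?_
    rw [map_add, map_one, map_mul, map_mul, hcv] at hp
    have h1 := K.inV_comp (geomHom p) h
    by_cases hy : (geomHom p).left.appTop y = 0
    · rw [hy, mul_zero, add_zero] at hp
      haveI : Nonempty (⊤ : (kPt (Red.geomPt p ≫ X.hom)).left.Opens) :=
        ⟨⟨(IsLocalRing.closedPoint (AlgebraicClosure (X.left.residueField p)) :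
          Spec (CommRingCat.of (AlgebraicClosure (X.left.residueField p)))), trivial⟩⟩
      haveI : Nontrivial Γ((kPt (Red.geomPt p ≫ X.hom)).left, ⊤) := Scheme.component_nontrivial _ ⊤
      exact one_ne_zero hp
    · obtain ⟨w, hw⟩ := isUnit_of_ne hy
      rw [← hw, K.inV_one_unit_iff, hW, ← _root_.mul_assoc, hw, hp] at h1
      haveI : Nonempty (⊤ : (kPt (Red.geomPt p ≫ X.hom)).left.Opens) :=
        ⟨⟨(IsLocalRing.closedPoint (AlgebraicClosure (X.left.residueField p)) :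
          Spec (CommRingCat.of (AlgebraicClosure (X.left.residueField p)))), trivial⟩⟩
      haveI : Nontrivial Γ((kPt (Red.geomPt p ≫ X.hom)).left, ⊤) := Scheme.component_nontrivial _ ⊤
      exact not_isUnit_zero h1
  · obtain ⟨z, hz⟩ := h
    exact K.inV_of_co (hform X x y z hz)

end Groth.Agent.RankOne16
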