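import Groth.Agent.Lib.RankOne16.Hom
import Groth.Agent.Lib.H12.FlatComp
import Mathlib.AlgebraicGeometry.Morphisms.FlatMono

/-!
# Homomorphisms of rank one data: kernels, flatness
-/

universe u

open CategoryTheory CategoryTheory.Limits MonoidalCategory CartesianMonoidalCategory MonObj AlgebraicGeometry

set_option linter.style.haveILetI false
set_option backward.isDefEq.respectTransparency false
set_option backward.isDefEq.respectTransparency.types false

noncomputable section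

namespace Groth.Agent.RankOne16

open RankOne (P A w Datum)

variable {S : Scheme.{u}}
variable {G T G' T' : Over S} [GrpObj G] [GrpObj T] [GrpObj G'] [GrpObj T']
variable {i : T ⟶ G} {α : T ⟶ Red.Gm S} {pp pm : Red.Ga S ⟶ G} {av : Red.Gm S ⟶ T}
variable {i' : T' ⟶ G'} {α' : T' ⟶ Red.Gm S} {pp' pm' : Red.Ga S ⟶ G'} {av' : Red.Gm S ⟶ T'}

theorem W_not_B (D : Datum i α pp pm av) (hT : Red.IsTorus T) (hΩ : IsOpenImmersion (cellMap i pp pm).left)
    {K : Type u} [Field K] [IsAlgClosed K] {x : Spec (CommRingCat.of K) ⟶ S} (t : kPt x ⟶ T)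
    (a : Γ((kPt x).left, ⊤)) : W pp pm ≠ (t ≫ i) * P pp a := by
  intro h
  have := D.hom_i; have := D.hom_av; have := D.hom_pp; have := D.hom_pm
  obtain ⟨v, hv⟩ := exists_zpow_ne_one x 4 (by norm_num)
  have h1 := W_conj_A D v
  rw [h] at h1
  set z := GmPts.ptOfUnit v ≫ av with hz
  have hA : A i av v = z ≫ i := (Category.assoc _ _ _).symm
  set e := (v : Γ((kPt x).left, ⊤)) * (v : Γ((kPt x).left, ⊤)) * (-a)
  have key : cell i pp pm 0 1 ((GmPts.unitOfPt (t ≫ α) : Γ((kPt x).left, ⊤)) * (a + e)) =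
      cell i pp pm 0 (z⁻¹ * z⁻¹) 0 := by
    have h2 : (t ≫ i) * P pp (a + e) * A i av v * (t ≫ i)⁻¹ = (A i av v)⁻¹ := by
      rw [← h1, RankOne.P_add, mul_inv_rev, ← RankOne.P_neg, show (t ≫ i) * P pp a * A i av v * (P pp (-a) * (t ≫ i)⁻¹) =
        (t ≫ i) * P pp a * (A i av v * P pp (-a)) * (t ≫ i)⁻¹ by simp only [_root_.mul_assoc], RankOne.A_conj_P D]
      simp only [_root_.mul_assoc, e]
    have h3 : P pp ((GmPts.unitOfPt (t ≫ α) : Γ((kPt x).left, ⊤)) * (a + e)) * A i av v = (A i av v)⁻¹ := by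
      rw [← h2, ← RankOne.conj_P D, _root_.mul_assoc ((t ≫ i) * P pp (a + e)) (A i av v), show
        A i av v * (t ≫ i)⁻¹ = (t ≫ i)⁻¹ * A i av v by rw [← GrpObj.inv_comp, A_comm_T D hT]]
      simp only [_root_.mul_assoc]
    rw [hA, ← eq_mul_inv_iff_mul_eq] at h3
    simp only [cell, RankOne.P_zero, MonObj.one_comp, _root_.one_mul, _root_.mul_one, MonObj.mul_comp,
      GrpObj.inv_comp]
    exact h3
  obtain ⟨-, h4, -⟩ := cell_inj hΩ key
  have h5 := congrArg (fun y : kPt x ⟶ T => GmPts.unitOfPt (y ≫ α)) (mul_eq_one_iff_eq_inv.1 h4.symm)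
  rw [inv_inv] at h5
  have hz' : z⁻¹ = GmPts.ptOfUnit v⁻¹ ≫ av := by rw [GmPts.ptOfUnit_inv, GrpObj.inv_comp]
  rw [hz'] at h5
  simp only [hz, RankOne.unitOfPt_av D] at h5
  refine hv ?_
  rw [show (4 : ℤ) = (1 + 1) + (1 + 1) by norm_num, zpow_add, zpow_add, zpow_one]
  nth_rewrite 1 [← h5]
  group

variable (f : G ⟶ G') [IsMonHom f] (c : 𝟙_ (Over S) ⟶ Red.Gm S) (fT : T ⟶ T')

theorem pow_one_add (X : Over S) (a b : Γ(X.left, ⊤)) : (a + b) ^ 1 = a ^ 1 + b ^ 1 := by simp only [pow_one]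

/-- scaling of `Ga` by a global unit -/
def scale (c : 𝟙_ (Over S) ⟶ Red.Gm S) : Red.Ga S ⟶ Red.Ga S :=
  GaPts.ptOfFn ((cU c (Red.Ga S) : Γ((Red.Ga S).left, ⊤)) * Red.gaFn (𝟙 (Red.Ga S)))

theorem gaFn_scale {X : Over S} (y : X ⟶ Red.Ga S) :
    Red.gaFn (y ≫ scale c) = (cU c X : Γ(X.left, ⊤)) * Red.gaFn y := by
  rw [scale, GaPts.gaFn_comp, GaPts.gaFn_ptOfFn, map_mul, ← GaPts.gaFn_comp, Category.comp_id, val_cU, val_cU,
    ← GmPts.gmFn_comp, ← Category.assoc, Subsingleton.elim (y ≫ toUnit _) (toUnit X)]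

theorem cU_inv (X : Over S) : cU c⁻¹ X = (cU c X)⁻¹ := by
  rw [cU, cU, GrpObj.comp_inv, GmPts.unitOfPt_inv]

instance isIso_scale : IsIso (scale c) := by
  refine ⟨scale c⁻¹, ?_, ?_⟩ <;>
  · apply GaPts.gaFn_injective
    show Red.gaFn _ = Red.gaFn _
    rw [gaFn_scale, ← Category.id_comp (scale _), gaFn_scale, cU_inv]
    simp [← _root_.mul_assoc]

/-- map on cells -/
def phi : (Red.Ga S ⊗ T) ⊗ Red.Ga S ⟶ (Red.Ga S ⊗ T') ⊗ Red.Ga S := (scale c⁻¹ ⊗ₘ fT) ⊗ₘ scale c

variable (hi : i ≫ f = fT ≫ i') (hP : CompatP f c 1 pp pp') (hM : CompatM f c 1 pm pm')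
include hi hP hM

theorem cell_comp {X : Over S} (a : Γ(X.left, ⊤)) (t : X ⟶ T) (b : Γ(X.left, ⊤)) :
    cell i pp pm a t b ≫ f = cell i' pp' pm' ((((cU c X)⁻¹ : (Γ(X.left, ⊤))ˣ) : Γ(X.left, ⊤)) * a) (t ≫ fT)
      ((cU c X : Γ(X.left, ⊤)) * b) := by
  simp only [cell, MonObj.mul_comp, hP _, hM _, pow_one, Category.assoc, hi]

theorem phi_cellMap : phi c fT ≫ cellMap i' pp' pm' = cellMap i pp pm ≫ f := by
  let Z := (Red.Ga S ⊗ T) ⊗ Red.Ga S
  let y : Z ⟶ Red.Ga S := fst _ _ ≫ fst _ _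
  let t : Z ⟶ T := fst _ _ ≫ snd _ _
  let x : Z ⟶ Red.Ga S := snd _ _
  have hid : lift (lift y t) x = 𝟙 Z := by
    apply CartesianMonoidalCategory.hom_ext
    · apply CartesianMonoidalCategory.hom_ext <;> simp [y, t, Z]
    · simp [x, Z]
  have e1 : lift (lift y t) x ≫ cellMap i pp pm = cell i pp pm (Red.gaFn y) t (Red.gaFn x) := by
    rw [lift_cellMap, cell, RankOne.comp_eq_P, RankOne.comp_eq_P]
  have e2 : lift (lift y t) x ≫ phi c fT ≫ cellMap i' pp' pm' =
      cell i' pp' pm' (Red.gaFn (y ≫ scale c⁻¹)) (t ≫ fT) (Red.gaFn (x ≫ scale c)) := by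
    rw [phi, lift_map_assoc, lift_map, lift_cellMap, cell, ← RankOne.comp_eq_P, ← RankOne.comp_eq_P]
  have e3 := cell_comp f c fT hi hP hM (Red.gaFn y) t (Red.gaFn x)
  rw [← e1, ← gaFn_scale c, ← cU_inv, ← gaFn_scale c⁻¹, ← e2, hid, Category.id_comp, Category.id_comp] at e3
  exact e3.symm

variable (D : Datum i α pp pm av) (D' : Datum i' α' pp' pm' av') (hT' : Red.IsTorus T')
  (hΩ : IsOpenImmersion (cellMap i pp pm).left) (hΩ' : IsOpenImmersion (cellMap i' pp' pm').left) (hG : Rig G)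
include D D' hT' hΩ hΩ' hG

/-- The kernel of `f` lies in the torus. -/
theorem exists_of_ker {X : Over S} (g : X ⟶ G) (hg : g ≫ f = 1) : ∃ t : X ⟶ T, t ≫ i = g ∧ t ≫ fT = 1 := by
  have := D.hom_i; have := D.hom_pp; have := D.hom_pm; have := D.hom_av
  have := D'.hom_i; have := D'.hom_pp; have := D'.hom_pm; have := D'.hom_av
  obtain ⟨a, t, b, rfl⟩ := exists_cell hΩ g (inCell_of_geom g fun p => by
    have hp : (geomHom p ≫ g) ≫ f = 1 :=
      (Category.assoc _ _ _).trans ((congrArg (geomHom p ≫ ·) hg).trans (MonObj.comp_one _))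
    rcases bruhat D hΩ hG (geomHom p ≫ g) with ⟨t, a, h⟩ | ⟨a, t, b, h⟩
    · rw [h, show (t ≫ i) * P pp a = cell i pp pm 0 t a by rw [cell, RankOne.P_zero, _root_.one_mul]]
      exact inCell_cell _ _ _
    · exfalso
      rw [h] at hp
      have hW : (W pp pm : kPt (Red.geomPt p ≫ X.hom) ⟶ G) ≫ f = A i' av' (cU c _) * W pp' pm' :=
        W_of_compatM f c 1 one_pos pow_one_add D D' hP hM _
      set z := GmPts.ptOfUnit (cU c (kPt (Red.geomPt p ≫ X.hom))) ≫ av'
      simp only [MonObj.mul_comp, hP _, pow_one, hW, Category.assoc, hi,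
        show A i' av' (cU c (kPt (Red.geomPt p ≫ X.hom))) = z ≫ i' from (Category.assoc _ _ _).symm] at hp
      set C := (cU c (kPt (Red.geomPt p ≫ X.hom)) : Γ((kPt (Red.geomPt p ≫ X.hom)).left, ⊤))
      have h2 : W pp' pm' = ((t ≫ fT) * z)⁻¹ ≫ i' * P pp' (-(C * a)) * P pp' (-(C * b)) := by
        rw [GrpObj.inv_comp, MonObj.mul_comp, RankOne.P_neg, RankOne.P_neg, eq_mul_inv_iff_mul_eq,
          eq_mul_inv_iff_mul_eq, eq_inv_iff_mul_eq_one]
        have h3 := mul_eq_one_comm.1 (show P pp' (C * a) *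
          (((t ≫ fT) ≫ i') * (z ≫ i') * W pp' pm' * P pp' (C * b)) = 1 by
            rw [← hp]; simp [_root_.mul_assoc])
        rw [← mul_eq_one_comm]
        simpa [_root_.mul_assoc] using h3
      rw [_root_.mul_assoc, ← RankOne.P_add] at h2
      exact W_not_B D' hT' hΩ' _ _ h2)
  rw [cell_comp f c fT hi hP hM, show (1 : X ⟶ G') = cell i' pp' pm' 0 1 0 by
    rw [cell, RankOne.P_zero, RankOne.P_zero, MonObj.one_comp, _root_.one_mul, _root_.one_mul]] at hg
  obtain ⟨h1, h2, h3⟩ := cell_inj hΩ' hg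
  refine ⟨t, ?_, h2⟩
  rw [(Units.mul_right_eq_zero _).1 h1, (Units.mul_right_eq_zero _).1 h3, ← torus_eq_cell]

omit hT' in
/-- `f` is flat and surjective when its restriction to the tori is. -/
theorem flat_surjective (hG' : Rig G') [Flat fT.left] [Surjective fT.left] : Flat f.left ∧ Surjective f.left := by
  have := D.hom_i; have := D.hom_pp; have := D.hom_pm
  have := D'.hom_i; have := D'.hom_pp; have := D'.hom_pm
  haveI := hG.smooth
  haveI := hG'.smooth
  haveI := hΩ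
  haveI := hΩ'
  have hsub : ∀ {H : Over S} [GrpObj H] {C : Over S} (k : C ⟶ H),
      (k ⊗ₘ k) ≫ (𝟙 H ⊗ₘ ι[H]) ≫ μ[H] = (fst C C ≫ k) * (snd C C ≫ k)⁻¹ := by
    intro H _ C k
    rw [Hom.mul_def, ← Category.assoc]
    congr 1
    apply CartesianMonoidalCategory.hom_ext <;> simp [GrpObj.inv_eq_inv, GrpObj.comp_inv]
  let κ := cellMap i pp pm
  let κ' := cellMap i' pp' pm'
  let Φ := ((κ ⊗ₘ κ) ≫ (𝟙 G ⊗ₘ ι[G]) ≫ μ[G]).left
  let Φ' := ((κ' ⊗ₘ κ') ≫ (𝟙 G' ⊗ₘ ι[G']) ≫ μ[G']).left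
  have key : ∀ {H : Over S} [GrpObj H] (_ : Rig H) {C : Over S} (k : C ⟶ H) [IsOpenImmersion k.left]
      (_ : ∀ s : S, η[H].left s ∈ Set.range k.left),
      Flat ((k ⊗ₘ k) ≫ (𝟙 H ⊗ₘ ι[H]) ≫ μ[H]).left ∧ Surjective ((k ⊗ₘ k) ≫ (𝟙 H ⊗ₘ ι[H]) ≫ μ[H]).left := by
    intro H _ hH C k _ hk
    haveI := hH.smooth
    let sh : H ⊗ H ≅ H ⊗ H :=
      { hom := lift (fst H H * (snd H H)⁻¹) (snd H H)
        inv := lift (fst H H * snd H H) (snd H H)
        hom_inv_id := by apply CartesianMonoidalCategory.hom_ext <;> simp [MonObj.comp_mul, GrpObj.comp_inv]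
        inv_hom_id := by apply CartesianMonoidalCategory.hom_ext <;> simp [MonObj.comp_mul, GrpObj.comp_inv] }
    have hD : (𝟙 H ⊗ₘ ι[H]) ≫ μ[H] = sh.hom ≫ fst H H := by
      have h := hsub (𝟙 H)
      rw [id_tensorHom_id, Category.id_comp, Category.comp_id, Category.comp_id] at h
      rw [h, lift_fst]
    haveI : IsIso sh.hom.left := ((Over.forget _).mapIso sh).isIso_hom
    haveI : Smooth (fst H H).left := inferInstanceAs (Smooth (pullback.fst H.hom H.hom))
    haveI : Flat (k ⊗ₘ k).left :=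
      MorphismProperty.pullback_map (P := @Flat) inferInstance inferInstance (Over.w k).symm (Over.w k).symm
    refine ⟨by rw [hD]; simp only [Over.comp_left]; infer_instance, ⟨fun y => ?_⟩⟩
    obtain ⟨z, h1, h2, h3, -⟩ := GrpNeutral20.exists_div H (fun s => GrpNeutral20.lft_fibres H s) (x := y)
      (by rw [hH.neutral]; trivial) k.left.opensRange (hk _)
    obtain ⟨w, hw⟩ : z ∈ Set.range (k ⊗ₘ k).left := by
      exact (Set.ext_iff.1 (Scheme.Pullback.range_map C.hom C.hom H.hom H.hom k.left k.left (𝟙 _)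
        (by simp) (by simp)) z).2 ⟨h1, h2⟩
    exact ⟨w, by rw [Over.comp_left, Scheme.Hom.comp_apply, hw, h3]⟩
  obtain ⟨hΦf, hΦs⟩ := key hG κ unit_mem_cell
  obtain ⟨hΦf', hΦs'⟩ := key hG' κ' unit_mem_cell
  haveI : Flat Φ := hΦf
  haveI : Surjective Φ := hΦs
  haveI : Flat Φ' := hΦf'
  haveI : Surjective Φ' := hΦs'
  haveI : IsIso (scale c).left := ((Over.forget _).mapIso (asIso (scale c))).isIso_hom
  haveI : IsIso (scale c⁻¹).left := ((Over.forget _).mapIso (asIso (scale c⁻¹))).isIso_hom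
  haveI : Flat (scale c⁻¹ ⊗ₘ fT).left :=
    MorphismProperty.pullback_map (P := @Flat) inferInstance inferInstance (Over.w _).symm (Over.w _).symm
  haveI : Surjective (scale c⁻¹ ⊗ₘ fT).left :=
    MorphismProperty.pullback_map (P := @Surjective) inferInstance inferInstance (Over.w _).symm (Over.w _).symm
  haveI : Flat (phi c fT).left :=
    MorphismProperty.pullback_map (P := @Flat) inferInstance inferInstance (Over.w _).symm (Over.w _).symm
  haveI : Surjective (phi c fT).left :=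
    MorphismProperty.pullback_map (P := @Surjective) inferInstance inferInstance (Over.w _).symm (Over.w _).symm
  let Ψ := (phi c fT ⊗ₘ phi c fT).left
  haveI : Flat Ψ :=
    MorphismProperty.pullback_map (P := @Flat) inferInstance inferInstance (Over.w _).symm (Over.w _).symm
  haveI : Surjective Ψ :=
    MorphismProperty.pullback_map (P := @Surjective) inferInstance inferInstance (Over.w _).symm (Over.w _).symm
  have e : Φ ≫ f.left = Ψ ≫ Φ' := by
    simp only [Φ, Φ', Ψ, κ, κ', ← Over.comp_left]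
    congr 1
    rw [hsub (cellMap i pp pm), hsub (cellMap i' pp' pm'), MonObj.mul_comp, GrpObj.inv_comp, MonObj.comp_mul,
      GrpObj.comp_inv, Category.assoc, Category.assoc, tensorHom_fst_assoc, tensorHom_snd_assoc,
      phi_cellMap f c fT hi hP hM]
    simp only [Category.assoc]
  haveI : Flat (Φ ≫ f.left) := by rw [e]; infer_instance
  haveI : Surjective (Φ ≫ f.left) := by rw [e]; infer_instance
  exact ⟨H12.flat_of_comp_of_surjective Φ f.left, Surjective.of_comp Φ f.left⟩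

omit [GrpObj T] [GrpObj T'] hi hP hM D D' hT' hΩ hΩ' hG in
theorem lfp_of_smooth [Smooth G.hom] [Smooth G'.hom] : LocallyOfFinitePresentation f.left := by
  haveI : LocallyOfFinitePresentation (f.left ≫ G'.hom) := by rw [Over.w f]; infer_instance
  exact SchBasic.locallyOfFinitePresentation_of_comp f.left G'.hom

end Groth.Agent.RankOne16
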