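import Groth.Agent.Lib.RankOne16.Contract

/-!
# Functions invertible at all points
-/

universe u

open CategoryTheory CategoryTheory.Limits MonoidalCategory CartesianMonoidalCategory MonObj AlgebraicGeometry

set_option linter.style.haveILetI false
set_option backward.isDefEq.respectTransparency false
set_option backward.isDefEq.respectTransparency.types false

noncomputable section

namespace Groth.Agent.RankOne16

variable {S : Scheme.{u}}

theorem isUnit_of_geom {X : Over S} (ν : Γ(X.left, ⊤)) (h : ∀ p : X.left, (geomHom p).left.appTop ν ≠ 0) :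
    IsUnit ν := by
  have htop : X.left.basicOpen ν = ⊤ := by
    refine top_le_iff.1 fun p _ => ?_
    let q : (kPt (Red.geomPt p ≫ X.hom)).left := (IsLocalRing.closedPoint (AlgebraicClosure (X.left.residueField p)) :
      Spec (CommRingCat.of (AlgebraicClosure (X.left.residueField p))))
    have hq : q ∈ (geomHom p).left ⁻¹ᵁ X.left.basicOpen ν := by
      rw [Scheme.preimage_basicOpen_top, Scheme.basicOpen_of_isUnit _ (isUnit_of_ne (h p))]
      trivial
    have hq' : (geomHom p).left q ∈ X.left.basicOpen ν := hq
    rwa [geomHom_apply] at hq'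
  have h1 := RingedSpace.isUnit_res_basicOpen X.left.toRingedSpace ν
  have h2 := h1.map (X.left.presheaf.map (homOfLE (show ⊤ ≤ X.left.basicOpen ν from htop.ge)).op).hom
  erw [← CommRingCat.comp_apply, ← Functor.map_comp] at h2
  rw [show ((homOfLE (X.left.toRingedSpace.basicOpen_le ν)).op ≫ (homOfLE (show ⊤ ≤ X.left.basicOpen ν from htop.ge)).op)
      = 𝟙 _ from Subsingleton.elim _ _] at h2
  erw [X.left.presheaf.map_id] at h2
  exact h2

end Groth.Agent.RankOne16
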