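import Groth.Agent.Lib.RankOne16.Rel
import Groth.Agent.Lib.RankOne16.Iso
import Groth.Agent.Lib.RankOne16.UnitVal

/-!
# The two charts `Ω` and `P T M w` of a group of semisimple rank one, and morphisms out of it
-/

universe u

open CategoryTheory CategoryTheory.Limits MonoidalCategory CartesianMonoidalCategory MonObj AlgebraicGeometry

set_option linter.style.haveILetI false
set_option backward.isDefEq.respectTransparency false
set_option backward.isDefEq.respectTransparency.types false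

noncomputable section

namespace Groth.Agent.RankOne16

open RankOne (P A w Datum)

variable {S : Scheme.{u}} {G T H : Over S} [GrpObj G] [GrpObj T] [GrpObj H]
variable {i : T ⟶ G} {α : T ⟶ Red.Gm S} {pp pm : Red.Ga S ⟶ G} {av : Red.Gm S ⟶ T}
  {fT : T ⟶ H} {fP : Red.Ga S ⟶ H} {h : 𝟙_ (Over S) ⟶ H}
variable (D : Datum i α pp pm av) [IsMonHom α] (hT : Red.IsTorus T)
include D hT

theorem relG : Rel T α av G i pp (W pp pm) where
  hom_T := D.hom_i
  hom_P := D.hom_pp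
  hom_av := D.hom_av
  hom_α := inferInstance
  comm := fun s t => torus_comm hT s t
  h2 := fun v => RankOne.unitOfPt_av D v
  r1 := fun t a => RankOne.conj_P D t a
  r2 := fun {X} t => by
    have := D.hom_i
    rw [comp_W, W_conj_T D, MonObj.mul_comp, GrpObj.inv_comp,
      show A i av (GmPts.unitOfPt (t ≫ α)) = (t ≫ α ≫ av) ≫ i by
        rw [← RankOne.comp_eq_A]; simp only [Category.assoc],
      ← GrpObj.inv_comp, ← MonObj.mul_comp, ← MonObj.mul_comp, torus_comm hT]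
  r3 := fun X => by rw [comp_W]; exact W_mul_W D
  r4 := fun X => by rw [comp_W]; exact RankOne.w_mul_P_pow D 1 (-1) (by simp)

theorem hW_eq (X : Over S) : hW (W pp pm : 𝟙_ (Over S) ⟶ G) X = W pp pm := comp_W _

theorem FM_eq {X : Over S} (a : Γ(X.left, ⊤)) : FM pp (W pp pm : 𝟙_ (Over S) ⟶ G) a = P pm a := by
  rw [FM, hW_eq D hT, W_conj_P D, neg_neg]

theorem F1_eq {X : Over S} (y : Γ(X.left, ⊤)) (t : X ⟶ T) (x : Γ(X.left, ⊤)) :
    F1 i pp (W pp pm : 𝟙_ (Over S) ⟶ G) y t x = cell i pp pm y t x := by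
  rw [F1, FM_eq D hT, cell]

theorem F2_eq {X : Over S} (a : Γ(X.left, ⊤)) (t : X ⟶ T) (c : Γ(X.left, ⊤)) :
    F2 i pp (W pp pm : 𝟙_ (Over S) ⟶ G) a t c = P pp a * (t ≫ i) * P pm c * W pp pm := by
  rw [F2, FM_eq D hT, hW_eq D hT]

omit D hT [IsMonHom α] in
theorem ga_inv_inv {X : Over S} (z : X ⟶ Red.Ga S) : z⁻¹⁻¹ = z :=
  GaPts.gaFn_injective (show Red.gaFn z⁻¹⁻¹ = Red.gaFn z by rw [GaPts.gaFn_inv, GaPts.gaFn_inv, neg_neg])

omit D hT [IsMonHom α] in
/-- the chart domain -/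
abbrev Dom (T : Over S) : Over S := (Red.Ga S ⊗ T) ⊗ Red.Ga S

omit D hT [IsMonHom α] in
/-- the second chart map -/
def kap2 (i : T ⟶ G) (pp pm : Red.Ga S ⟶ G) : Dom T ⟶ G :=
  P pp (Red.gaFn (fst (Red.Ga S ⊗ T) (Red.Ga S) ≫ fst (Red.Ga S) T)) *
    ((fst (Red.Ga S ⊗ T) (Red.Ga S) ≫ snd (Red.Ga S) T) ≫ i) *
    P pm (Red.gaFn (snd (Red.Ga S ⊗ T) (Red.Ga S))) * W pp pm

omit D hT [IsMonHom α] [GrpObj T] in
theorem lift_kap2 {X : Over S} (a : Γ(X.left, ⊤)) (t : X ⟶ T) (c : Γ(X.left, ⊤)) :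
    lift (lift (GaPts.ptOfFn a) t) (GaPts.ptOfFn c) ≫ kap2 i pp pm = P pp a * (t ≫ i) * P pm c * W pp pm := by
  have hf : ∀ (z : Dom T ⟶ Red.Ga S), (lift (lift (GaPts.ptOfFn a) t) (GaPts.ptOfFn c) : X ⟶ Dom T).left.appTop
      (Red.gaFn z) = Red.gaFn (lift (lift (GaPts.ptOfFn a) t) (GaPts.ptOfFn c) ≫ z) := fun z => (GaPts.gaFn_comp _ z).symm
  simp only [kap2, MonObj.comp_mul, RankOne.comp_P, comp_W, hf, lift_fst_assoc, lift_fst, lift_snd, lift_snd_assoc,
    GaPts.gaFn_ptOfFn, Category.assoc]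

theorem isOpenImmersion_kap2 (hΩ : IsOpenImmersion (cellMap i pp pm).left) :
    IsOpenImmersion (kap2 i pp pm).left := by
  have := D.hom_i; have := D.hom_pp; have := D.hom_pm
  let Z := Dom T
  let a : Z ⟶ Red.Ga S := fst (Red.Ga S ⊗ T) (Red.Ga S) ≫ fst (Red.Ga S) T
  let t : Z ⟶ T := fst (Red.Ga S ⊗ T) (Red.Ga S) ≫ snd (Red.Ga S) T
  let c : Z ⟶ Red.Ga S := snd (Red.Ga S ⊗ T) (Red.Ga S)
  let σ : Z ⟶ Z := lift (lift c⁻¹ t⁻¹) a⁻¹
  have hσ : σ ≫ σ = 𝟙 Z := by
    apply CartesianMonoidalCategory.hom_ext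
    · apply CartesianMonoidalCategory.hom_ext <;> simp [σ, a, t, c, Z, GrpObj.comp_inv] <;> exact ga_inv_inv _
    · simp [σ, a, t, c, Z, GrpObj.comp_inv] <;> exact ga_inv_inv _
  let τ : G ⟶ G := (𝟙 G)⁻¹ * W pp pm
  let τ' : G ⟶ G := W pp pm * (𝟙 G)⁻¹
  have hτ : τ ≫ τ' = 𝟙 G ∧ τ' ≫ τ = 𝟙 G := by
    constructor <;> simp [τ, τ', MonObj.comp_mul, GrpObj.comp_inv, comp_W, _root_.mul_assoc]
  haveI : IsIso σ := ⟨σ, hσ, hσ⟩
  haveI : IsIso τ := ⟨τ', hτ.1, hτ.2⟩
  haveI : IsIso σ.left := ((Over.forget _).mapIso (asIso σ)).isIso_hom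
  haveI : IsIso τ.left := ((Over.forget _).mapIso (asIso τ)).isIso_hom
  have e : kap2 i pp pm = σ ≫ cellMap i pp pm ≫ τ := by
    have h1 : σ ≫ cellMap i pp pm = cell i pp pm (-Red.gaFn c) t⁻¹ (-Red.gaFn a) := by
      rw [lift_cellMap, cell, RankOne.comp_eq_P, RankOne.comp_eq_P, GaPts.gaFn_inv, GaPts.gaFn_inv]
    rw [← Category.assoc, h1, ← cell_symm D]
    simp only [τ, MonObj.comp_mul, GrpObj.comp_inv, comp_W, Category.comp_id, inv_inv]
    rfl
  haveI := hΩ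
  rw [e, Over.comp_left, Over.comp_left]
  infer_instance

omit [IsMonHom α] hT in
theorem W_not_cell (hT : Red.IsTorus T) (hΩ : IsOpenImmersion (cellMap i pp pm).left) {K : Type u} [Field K]
    [IsAlgClosed K] {x : Spec (CommRingCat.of K) ⟶ S} (a : Γ((kPt x).left, ⊤)) (t : kPt x ⟶ T)
    (b : Γ((kPt x).left, ⊤)) : W pp pm ≠ cell i pp pm a t b := by
  intro h
  have := D.hom_i; have := D.hom_av; have := D.hom_pp; have := D.hom_pm
  obtain ⟨v, hv⟩ := exists_zpow_ne_one x 4 (by norm_num)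
  set z := GmPts.ptOfUnit v ≫ av with hz
  have hA : A i av v = z ≫ i := (Category.assoc _ _ _).symm
  set vi := (((v⁻¹ : (Γ((kPt x).left, ⊤))ˣ)) : Γ((kPt x).left, ⊤))
  have h1 : cell i pp pm a t b * A i av v = (A i av v)⁻¹ * cell i pp pm a t b := by
    rw [← h, ← W_conj_A D v, inv_mul_cancel_right]
  have h2 : cell i pp pm a t b * A i av v = cell i pp pm a (t * z) (vi * vi * b) := by
    rw [cell, cell, MonObj.mul_comp, ← hA]
    have e : P pp b * A i av v = A i av v * P pp (vi * vi * b) := by rw [RankOne.A_conj_P D, sq_mul_inv_sq]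
    simp only [_root_.mul_assoc, e]
  have h3 : (A i av v)⁻¹ * cell i pp pm a t b =
      cell i pp pm ((v : Γ((kPt x).left, ⊤)) * (v : Γ((kPt x).left, ⊤)) * a) (z⁻¹ * t) b := by
    rw [cell, cell, MonObj.mul_comp, GrpObj.inv_comp, ← hA, ← RankOne.A_inv, ← _root_.mul_assoc, ← _root_.mul_assoc,
      RankOne.A_conj_M D, inv_inv]
    simp only [_root_.mul_assoc]
  rw [h2, h3] at h1
  obtain ⟨-, h4, -⟩ := cell_inj hΩ h1
  rw [torus_comm hT t z] at h4
  have h5 := congrArg (fun y : kPt x ⟶ T => GmPts.unitOfPt (y ≫ α)) (mul_right_cancel h4)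
  have hz' : z⁻¹ = GmPts.ptOfUnit v⁻¹ ≫ av := by rw [GmPts.ptOfUnit_inv, GrpObj.inv_comp]
  rw [hz'] at h5
  simp only [hz, RankOne.unitOfPt_av D] at h5
  refine hv ?_
  rw [show (4 : ℤ) = (1 + 1) + (1 + 1) by norm_num, zpow_add, zpow_add, zpow_one]
  nth_rewrite 1 [h5]
  group

variable (hΩ : IsOpenImmersion (cellMap i pp pm).left)
include hΩ

/-- On the overlap the first coordinate is invertible. -/
theorem isUnit_overlap {X : Over S} {y : Γ(X.left, ⊤)} {t : X ⟶ T} {x : Γ(X.left, ⊤)} {a : Γ(X.left, ⊤)} {s : X ⟶ T}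
    {c : Γ(X.left, ⊤)} (h : cell i pp pm y t x = P pp a * (s ≫ i) * P pm c * W pp pm) : IsUnit y := by
  have := D.hom_i; have := D.hom_pp; have := D.hom_pm
  have key : ∀ p : X.left, (geomHom p).left.appTop y ≠ 0 := fun p hy => by
    have h' := congrArg (geomHom p ≫ ·) h
    simp only [comp_cell, MonObj.comp_mul, RankOne.comp_P, comp_W, hy] at h'
    set a' := (geomHom p).left.appTop a
    set c' := (geomHom p).left.appTop c
    set x' := (geomHom p).left.appTop x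
    set t' := geomHom p ≫ t
    rw [← Category.assoc] at h'
    set s' := geomHom p ≫ s
    obtain ⟨z, hz⟩ := P_mul_B D (-a') t' x'
    have e : W pp pm = cell i pp pm (-c') (s'⁻¹ * t') z := by
      calc (W pp pm : kPt (Red.geomPt p ≫ X.hom) ⟶ G) = (P pp a' * (s' ≫ i) * P pm c')⁻¹ * cell i pp pm 0 t' x' := by
            rw [h', inv_mul_cancel_left]
        _ = _ := by
            rw [cell_symm D, cell, cell, RankOne.P_zero, _root_.one_mul, cell, MonObj.mul_comp]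
            simp only [_root_.mul_assoc, hz]
    exact W_not_cell D hT hΩ _ _ _ e
  exact isUnit_of_geom _ key

theorem range_cover (hG : Rig G) (g : G.left) :
    g ∈ Set.range (cellMap i pp pm).left ∨ g ∈ Set.range (kap2 i pp pm).left := by
  have := D.hom_i; have := D.hom_pp; have := D.hom_pm
  have hpt : (geomHom (X := G) g ≫ 𝟙 G).left (IsLocalRing.closedPoint (AlgebraicClosure (G.left.residueField g))) = g := by
    rw [Category.comp_id]; exact geomHom_apply g _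
  rcases bruhat D hΩ hG (geomHom (X := G) g ≫ 𝟙 G) with ⟨t, a, h⟩ | ⟨a, t, b, h⟩
  · left
    rw [show (t ≫ i) * P pp a = cell i pp pm 0 t a by rw [cell, RankOne.P_zero, _root_.one_mul]] at h
    have h2 := inCell_cell (i := i) (pp := pp) (pm := pm) 0 t a
      (IsLocalRing.closedPoint (AlgebraicClosure (G.left.residueField g)))
    rw [← h, hpt] at h2
    exact h2
  · right
    have e : P pp a * (t ≫ i) * W pp pm * P pp b = lift (lift (GaPts.ptOfFn a) t) (GaPts.ptOfFn (-b)) ≫ kap2 i pp pm := by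
      rw [lift_kap2, ← W_conj_P D b]
      simp [_root_.mul_assoc]
    rw [e] at h
    rw [h] at hpt
    exact ⟨_, hpt⟩

end Groth.Agent.RankOne16
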