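import Groth.Agent.Lib.RankOne16.CommMain
import Groth.Agent.Lib.RankOne16.Charts
import Groth.Agent.Lib.RankOne16.Iso

/-!
# The root groups and the Borel subgroups of a rank-one system are closed
-/

universe u

open CategoryTheory CategoryTheory.Limits MonoidalCategory CartesianMonoidalCategory MonObj AlgebraicGeometry

set_option linter.style.haveILetI false
set_option backward.isDefEq.respectTransparency false
set_option backward.isDefEq.respectTransparency.types false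

noncomputable section

namespace Groth.Agent.RankOne16

open RankOne (P A Datum)

variable {S : Scheme.{u}} {G T : Over S} [GrpObj G] [GrpObj T]
variable {i : T ⟶ G} {α : T ⟶ Red.Gm S} {pp pm : Red.Ga S ⟶ G} {av : Red.Gm S ⟶ T}

theorem isAffineHom_Ga (S : Scheme.{u}) : IsAffineHom (Red.Ga S).hom :=
  MorphismProperty.pullback_snd (P := @IsAffineHom) _ _ (by
    change IsAffineHom (Spec.map (CommRingCat.ofHom (algebraMap (ULift.{u} ℤ) (SymmetricAlgebra (ULift.{u} ℤ) (ULift.{u} ℤ)))))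
    infer_instance)

theorem isSeparated_fst_of (A B : Over S) [IsSeparated B.hom] : IsSeparated (fst A B).left :=
  inferInstanceAs (IsSeparated (pullback.fst A.hom B.hom))

theorem isClosedImmersion_of_retraction {A B : Over S} (s : A ⟶ B) (r : B ⟶ A) (h : s ≫ r = 𝟙 A)
    [IsSeparated B.hom] : IsClosedImmersion s.left := by
  haveI : IsSeparated (r.left ≫ A.hom) := by rw [Over.w r]; infer_instance
  haveI : IsSeparated r.left := IsSeparated.of_comp r.left A.hom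
  haveI : IsClosedImmersion (s.left ≫ r.left) := by
    rw [← Over.comp_left, h]; exact inferInstanceAs (IsClosedImmersion (𝟙 _))
  exact IsClosedImmersion.of_comp s.left r.left

omit [GrpObj T] in
theorem tensor_mul (p : Red.Ga S ⟶ G) :
    (i ⊗ₘ p) ≫ μ[G] = (fst T (Red.Ga S) ≫ i) * (snd T (Red.Ga S) ≫ p) := by
  rw [Hom.mul_def, ← lift_map, lift_fst_snd, Category.id_comp]

variable (D : Datum i α pp pm av) [IsMonHom α] (hT : Red.IsTorus T)
variable (hΩ : IsOpenImmersion (cellMap i pp pm).left) (hG : Rig G)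
include D hT hΩ hG

theorem isSeparated_TGa : IsSeparated (T ⊗ Red.Ga S).hom ∧ IsSeparated (Dom T).hom := by
  haveI := MTRigid29.isAffineHom_of_isMultTypeFT (TorPts21.isMultTypeFT_of_isTorus hT)
  haveI := isAffineHom_Ga S
  constructor
  · show IsSeparated (pullback.fst T.hom (Red.Ga S).hom ≫ T.hom)
    infer_instance
  · haveI : IsSeparated (Red.Ga S ⊗ T).hom := by
      show IsSeparated (pullback.fst (Red.Ga S).hom T.hom ≫ (Red.Ga S).hom)
      infer_instance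
    show IsSeparated (pullback.fst (Red.Ga S ⊗ T).hom (Red.Ga S).hom ≫ (Red.Ga S ⊗ T).hom)
    infer_instance

/-- The Borel subgroup `T P₊` is closed. -/
theorem isClosedImmersion_borel : IsClosedImmersion ((i ⊗ₘ pp) ≫ μ[G]).left := by
  have := D.hom_i; have := D.hom_pp; have := D.hom_pm
  haveI := hΩ
  haveI := isOpenImmersion_kap2 D hT hΩ
  haveI := (isSeparated_TGa D hT hΩ hG).2
  let s : T ⊗ Red.Ga S ⟶ Dom T := lift (lift (GaPts.ptOfFn 0) (fst _ _)) (snd _ _)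
  let r : Dom T ⟶ T ⊗ Red.Ga S := lift (fst _ _ ≫ snd _ _) (snd _ _)
  have hsr : s ≫ r = 𝟙 _ := by
    apply CartesianMonoidalCategory.hom_ext <;> simp [s, r]
  haveI := isClosedImmersion_of_retraction s r hsr
  have hj : (i ⊗ₘ pp) ≫ μ[G] = s ≫ cellMap i pp pm := by
    rw [lift_cellMap, GaPts.ptOfFn_zero, MonObj.one_comp, _root_.one_mul, tensor_mul]
  let j := ((i ⊗ₘ pp) ≫ μ[G]).left
  haveI : IsPreimmersion (s.left ≫ (cellMap i pp pm).left) := inferInstance
  haveI : IsPreimmersion j := by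
    show IsPreimmersion ((i ⊗ₘ pp) ≫ μ[G]).left
    rw [hj, Over.comp_left]
    infer_instance
  refine IsClosedImmersion.of_isPreimmersion j (isOpen_compl_iff.1 ?_)
  have hrange : Set.range j = (cellMap i pp pm).left '' Set.range s.left := by
    rw [← Set.range_comp]
    show Set.range ((i ⊗ₘ pp) ≫ μ[G]).left = _
    rw [hj, Over.comp_left]
    rfl
  have hdisj : Disjoint (Set.range j) (Set.range (kap2 i pp pm).left) := by
    rw [Set.disjoint_iff]
    rintro g ⟨⟨a, ha⟩, ⟨b, hb⟩⟩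
    obtain ⟨q, -, -⟩ := Scheme.Pullback.exists_preimage_pullback (f := j) (g := (kap2 i pp pm).left) a b
      (ha.trans hb.symm)
    let X : Over S := Over.mk (pullback.fst j (kap2 i pp pm).left ≫ (T ⊗ Red.Ga S).hom)
    let u : X ⟶ T ⊗ Red.Ga S := Over.homMk (pullback.fst j (kap2 i pp pm).left)
    let v : X ⟶ Dom T := Over.homMk (pullback.snd j (kap2 i pp pm).left) (by
      show pullback.snd j (kap2 i pp pm).left ≫ (Dom T).hom = pullback.fst j (kap2 i pp pm).left ≫ (T ⊗ Red.Ga S).hom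
      rw [← Over.w (kap2 i pp pm), ← Over.w ((i ⊗ₘ pp) ≫ μ[G]), pullback.condition_assoc])
    have huv : u ≫ (i ⊗ₘ pp) ≫ μ[G] = v ≫ kap2 i pp pm := Over.OverMorphism.ext pullback.condition
    have hv : v = lift (lift (GaPts.ptOfFn (Red.gaFn (v ≫ fst _ _ ≫ fst _ _))) (v ≫ fst _ _ ≫ snd _ _))
        (GaPts.ptOfFn (Red.gaFn (v ≫ snd _ _))) := by
      have e : ∀ {X' : Over S} (w : X' ⟶ Red.Ga S), GaPts.ptOfFn (Red.gaFn w) = w := fun w =>
        GaPts.gaFn_injective (GaPts.gaFn_ptOfFn _)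
      rw [e, e]
      apply CartesianMonoidalCategory.hom_ext
      · apply CartesianMonoidalCategory.hom_ext <;> simp
      · simp
    have hu : u ≫ (i ⊗ₘ pp) ≫ μ[G] = cell i pp pm 0 (u ≫ fst _ _) (Red.gaFn (u ≫ snd _ _)) := by
      rw [hj, cell_eq, ← Category.assoc]
      congr 1
      rw [GaPts.gaFn_injective (show Red.gaFn (GaPts.ptOfFn (Red.gaFn (u ≫ snd _ _)) : X ⟶ Red.Ga S) =
        Red.gaFn (u ≫ snd _ _) from GaPts.gaFn_ptOfFn _)]
      apply CartesianMonoidalCategory.hom_ext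
      · apply CartesianMonoidalCategory.hom_ext <;> simp [s, GaPts.ptOfFn_comp]
      · simp [s]
    rw [hu, hv, lift_kap2] at huv
    have h0 := isUnit_overlap D hT hΩ huv
    haveI : Nonempty (⊤ : X.left.Opens) := ⟨⟨q, trivial⟩⟩
    haveI : Nontrivial Γ(X.left, ⊤) := Scheme.component_nontrivial X.left ⊤
    exact not_isUnit_zero h0
  have heq : (Set.range j)ᶜ = (cellMap i pp pm).left '' (Set.range s.left)ᶜ ∪ Set.range (kap2 i pp pm).left := by
    ext g
    constructor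
    · intro hg
      rcases range_cover D hT hΩ hG g with ⟨z, rfl⟩ | h
      · exact Or.inl ⟨z, fun hz => hg (hrange ▸ ⟨z, hz, rfl⟩), rfl⟩
      · exact Or.inr h
    · rintro (⟨z, hz, rfl⟩ | h) hg
      · rw [hrange] at hg
        obtain ⟨z', hz', he⟩ := hg
        exact hz ((cellMap i pp pm).left.isOpenEmbedding.injective he ▸ hz')
      · exact Set.disjoint_iff.1 hdisj ⟨hg, h⟩
  rw [heq]
  exact ((cellMap i pp pm).left.isOpenEmbedding.isOpenMap _ s.left.isClosedEmbedding.isClosed_range.isOpen_compl).union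
    (kap2 i pp pm).left.isOpenEmbedding.isOpen_range

/-- The Borel subgroup `T P₋` is closed. -/
theorem isClosedImmersion_borel_neg : IsClosedImmersion ((i ⊗ₘ pm) ≫ μ[G]).left := by
  have := D.hom_i; have := D.hom_pp; have := D.hom_pm
  have R := relG D hT
  let e : T ⊗ Red.Ga S ⟶ T ⊗ Red.Ga S := lift (sT α av (fst _ _)) (snd _ _)⁻¹
  have he : e ≫ e = 𝟙 _ := by
    have h1 : e ≫ sT α av (fst T (Red.Ga S)) = sT α av (e ≫ fst T (Red.Ga S)) := by
      simp only [sT, MonObj.comp_mul, GrpObj.comp_inv, Category.assoc]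
    apply CartesianMonoidalCategory.hom_ext
    · rw [Category.assoc, lift_fst, h1, lift_fst, R.sT_sT, Category.id_comp]
    · rw [Category.assoc, lift_snd, GrpObj.comp_inv, lift_snd, ga_inv_inv, Category.id_comp]
  haveI : IsIso e := ⟨e, he, he⟩
  let σ : G ⟶ G := W pp pm * 𝟙 G * (W pp pm)⁻¹
  let σ' : G ⟶ G := (W pp pm)⁻¹ * 𝟙 G * W pp pm
  have hσ : σ ≫ σ' = 𝟙 G ∧ σ' ≫ σ = 𝟙 G := by
    constructor <;> simp [σ, σ', MonObj.comp_mul, GrpObj.comp_inv, comp_W, _root_.mul_assoc]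
  haveI : IsIso σ := ⟨σ', hσ.1, hσ.2⟩
  haveI : IsIso σ.left := ((Over.forget _).mapIso (asIso σ)).isIso_hom
  haveI : IsIso e.left := ((Over.forget _).mapIso (asIso e)).isIso_hom
  have hpt : (i ⊗ₘ pm) ≫ μ[G] = e ≫ ((i ⊗ₘ pp) ≫ μ[G]) ≫ σ := by
    have h1 : e ≫ (i ⊗ₘ pp) ≫ μ[G] =
        (sT α av (fst T (Red.Ga S)) ≫ i) * P pp (-Red.gaFn (snd T (Red.Ga S))) := by
      rw [lift_map_assoc, ← Hom.mul_def, RankOne.comp_eq_P, GaPts.gaFn_inv]
    have h2 : (i ⊗ₘ pm) ≫ μ[G] = (fst T (Red.Ga S) ≫ i) * P pm (Red.gaFn (snd T (Red.Ga S))) := by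
      rw [← RankOne.comp_eq_P, tensor_mul]
    have h3 : ∀ g : T ⊗ Red.Ga S ⟶ G, g ≫ σ = W pp pm * g * (W pp pm)⁻¹ := fun g => by
      simp only [σ, MonObj.comp_mul, GrpObj.comp_inv, comp_W, Category.comp_id]
    rw [← Category.assoc, h1, h3, h2]
    have h4 := R.h_conj_T (sT α av (fst T (Red.Ga S)))
    rw [R.sT_sT, hW_eq D hT] at h4
    rw [← h4, show P pm (Red.gaFn (snd T (Red.Ga S))) =
      W pp pm * P pp (-Red.gaFn (snd T (Red.Ga S))) * (W pp pm : T ⊗ Red.Ga S ⟶ G)⁻¹ by rw [W_conj_P D, neg_neg]]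
    simp [_root_.mul_assoc]
  haveI := isClosedImmersion_borel D hT hΩ hG
  rw [hpt, Over.comp_left, Over.comp_left]
  infer_instance

/-- The root groups are closed. -/
theorem isClosedImmersion_root : IsClosedImmersion pp.left ∧ IsClosedImmersion pm.left := by
  have := D.hom_i; have := D.hom_pp; have := D.hom_pm
  haveI := (isSeparated_TGa D hT hΩ hG).1
  let s : Red.Ga S ⟶ T ⊗ Red.Ga S := lift 1 (𝟙 _)
  haveI := isClosedImmersion_of_retraction s (snd _ _) (lift_snd _ _)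
  have e : ∀ p : Red.Ga S ⟶ G, s ≫ (i ⊗ₘ p) ≫ μ[G] = p := fun p => by
    rw [lift_map_assoc, ← Hom.mul_def, MonObj.one_comp, _root_.one_mul, Category.id_comp]
  constructor
  · haveI := isClosedImmersion_borel D hT hΩ hG
    rw [← e pp, Over.comp_left]
    infer_instance
  · haveI := isClosedImmersion_borel_neg D hT hΩ hG
    rw [← e pm, Over.comp_left]
    infer_instance

omit D [IsMonHom α] hT hΩ hG in
/-- A commutation rule with slope `c` becomes a datum after rescaling `p₊`. -/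
theorem exists_datum (K : Cellular i α pp pm)
    (hnc : ∀ s : S, ¬ ∀ (X : Over S) (_ : X ⟶ sp (Red.geomPt s)) (u v : Γ(X.left, ⊤)),
      P pp u * P pm v = P pm v * P pp u) :
    ∃ (σ : Red.Ga S ⟶ Red.Ga S) (av : Red.Gm S ⟶ T), IsIso σ ∧ Datum i α (σ ≫ pp) pm av ∧
      IsOpenImmersion (cellMap i (σ ≫ pp) pm).left := by
  have := K.hom_i; have := K.hom_α; have := K.hom_pp; have := K.hom_pm
  obtain ⟨c, av, hc, hav, hsq, -, hco⟩ := K.exists_rule hnc
  let c₁ : 𝟙_ (Over S) ⟶ Red.Gm S := (GmPts.ptOfUnit (c _))⁻¹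
  let σ := scale c₁
  have hσ : ∀ {X : Over S} (y : X ⟶ Red.Ga S),
      Red.gaFn (y ≫ σ) = (((c X)⁻¹ : (Γ(X.left, ⊤))ˣ) : Γ(X.left, ⊤)) * Red.gaFn y := fun {X} y => by
    rw [gaFn_scale, cU_inv, cU, GmPts.ptOfUnit_comp, GmPts.unitOfPt_ptOfUnit]
    rw [show Units.map (toUnit X).left.appTop.hom.toMonoidHom (c _) = c X from hc _ X (toUnit X)]
  haveI : IsMonHom σ := TorsorSch25.isMonHom_of_points σ fun X a b => GaPts.gaFn_injective
    (show Red.gaFn ((a * b) ≫ σ) = Red.gaFn (a ≫ σ * (b ≫ σ)) by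
      rw [GaPts.gaFn_mul, hσ, hσ, hσ, GaPts.gaFn_mul, mul_add])
  refine ⟨σ, av, isIso_scale c₁, ⟨inferInstance, inferInstance, inferInstance, hav, fun X t y => ?_, K.hpm, ?_,
    fun X a b hu => ?_⟩, ?_⟩
  · obtain ⟨x', h1, h2⟩ := K.hpp X t (y ≫ σ)
    refine ⟨GaPts.ptOfFn (Red.gmFn (t ≫ α) * Red.gaFn y), ?_, GaPts.gaFn_ptOfFn _⟩
    rw [← Category.assoc, ← Category.assoc, ← h1]
    congr 1
    apply GaPts.gaFn_injective
    show Red.gaFn _ = Red.gaFn _
    rw [hσ, h2, hσ, GaPts.gaFn_ptOfFn]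
    ring
  · apply (GmPts.equiv _).injective
    show GmPts.unitOfPt (av ≫ α) = GmPts.unitOfPt ((𝟙 (Red.Gm S)) ^ 2)
    have h1 := hsq _ (GmPts.unitOfPt (𝟙 (Red.Gm S)))
    rw [GmPts.ptOfUnit_unitOfPt, Category.id_comp] at h1
    rw [h1, pow_two, GmPts.unitOfPt_mul]
  · obtain ⟨z, hz⟩ := hu
    have hz' : (z : Γ(X.left, ⊤)) = 1 + (c X : Γ(X.left, ⊤)) * Red.gaFn (a ≫ σ) * Red.gaFn b := by
      rw [hz, hσ, Units.mul_inv_cancel_left]
    refine ⟨GaPts.ptOfFn (Red.gaFn a * ((z⁻¹ : (Γ(X.left, ⊤))ˣ) : Γ(X.left, ⊤))),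
      GaPts.ptOfFn (Red.gaFn b * ((z⁻¹ : (Γ(X.left, ⊤))ˣ) : Γ(X.left, ⊤))), GmPts.ptOfUnit z,
      by rw [GmPts.gmFn_ptOfUnit, hz],
      by rw [GaPts.gaFn_ptOfFn, GmPts.gmFn_ptOfUnit, Units.inv_mul_cancel_right],
      by rw [GaPts.gaFn_ptOfFn, GmPts.gmFn_ptOfUnit, Units.inv_mul_cancel_right], ?_⟩
    have h := hco X _ _ z hz'
    rw [Co, cell] at h
    rw [← Category.assoc a σ pp, RankOne.comp_eq_P pp (a ≫ σ), RankOne.comp_eq_P pm b, h,
      ← Category.assoc _ σ pp, RankOne.comp_eq_P pp, hσ, hσ, GaPts.gaFn_ptOfFn, Category.assoc, _root_.mul_assoc _ (Red.gaFn a)]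
    rfl
  · haveI := K.hΩ
    haveI : IsIso σ := isIso_scale c₁
    let e : (Red.Ga S ⊗ T) ⊗ Red.Ga S ⟶ (Red.Ga S ⊗ T) ⊗ Red.Ga S := (𝟙 _) ⊗ₘ σ
    haveI : IsIso e := inferInstance
    haveI : IsIso e.left := ((Over.forget _).mapIso (asIso e)).isIso_hom
    have he : cellMap i (σ ≫ pp) pm = e ≫ cellMap i pp pm := by
      show _ ≫ _ = (_ ⊗ₘ σ) ≫ _ ≫ _
      rw [← Category.assoc ((𝟙 _) ⊗ₘ σ), MonoidalCategory.tensorHom_comp_tensorHom, Category.id_comp]
    rw [he, Over.comp_left]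
    infer_instance

end Groth.Agent.RankOne16
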