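import Groth.Agent.Lib.RankOne16.Contract
import Groth.Agent.Lib.TorPts21.ReductiveCartanField

/-!
# What commutes with a maximal torus is in it at every geometric point
-/

universe u

open CategoryTheory CategoryTheory.Limits MonoidalCategory CartesianMonoidalCategory MonObj AlgebraicGeometry

set_option linter.style.haveILetI false
set_option backward.isDefEq.respectTransparency false
set_option backward.isDefEq.respectTransparency.types false

noncomputable section

namespace Groth.Agent.RankOne16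

variable {S : Scheme.{u}}

/-- Points of a base change, as a multiplicative bijection. -/
theorem homEquiv_mul {S' : Scheme.{u}} (ψ : S' ⟶ S) {G : Over S} [GrpObj G] (A : Over S')
    (a b : (Over.map ψ).obj A ⟶ G) :
    (Over.mapPullbackAdj ψ).homEquiv A G (a * b) =
      (Over.mapPullbackAdj ψ).homEquiv A G a * (Over.mapPullbackAdj ψ).homEquiv A G b := by
  simp only [(Over.mapPullbackAdj ψ).homEquiv_unit]
  rw [← MonObj.comp_mul]
  congr 1
  exact Functor.map_mul (Over.pullback ψ) a b

theorem exists_factor_geomPt {K : Type u} [Field K] [IsAlgClosed K] (x : Spec (CommRingCat.of K) ⟶ S) :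
    ∃ (s : S) (σ : Spec (CommRingCat.of K) ⟶ Spec (CommRingCat.of (AlgebraicClosure (S.residueField s)))),
      σ ≫ Red.geomPt s = x := by
  obtain ⟨⟨s, φ⟩, rfl⟩ := (Scheme.SpecToEquivOfField K S).symm.surjective x
  refine ⟨s, ?_⟩
  letI : Algebra (S.residueField s) K := φ.hom.toAlgebra
  let l : AlgebraicClosure (S.residueField s) →ₐ[S.residueField s] K := IsAlgClosed.lift
  refine ⟨Spec.map (CommRingCat.ofHom l.toRingHom), ?_⟩
  show Spec.map _ ≫ Spec.map _ ≫ S.fromSpecResidueField s = Spec.map φ ≫ S.fromSpecResidueField s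
  rw [← Category.assoc, ← Spec.map_comp]
  congr 2
  ext z
  exact l.commutes z

variable {G T : Over S} [GrpObj G] [GrpObj T] {i : T ⟶ G}

theorem mem_maxTorus_pt (hG : Red.IsReductive G) (hTm : Red.IsMaximalTorus i) {K : Type u} [Field K] [IsAlgClosed K]
    (x : Spec (CommRingCat.of K) ⟶ S) (g : kPt x ⟶ G)
    (hg : ∀ (X' : Over S) (e : X' ⟶ kPt x) (t : X' ⟶ T), (e ≫ g) * (t ≫ i) = (t ≫ i) * (e ≫ g)) :
    ∃ t : kPt x ⟶ T, t ≫ i = g := by
  haveI := hTm.1
  haveI := hTm.2.1
  obtain ⟨s, σ, rfl⟩ := exists_factor_geomPt x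
  let ψ := Red.geomPt s
  let adj := Over.mapPullbackAdj ψ
  let F := Over.pullback ψ
  obtain ⟨hGa, hGs, hGc, -⟩ := id (hG.2.2 s)
  haveI := hGa
  haveI := hGs
  haveI := hGc
  have hmax : AGF.IsMaxTorus (F.map i) := ⟨inferInstance, inferInstance,
    TorusHom19.isTorus_bc hTm.2.2.1 ψ, fun T' _ j _ _ f hT' hf => hTm.2.2.2 s T' j f hT' hf⟩
  obtain ⟨C, _, c, hc, -, -⟩ := MTRigid29.exists_centralizer
    (MTRigid29.isMT_of_ft (TorPts21.isMultTypeFT_of_isTorus hmax.2.2.1)) hGs inferInstance (F.map i)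
  let A : Over (Spec (CommRingCat.of (AlgebraicClosure (S.residueField s)))) := Over.mk σ
  let g₀ : (Over.map ψ).obj A ⟶ G := g
  obtain ⟨z, hz⟩ := (hc.2.2 A (adj.homEquiv A G g₀)).2 fun B e h => by
    let t : (Over.map ψ).obj B ⟶ T := (adj.homEquiv B T).symm h
    have ht : adj.homEquiv B G (t ≫ i) = h ≫ F.map i := by
      rw [adj.homEquiv_naturality_right, Equiv.apply_symm_apply]
    have he : adj.homEquiv B G ((Over.map ψ).map e ≫ g₀) = e ≫ adj.homEquiv A G g₀ := adj.homEquiv_naturality_left e g₀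
    rw [← he, ← ht, ← homEquiv_mul, ← homEquiv_mul]
    congr 1
    exact hg _ _ t
  obtain ⟨f, hf⟩ := TorPts21.exists_lift_cartan_reductive (hG.2.2 s) hmax hc
  refine ⟨(adj.homEquiv A T).symm (z ≫ f), (adj.homEquiv A G).injective ?_⟩
  rw [adj.homEquiv_naturality_right, Equiv.apply_symm_apply, Category.assoc, hf, hz]

end Groth.Agent.RankOne16
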