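import Groth.Agent.Lib.RankOne16.Cover

/-!
# Conjugation by the Weyl element `w(1)`
-/

universe u

open CategoryTheory CategoryTheory.Limits MonoidalCategory CartesianMonoidalCategory MonObj AlgebraicGeometry

set_option backward.isDefEq.respectTransparency false
set_option backward.isDefEq.respectTransparency.types false

noncomputable section

namespace Groth.Agent.RankOne16

open RankOne (P A w Datum)

variable {S : Scheme.{u}} {G T : Over S} [GrpObj G] [GrpObj T]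
variable {i : T ⟶ G} {α : T ⟶ Red.Gm S} {pp pm : Red.Ga S ⟶ G} {av : Red.Gm S ⟶ T} {X X' : Over S}

/-- the Weyl element `w(1)` -/
def W (pp pm : Red.Ga S ⟶ G) : X ⟶ G := w pp pm (1 : Γ(X.left, ⊤)) (-1)

omit [GrpObj T] in
theorem comp_W (g : X' ⟶ X) : g ≫ W pp pm = (W pp pm : X' ⟶ G) := by
  rw [W, RankOne.comp_w, map_one, map_neg, map_one]; rfl

theorem comp_A (g : X' ⟶ X) (v : (Γ(X.left, ⊤))ˣ) :
    g ≫ A i av v = A i av (Units.map g.left.appTop.hom.toMonoidHom v) := by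
  rw [A, A, ← Category.assoc, GmPts.ptOfUnit_comp]

variable (D : Datum i α pp pm av)
include D

theorem W_mul_W : W pp pm * (W pp pm : X ⟶ G) = A i av (-1) :=
  RankOne.w_mul_w D 1 (-1) 1 (-1) (-1) (by simp) (by simp) (by simp)

theorem W_conj_T (t : X ⟶ T) :
    W pp pm * (t ≫ i) * (W pp pm)⁻¹ = (A i av (GmPts.unitOfPt (t ≫ α)))⁻¹ * (t ≫ i) := by
  set c := GmPts.unitOfPt (t ≫ α) with hc
  have h1 : (t ≫ i) * W pp pm * (t ≫ i)⁻¹ = A i av c * W pp pm := by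
    rw [W, ← RankOne.w_smul_left D c 1 (-1) ((c : Γ(X.left, ⊤)) * 1)
      (((c⁻¹ : (Γ(X.left, ⊤))ˣ) : Γ(X.left, ⊤)) * (-1)) (by simp) rfl (by simp)]
    unfold RankOne.w
    rw [hc, ← RankOne.conj_P D, ← RankOne.conj_M D]
    simp [_root_.mul_assoc]
  rw [mul_inv_eq_iff_eq_mul, _root_.mul_assoc _ (t ≫ i), mul_inv_eq_iff_eq_mul.mp h1]
  simp [_root_.mul_assoc]

theorem W_conj_A (v : (Γ(X.left, ⊤))ˣ) : W pp pm * A i av v * (W pp pm)⁻¹ = (A i av v)⁻¹ := by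
  have := D.hom_i; have := D.hom_av
  have h := W_conj_T D (GmPts.ptOfUnit v ≫ av)
  rw [RankOne.unitOfPt_av D, Category.assoc] at h
  rw [show GmPts.ptOfUnit v ≫ av ≫ i = A i av v from rfl] at h
  rw [h, RankOne.A_mul, mul_inv_rev, _root_.mul_assoc, inv_mul_cancel, _root_.mul_one]

theorem W_conj_P_unit (c : (Γ(X.left, ⊤))ˣ) :
    W pp pm * P pp (c : Γ(X.left, ⊤)) * (W pp pm)⁻¹ = P pm (-(c : Γ(X.left, ⊤))) := by
  have := D.hom_i; have := D.hom_av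
  set c' : Γ(X.left, ⊤) := -(((c⁻¹ : (Γ(X.left, ⊤))ˣ)) : Γ(X.left, ⊤))
  have hc : c' * (c : Γ(X.left, ⊤)) = -1 := by simp [c']
  have h := RankOne.w_conj_P D (c : Γ(X.left, ⊤)) c' hc
  rw [RankOne.w_smul_left D c 1 (-1) (c : Γ(X.left, ⊤)) c' (by simp) (by simp) hc, ← W] at h
  have hx : A i av c⁻¹ * P pm c' * (A i av c⁻¹)⁻¹ = P pm (-(c : Γ(X.left, ⊤))) := by
    rw [RankOne.A_conj_M D, inv_inv, mul_inv_cancel_right]
    congr 1
    simp [c', _root_.mul_assoc]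
  rw [← hx, ← h, RankOne.A_inv]
  simp [_root_.mul_assoc]

theorem W_conj_P (a : Γ(X.left, ⊤)) : W pp pm * P pp a * (W pp pm)⁻¹ = P pm (-a) := by
  have := D.hom_pp; have := D.hom_pm
  obtain ⟨X', g, u, v, hg, h⟩ := exists_cover_two_units X a
  rw [← cancel_epi g, MonObj.comp_mul, MonObj.comp_mul, GrpObj.comp_inv, comp_W, RankOne.comp_P,
    RankOne.comp_P, map_neg, h, neg_add, RankOne.P_add, RankOne.P_add, ← W_conj_P_unit D u, ← W_conj_P_unit D v]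
  simp [_root_.mul_assoc]

theorem W_conj_M (a : Γ(X.left, ⊤)) : W pp pm * P pm a * (W pp pm)⁻¹ = P pp (-a) := by
  have := D.hom_i; have := D.hom_av
  have h := W_conj_P D (-a)
  rw [neg_neg] at h
  rw [← h, show W pp pm * (W pp pm * P pp (-a) * (W pp pm : X ⟶ G)⁻¹) * (W pp pm)⁻¹ =
    (W pp pm * W pp pm) * P pp (-a) * (W pp pm * W pp pm)⁻¹ by simp [_root_.mul_assoc],
    W_mul_W D, RankOne.A_conj_P D, mul_inv_cancel_right]
  simp

/-- `M b` is in the big cell for `P T w P` when `b` is a unit -/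
theorem M_unit (b : (Γ(X.left, ⊤))ˣ) :
    P pm (b : Γ(X.left, ⊤)) = P pp (((b⁻¹ : (Γ(X.left, ⊤))ˣ)) : Γ(X.left, ⊤)) * A i av (-b⁻¹) * W pp pm *
      P pp (((b⁻¹ : (Γ(X.left, ⊤))ˣ)) : Γ(X.left, ⊤)) := by
  have := D.hom_pp
  have h := RankOne.w_smul_left D (-b⁻¹) 1 (-1) (-(((b⁻¹ : (Γ(X.left, ⊤))ˣ)) : Γ(X.left, ⊤))) (b : Γ(X.left, ⊤))
    (by simp) (by simp) (by simp)
  rw [← W] at h
  rw [_root_.mul_assoc (P pp _) (A i av _), ← h, RankOne.w, RankOne.P_neg]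
  simp [_root_.mul_assoc]

end Groth.Agent.RankOne16
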