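import Groth.Agent.Lib.RankOne16.Gen
import Groth.Agent.Lib.RankOne16.Weyl
import Mathlib.AlgebraicGeometry.AlgClosed.Basic

/-!
# The Bruhat decomposition of the rational points over an algebraically closed field
-/

universe u

open CategoryTheory CategoryTheory.Limits MonoidalCategory CartesianMonoidalCategory MonObj AlgebraicGeometry

set_option linter.style.haveILetI false
set_option backward.isDefEq.respectTransparency false
set_option backward.isDefEq.respectTransparency.types false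

noncomputable section

namespace Groth.Agent.RankOne16

open RankOne (P A w Datum)

variable {S : Scheme.{u}} {K : Type u} [Field K]

/-- a field valued point of the base -/
abbrev kPt (x : Spec (CommRingCat.of K) ⟶ S) : Over S := Over.mk x

theorem isUnit_of_ne {x : Spec (CommRingCat.of K) ⟶ S} {a : Γ((kPt x).left, ⊤)} (ha : a ≠ 0) : IsUnit a := by
  let e : Γ(Spec (CommRingCat.of K), ⊤) ≃+* K := (Scheme.ΓSpecIso (CommRingCat.of K)).commRingCatIsoToRingEquiv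
  have h : IsUnit (e a) := isUnit_iff_ne_zero.2 fun h => ha ((map_eq_zero_iff e e.injective).1 h)
  simpa using h.map e.symm

theorem exists_zpow_ne_one [IsAlgClosed K] (x : Spec (CommRingCat.of K) ⟶ S) (n : ℤ) (hn : n ≠ 0) :
    ∃ v : (Γ((kPt x).left, ⊤))ˣ, v ^ n ≠ 1 := by
  let e : Γ(Spec (CommRingCat.of K), ⊤) ≃+* K := (Scheme.ΓSpecIso (CommRingCat.of K)).commRingCatIsoToRingEquiv
  classical
  have hm : n.natAbs ≠ 0 := Int.natAbs_ne_zero.2 hn
  obtain ⟨c, hc⟩ := Infinite.exists_notMem_finset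
    (insert (0 : K) ((Polynomial.X ^ n.natAbs - Polynomial.C (1 : K)).roots.toFinset))
  rw [Finset.mem_insert, not_or, Multiset.mem_toFinset,
    Polynomial.mem_roots (Polynomial.X_pow_sub_C_ne_zero (Nat.pos_of_ne_zero hm) 1)] at hc
  refine ⟨Units.map e.symm.toRingHom.toMonoidHom (Units.mk0 c hc.1), fun h => hc.2 ?_⟩
  have h1 : (Units.mk0 c hc.1) ^ n = 1 := Units.map_injective (f := e.symm.toRingHom.toMonoidHom)
    e.symm.injective ((map_zpow (Units.map e.symm.toRingHom.toMonoidHom) _ n).trans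
      (h.trans (map_one _).symm))
  have h2 : (Units.mk0 c hc.1) ^ n.natAbs = 1 := pow_natAbs_eq_one.2 h1
  simpa [Polynomial.IsRoot, sub_eq_zero] using congrArg Units.val h2

theorem exists_section [IsAlgClosed K] {x : Spec (CommRingCat.of K) ⟶ S} {X' : Over S} (e : X' ⟶ kPt x)
    [LocallyOfFiniteType e.left] [Surjective e.left] : ∃ s : kPt x ⟶ X', s ≫ e = 𝟙 _ := by
  let f : X'.left ⟶ Spec (CommRingCat.of K) := e.left
  haveI : LocallyOfFiniteType f := ‹LocallyOfFiniteType e.left›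
  haveI : JacobsonSpace X'.left := LocallyOfFiniteType.jacobsonSpace f
  obtain ⟨p, -⟩ := e.left.surjective (IsLocalRing.closedPoint K)
  obtain ⟨z, -, hz⟩ := nonempty_inter_closedPoints (Z := (Set.univ : Set X'.left)) ⟨p, trivial⟩
    isClosed_univ.isLocallyClosed
  have hw : e.left ≫ x = X'.hom := Over.w e
  refine ⟨Over.homMk (pointOfClosedPoint f z hz) ?_, Over.OverMorphism.ext (pointOfClosedPoint_comp f z hz)⟩
  show pointOfClosedPoint f z hz ≫ X'.hom = x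
  rw [← hw, show e.left ≫ x = f ≫ x from rfl, pointOfClosedPoint_comp_assoc]

variable {G T : Over S} [GrpObj G] [GrpObj T]
variable {i : T ⟶ G} {α : T ⟶ Red.Gm S} {pp pm : Red.Ga S ⟶ G} {av : Red.Gm S ⟶ T}
variable {x : Spec (CommRingCat.of K) ⟶ S}

omit [Field K] in
theorem comp_cell {X X' : Over S} (g : X' ⟶ X) (a : Γ(X.left, ⊤)) (t : X ⟶ T) (b : Γ(X.left, ⊤)) :
    g ≫ cell i pp pm a t b = cell i pp pm (g.left.appTop a) (g ≫ t) (g.left.appTop b) := by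
  simp only [cell, MonObj.comp_mul, RankOne.comp_P, Category.assoc]

theorem exists_pt_cells [IsAlgClosed K] [IsMonHom i] [IsMonHom pp] [IsMonHom pm]
    (hΩ : IsOpenImmersion (cellMap i pp pm).left) (hG : Rig G) (g : kPt x ⟶ G) :
    ∃ (a b a' b' : Γ((kPt x).left, ⊤)) (t t' : kPt x ⟶ T),
      g = cell i pp pm a t b * (cell i pp pm a' t' b')⁻¹ := by
  obtain ⟨X', e, a, b, a', b', t, t', ⟨-, hl, hs⟩, h⟩ := exists_cover_cells hΩ hG g
  haveI := hl
  haveI := hs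
  obtain ⟨s, hse⟩ := exists_section e
  have h' := congrArg (s ≫ ·) h
  simp only [reassoc_of% hse, MonObj.comp_mul, GrpObj.comp_inv, comp_cell] at h'
  exact ⟨_, _, _, _, _, _, h'⟩

/-- `B` form or big form -/
def Br (pp pm : Red.Ga S ⟶ G) (i : T ⟶ G) {X : Over S} (g : X ⟶ G) : Prop :=
  (∃ (t : X ⟶ T) (a : Γ(X.left, ⊤)), g = (t ≫ i) * P pp a) ∨
    ∃ (a : Γ(X.left, ⊤)) (t : X ⟶ T) (b : Γ(X.left, ⊤)), g = P pp a * (t ≫ i) * W pp pm * P pp b

variable (D : Datum i α pp pm av)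
include D

omit [Field K] in
theorem br_T {X : Over S} {g : X ⟶ G} (hg : Br pp pm i g) (s : X ⟶ T) : Br pp pm i ((s ≫ i) * g) := by
  have := D.hom_i
  rcases hg with ⟨t, a, rfl⟩ | ⟨a, t, b, rfl⟩
  · exact Or.inl ⟨s * t, a, by rw [MonObj.mul_comp, _root_.mul_assoc]⟩
  · refine Or.inr ⟨(GmPts.unitOfPt (s ≫ α) : Γ(X.left, ⊤)) * a, s * t, b, ?_⟩
    rw [MonObj.mul_comp, ← RankOne.conj_P D]
    simp [_root_.mul_assoc]

omit [Field K] in
theorem P_mul_B {X : Over S} (c : Γ(X.left, ⊤)) (t : X ⟶ T) (a : Γ(X.left, ⊤)) :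
    ∃ a', P pp c * ((t ≫ i) * P pp a) = (t ≫ i) * P pp a' := by
  have := D.hom_pp
  refine ⟨(((GmPts.unitOfPt (t ≫ α))⁻¹ : (Γ(X.left, ⊤))ˣ) : Γ(X.left, ⊤)) * c + a, ?_⟩
  rw [RankOne.P_add, ← RankOne.conjInv_P D]
  simp [_root_.mul_assoc]

omit [Field K] in
theorem br_P {X : Over S} {g : X ⟶ G} (hg : Br pp pm i g) (c : Γ(X.left, ⊤)) : Br pp pm i (P pp c * g) := by
  have := D.hom_pp
  rcases hg with ⟨t, a, rfl⟩ | ⟨a, t, b, rfl⟩
  · obtain ⟨a', h⟩ := P_mul_B D c t a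
    exact Or.inl ⟨t, a', h⟩
  · refine Or.inr ⟨c + a, t, b, ?_⟩
    rw [RankOne.P_add]
    simp [_root_.mul_assoc]

omit [Field K] in
theorem W_mul_T {X : Over S} (t : X ⟶ T) :
    ∃ s : X ⟶ T, W pp pm * (t ≫ i) = (s ≫ i) * W pp pm := by
  have := D.hom_i; have := D.hom_av
  refine ⟨(GmPts.ptOfUnit (GmPts.unitOfPt (t ≫ α)) ≫ av)⁻¹ * t, ?_⟩
  rw [← mul_inv_eq_iff_eq_mul, W_conj_T D, MonObj.mul_comp, GrpObj.inv_comp, Category.assoc]
  rfl

omit [Field K] in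
theorem br_W_B {X : Over S} (t : X ⟶ T) (a : Γ(X.left, ⊤)) : Br pp pm i (W pp pm * ((t ≫ i) * P pp a)) := by
  have := D.hom_pp
  obtain ⟨s, hs⟩ := W_mul_T D t
  exact Or.inr ⟨0, s, a, by rw [RankOne.P_zero, _root_.one_mul, ← _root_.mul_assoc, hs]⟩

omit [Field K] in
theorem W_mul_big {X : Over S} (a : Γ(X.left, ⊤)) (t : X ⟶ T) (b : Γ(X.left, ⊤)) :
    ∃ s : X ⟶ T, W pp pm * (P pp a * (t ≫ i) * W pp pm * P pp b) = P pm (-a) * ((s ≫ i) * P pp b) := by
  have := D.hom_i; have := D.hom_av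
  obtain ⟨s, hs⟩ := W_mul_T D t
  refine ⟨s * (GmPts.ptOfUnit (-1) ≫ av), ?_⟩
  rw [← W_conj_P D, MonObj.mul_comp, Category.assoc, ← RankOne.A, ← W_mul_W D]
  simp only [_root_.mul_assoc]
  rw [← _root_.mul_assoc (s ≫ i), ← hs]
  simp [_root_.mul_assoc]

theorem br_W {g : kPt x ⟶ G} (hg : Br pp pm i g) : Br pp pm i (W pp pm * g) := by
  have := D.hom_pm
  rcases hg with ⟨t, a, rfl⟩ | ⟨a, t, b, rfl⟩
  · exact br_W_B D t a
  · obtain ⟨s, hs⟩ := W_mul_big D a t b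
    rw [hs]
    by_cases h0 : (-a : Γ((kPt x).left, ⊤)) = 0
    · rw [h0, RankOne.P_zero, _root_.one_mul]
      exact Or.inl ⟨_, b, rfl⟩
    obtain ⟨u, hu⟩ := isUnit_of_ne h0
    obtain ⟨a', ha'⟩ := P_mul_B D (((u⁻¹ : _ˣ)) : Γ((kPt x).left, ⊤)) s b
    rw [← hu, M_unit D u]
    simp only [_root_.mul_assoc]
    rw [ha']
    exact br_P D (br_T D (br_W_B D s a') (GmPts.ptOfUnit (-u⁻¹) ≫ av)) _

theorem br_M {g : kPt x ⟶ G} (hg : Br pp pm i g) (b : Γ((kPt x).left, ⊤)) : Br pp pm i (P pm b * g) := by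
  have := D.hom_pm
  by_cases h0 : b = 0
  · rw [h0, RankOne.P_zero, _root_.one_mul]; exact hg
  obtain ⟨u, rfl⟩ := isUnit_of_ne h0
  rw [M_unit D u]
  simp only [_root_.mul_assoc]
  exact br_P D (br_T D (br_W D (br_P D hg _)) (GmPts.ptOfUnit (-u⁻¹) ≫ av)) _

/-- Bruhat decomposition -/
theorem bruhat [IsAlgClosed K] (hΩ : IsOpenImmersion (cellMap i pp pm).left) (hG : Rig G) (g : kPt x ⟶ G) :
    Br pp pm i g := by
  have := D.hom_i; have := D.hom_pp; have := D.hom_pm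
  obtain ⟨a, b, a', b', t, t', rfl⟩ := exists_pt_cells hΩ hG g
  simp only [cell, mul_inv_rev, ← RankOne.P_neg, ← GrpObj.inv_comp, _root_.mul_assoc]
  refine br_M D (br_T D (br_P D (br_P D (br_T D ?_ _) _) _) _) _
  have h1 : Br pp pm i (1 : kPt x ⟶ G) :=
    Or.inl ⟨1, 0, by rw [MonObj.one_comp, RankOne.P_zero, _root_.one_mul]⟩
  simpa using br_M D h1 (-a')

end Groth.Agent.RankOne16
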