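import Groth.Agent.Lib.RankOne16.Scale
import Groth.Agent.Lib.MTRigid29.MapChS

/-!
# A character non-trivial on every fibre is surjective on points after a faithfully flat cover
-/

universe u

open CategoryTheory CategoryTheory.Limits MonoidalCategory CartesianMonoidalCategory MonObj AlgebraicGeometry

set_option linter.style.haveILetI false
set_option backward.isDefEq.respectTransparency false
set_option backward.isDefEq.respectTransparency.types false
set_option maxSynthPendingDepth 3

noncomputable section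

namespace Groth.Agent.RankOne16

open DiagGL MTRigid29

variable {S : Scheme.{u}} {T : Over S} [GrpObj T]

/-- After a flat surjective base change a non-trivial character is flat and surjective. -/
theorem exists_mapP_char (hT : Red.IsTorus T) (α : T ⟶ Red.Gm S) [IsMonHom α]
    (hα : ∀ s : S, (Over.pullback (Red.geomPt s)).map α ≠ 1) :
    ∃ (S' : Scheme.{u}) (f : S' ⟶ S), Flat f ∧ Surjective f ∧ MapP (@Flat ⊓ @Surjective) α f := by
  classical
  have hT' := hT
  obtain ⟨S', f, hf, hs, -, hloc⟩ := hT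
  refine ⟨S', f, hf, hs, mapP_of_cover _ _ _ fun s' => ?_⟩
  obtain ⟨U, hU, r, ⟨e⟩⟩ := hloc s'
  obtain ⟨V, hV, hzV, -⟩ := exists_isAffineOpen_mem_and_subset (X := U.toScheme) (x := ⟨s', hU⟩) (U := ⊤) trivial
  let R : Type u := Γ(U.toScheme, V)
  let j : Spec (CommRingCat.of R) ⟶ U.toScheme := hV.fromSpec
  obtain ⟨z, hz⟩ : ∃ z, j z = ⟨s', hU⟩ := by
    have : (⟨s', hU⟩ : U.toScheme) ∈ Set.range hV.fromSpec := by rw [hV.range_fromSpec]; exact hzV
    exact this
  let k : Spec (CommRingCat.of R) ⟶ S := j ≫ U.ι ≫ f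
  let C₁ : Chars (Fin r → ℤ) (Red.bc k T) :=
    charsComp (U.ι ≫ f) j T (((charsDS _ (Fin r → ℤ)).transport e).baseChange j _)
  let C₂ : Chars ℤ (Red.bc k (Red.Gm S)) := (charsDS S ℤ).baseChange k _
  let u : Red.bc k T ⟶ Red.bc k (Red.Gm S) := (Over.pullback k).map α
  haveI : IsMonHom u := inferInstanceAs (IsMonHom ((Over.pullback k).map α))
  obtain ⟨g, hg, φ, hφ⟩ := exists_local_mapChar C₁ C₂ u z
  let D : (Spec (CommRingCat.of R)).Opens := PrimeSpectrum.basicOpen g
  refine ⟨D.toScheme, D.ι ≫ j ≫ U.ι, inferInstance, ⟨⟨z, hg⟩, by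
    rw [Scheme.Hom.comp_apply, Scheme.Hom.comp_apply]; show U.ι (j z) = s'; rw [hz]; rfl⟩, ?_⟩
  have hk : (D.ι ≫ j ≫ U.ι) ≫ f = D.ι ≫ k := by simp [k]
  rw [hk]
  refine (mapP_bc_iff _ α k D.ι).1 ?_
  have hu : (Over.pullback D.ι).map u = mapChS (C₁.baseChange D.ι _) (C₂.baseChange D.ι _) φ := by
    have h2 : (Over.pullback D.ι).map u = (Over.pullback D.ι).map (mapChar C₁ C₂ φ) := by
      have hpt : ∀ {X : Over D.toScheme} (x : X ⟶ Red.bc D.ι (Red.bc k T)),
          x ≫ (Over.pullback D.ι).map u = x ≫ (Over.pullback D.ι).map (mapChar C₁ C₂ φ) := by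
        intro X x
        refine fl_injective D.ι (Red.bc k (Red.Gm S)) ?_
        rw [fl_comp_map, fl_comp_map]
        refine hφ _ ?_ _
        show IsUnit ((X.hom ≫ D.ι).appTop.hom ((Scheme.ΓSpecIso (CommRingCat.of R)).inv g))
        refine RingedSpace.isUnit_of_isUnit_germ X.left.toLocallyRingedSpace.toRingedSpace _ _ fun w hw => ?_
        refine (Scheme.mem_basicOpen_top (f := (X.hom ≫ D.ι).appTop.hom ((Scheme.ΓSpecIso (CommRingCat.of R)).inv g))
          (x := w)).1 ?_
        rw [← Scheme.preimage_basicOpen_top, basicOpen_eq_of_affine]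
        exact (X.hom w).2
      simpa using hpt (𝟙 _)
    rw [h2, ← mapChS_eq_mapChar, pullback_map_mapChS]
  have hinj : Function.Injective φ := by
    by_contra hne
    have hφ0 : φ = 0 := by
      obtain ⟨a, b, hab, hne'⟩ := Function.not_injective_iff.1 hne
      have h1 : (a - b) • φ 1 = 0 := by
        rw [← map_zsmul, zsmul_one, Int.cast_id, map_sub, hab, sub_self]
      have h2 : φ 1 = 0 := funext fun l => by
        have := congrFun h1 l
        simpa [sub_ne_zero.2 hne'] using this
      exact AddMonoidHom.ext_int (by rw [h2]; rfl)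
    have htriv : ∀ {X : Over S} (t : X ⟶ T) (d : X.left ⟶ D.toScheme), d ≫ D.ι ≫ k = X.hom → t ≫ α = 1 := by
      intro X t d hd
      let Xk : Over D.toScheme := Over.mk d
      let m : (Over.map k).obj ((Over.map D.ι).obj Xk) ≅ X := Over.isoMk (Iso.refl _) (by simp [Xk, hd])
      obtain ⟨x₁, hx₁⟩ := fl_surjective k T (m.hom ≫ t)
      obtain ⟨x₂, hx₂⟩ := fl_surjective D.ι (Red.bc k T) x₁
      have h2 := congrArg (fun w => x₂ ≫ w) hu
      simp only [hφ0, mapChS_zero, MonObj.comp_one] at h2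
      have h3 := congrArg (fl D.ι (Red.bc k (Red.Gm S))) h2
      rw [fl_comp_map, hx₂] at h3
      have h4 := congrArg (fl k (Red.Gm S)) h3
      rw [fl_comp_map, hx₁] at h4
      have e1 : ∀ {S₁ S₂ : Scheme.{u}} (ψ : S₂ ⟶ S₁) (G : Over S₁) [GrpObj G] (A : Over S₂),
          fl ψ G (1 : A ⟶ Red.bc ψ G) = 1 := fun ψ G _ A => by
        have := fl_mul ψ G (1 : A ⟶ Red.bc ψ G) 1
        rw [_root_.one_mul] at this
        exact left_eq_mul.1 this
      rw [e1, e1, Category.assoc, ← MonObj.comp_one m.hom] at h4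
      exact (cancel_epi m.hom).1 h4
    let z₀ : D.toScheme := ⟨z, hg⟩
    obtain ⟨x, hx, t, ht⟩ := exists_pt_pow_ne_one hT' α ((D.ι ≫ k) z₀) (hα _) 1 one_ne_zero
    obtain ⟨q, -, -⟩ := Scheme.Pullback.exists_preimage_pullback (f := x) (g := D.ι ≫ k)
      (IsLocalRing.closedPoint _) z₀ (hx _)
    let X : Over S := Over.mk (pullback.fst x (D.ι ≫ k) ≫ x)
    let p : X ⟶ kPt x := Over.homMk (pullback.fst x (D.ι ≫ k))
    have h1 := htriv (p ≫ t) (pullback.snd x (D.ι ≫ k)) pullback.condition.symm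
    refine ht ?_
    rw [pow_one]
    have h2 := congrArg GmPts.unitOfPt h1
    rw [GmPts.unitOfPt_one, Category.assoc, GmPts.unitOfPt_comp] at h2
    haveI : Nonempty (⊤ : X.left.Opens) := ⟨⟨q, trivial⟩⟩
    haveI : Nontrivial Γ(X.left, ⊤) := Scheme.component_nontrivial X.left ⊤
    let ρ : Γ((kPt x).left, ⊤) →+* Γ(X.left, ⊤) := p.left.appTop.hom
    let eK : Γ((kPt x).left, ⊤) ≃+* AlgebraicClosure (S.residueField ((D.ι ≫ k) z₀)) :=
      (Scheme.ΓSpecIso (CommRingCat.of (AlgebraicClosure (S.residueField ((D.ι ≫ k) z₀))))).commRingCatIsoToRingEquiv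
    have hρ : Function.Injective (ρ.comp eK.symm.toRingHom) := RingHom.injective _
    refine Units.ext (eK.injective (hρ ?_))
    show ρ (eK.symm (eK _)) = ρ (eK.symm (eK _))
    rw [eK.symm_apply_apply, eK.symm_apply_apply, Units.val_one, map_one]
    exact congrArg Units.val h2
  show (@Flat ⊓ @Surjective : MorphismProperty Scheme.{u}) ((Over.pullback D.ι).map u).left
  rw [hu]
  exact flat_surjective_mapChS _ _ hinj

/-- Every unit is a value of the character after a cover. -/
theorem exists_cover_char (hT : Red.IsTorus T) (α : T ⟶ Red.Gm S) [IsMonHom α]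
    (hα : ∀ s : S, (Over.pullback (Red.geomPt s)).map α ≠ 1) {X : Over S} (z : (Γ(X.left, ⊤))ˣ) :
    ∃ (X' : Over S) (e : X' ⟶ X) (t : X' ⟶ T), Epi e ∧ Surjective e.left ∧
      GmPts.unitOfPt (t ≫ α) = Units.map e.left.appTop.hom.toMonoidHom z := by
  obtain ⟨S', f, hf, hs, hP⟩ := exists_mapP_char hT α hα
  haveI := hf
  haveI := hs
  let q := ((Over.pullback f).map α).left
  haveI : Flat q := hP.1
  haveI : Surjective q := hP.2
  let z' : pullback X.hom f ⟶ pullback (Red.Gm S).hom f :=
    pullback.lift (pullback.fst _ _ ≫ (GmPts.ptOfUnit z).left) (pullback.snd _ _)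
      (by rw [Category.assoc, Over.w]; exact pullback.condition)
  haveI : Flat (pullback.fst z' q) := MorphismProperty.pullback_fst _ _ inferInstance
  haveI : Surjective (pullback.fst z' q) := MorphismProperty.pullback_fst _ _ inferInstance
  haveI : Flat (pullback.fst X.hom f) := MorphismProperty.pullback_fst _ _ inferInstance
  haveI : Surjective (pullback.fst X.hom f) := MorphismProperty.pullback_fst _ _ inferInstance
  let c := pullback.fst z' q ≫ pullback.fst X.hom f
  haveI : Flat c := inferInstance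
  haveI : Surjective c := inferInstance
  haveI : Epi c := Flat.epi_of_flat_of_surjective _
  let X' : Over S := Over.mk (c ≫ X.hom)
  let e : X' ⟶ X := Over.homMk c
  haveI : Epi e.left := ‹Epi c›
  have hsq : (pullback.snd z' q ≫ pullback.fst T.hom f) ≫ α.left = c ≫ (GmPts.ptOfUnit z).left := by
    have h1 : q ≫ pullback.fst (Red.Gm S).hom f = pullback.fst T.hom f ≫ α.left := pullback.lift_fst _ _ _
    rw [Category.assoc, ← h1, ← Category.assoc, ← pullback.condition, Category.assoc, pullback.lift_fst, Category.assoc]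
  let t : X' ⟶ T := Over.homMk (pullback.snd z' q ≫ pullback.fst T.hom f) (by
    show (pullback.snd z' q ≫ pullback.fst T.hom f) ≫ T.hom = c ≫ X.hom
    refine ((congrArg (fun g => (pullback.snd z' q ≫ pullback.fst T.hom f) ≫ g) (Over.w α)).symm.trans
      ((Category.assoc _ α.left (Red.Gm S).hom).symm.trans ?_))
    rw [hsq, Category.assoc, Over.w])
  refine ⟨X', e, t, Over.epi_of_epi_left _, ‹Surjective c›, ?_⟩
  have h2 : t ≫ α = e ≫ GmPts.ptOfUnit z := Over.OverMorphism.ext hsq
  rw [h2, GmPts.ptOfUnit_comp, GmPts.unitOfPt_ptOfUnit]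

end Groth.Agent.RankOne16
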