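import Groth.Agent.Lib.RankOne16.CharSurj
import Groth.Agent.Lib.RankOne16.UnitVal

/-!
# The products `p₊(x) p₋(y)` lying in the big cell
-/

universe u

open CategoryTheory CategoryTheory.Limits MonoidalCategory CartesianMonoidalCategory MonObj AlgebraicGeometry

set_option linter.style.haveILetI false
set_option backward.isDefEq.respectTransparency false
set_option backward.isDefEq.respectTransparency.types false

noncomputable section

namespace Groth.Agent.RankOne16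

open RankOne (P)

variable {S : Scheme.{u}} {G T : Over S} [GrpObj G] [GrpObj T]

/-- A torus with two root groups and an open cell. -/
structure Cellular (i : T ⟶ G) (α : T ⟶ Red.Gm S) (pp pm : Red.Ga S ⟶ G) : Prop where
  hom_i : IsMonHom i
  hom_α : IsMonHom α
  hom_pp : IsMonHom pp
  hom_pm : IsMonHom pm
  torus : Red.IsTorus T
  hα : ∀ s : S, (Over.pullback (Red.geomPt s)).map α ≠ 1
  hpp : ∀ (X : Over S) (t : X ⟶ T) (x : X ⟶ Red.Ga S), ∃ x' : X ⟶ Red.Ga S,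
      x' ≫ pp = (t ≫ i) * (x ≫ pp) * (t ≫ i)⁻¹ ∧ Red.gaFn x' = Red.gmFn (t ≫ α) * Red.gaFn x
  hpm : ∀ (X : Over S) (t : X ⟶ T) (y : X ⟶ Red.Ga S), ∃ y' : X ⟶ Red.Ga S,
      y' ≫ pm = (t ≫ i) * (y ≫ pm) * (t ≫ i)⁻¹ ∧ Red.gaFn y' * Red.gmFn (t ≫ α) = Red.gaFn y
  hΩ : IsOpenImmersion (cellMap i pp pm).left

/-- `p₊(x) p₋(y)` has coordinates `(b, t, a)`. -/
def Co (i : T ⟶ G) (pp pm : Red.Ga S ⟶ G) {X : Over S} (x y b : Γ(X.left, ⊤)) (t : X ⟶ T) (a : Γ(X.left, ⊤)) : Prop :=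
  P pp x * P pm y = cell i pp pm b t a

/-- `p₊(x) p₋(y)` lies in the cell. -/
def InV (i : T ⟶ G) (pp pm : Red.Ga S ⟶ G) {X : Over S} (x y : Γ(X.left, ⊤)) : Prop :=
  InCell (i := i) (pp := pp) (pm := pm) (P pp x * P pm y)

variable {i : T ⟶ G} {α : T ⟶ Red.Gm S} {pp pm : Red.Ga S ⟶ G} (K : Cellular i α pp pm) {X X' : Over S}
include K

theorem Cellular.co_comp (g : X' ⟶ X) {x y b a : Γ(X.left, ⊤)} {t : X ⟶ T} (h : Co i pp pm x y b t a) :
    Co i pp pm (g.left.appTop x) (g.left.appTop y) (g.left.appTop b) (g ≫ t) (g.left.appTop a) := by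
  unfold Co at h ⊢
  rw [← RankOne.comp_P, ← RankOne.comp_P, ← MonObj.comp_mul, h, comp_cell]

theorem Cellular.co_unique {x y b a b' a' : Γ(X.left, ⊤)} {t t' : X ⟶ T} (h : Co i pp pm x y b t a)
    (h' : Co i pp pm x y b' t' a') : b = b' ∧ t = t' ∧ a = a' :=
  cell_inj K.hΩ (h.symm.trans h')

theorem Cellular.exists_co {x y : Γ(X.left, ⊤)} (h : InV i pp pm x y) : ∃ b t a, Co i pp pm x y b t a :=
  exists_cell K.hΩ _ h

theorem Cellular.inV_of_co {x y b a : Γ(X.left, ⊤)} {t : X ⟶ T} (h : Co i pp pm x y b t a) : InV i pp pm x y := by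
  unfold InV
  rw [show P pp x * P pm y = cell i pp pm b t a from h]
  exact inCell_cell _ _ _

theorem Cellular.inV_comp (g : X' ⟶ X) {x y : Γ(X.left, ⊤)} (h : InV i pp pm x y) :
    InV i pp pm (g.left.appTop x) (g.left.appTop y) := by
  obtain ⟨b, t, a, hc⟩ := K.exists_co h
  exact K.inV_of_co (K.co_comp g hc)

theorem Cellular.inV_of_surjective (g : X' ⟶ X) [Surjective g.left] {x y : Γ(X.left, ⊤)}
    (h : InV i pp pm (g.left.appTop x) (g.left.appTop y)) : InV i pp pm x y := by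
  intro p
  obtain ⟨q, rfl⟩ := g.left.surjective p
  have h1 := h q
  rw [← RankOne.comp_P, ← RankOne.comp_P, ← MonObj.comp_mul] at h1
  exact h1

theorem Cellular.inV_of_geom {x y : Γ(X.left, ⊤)}
    (h : ∀ p : X.left, InV i pp pm ((geomHom p).left.appTop x) ((geomHom p).left.appTop y)) : InV i pp pm x y :=
  inCell_of_geom _ fun p => by
    rw [MonObj.comp_mul, RankOne.comp_P, RankOne.comp_P]; exact h p

theorem Cellular.co_zero_right (x : Γ(X.left, ⊤)) : Co i pp pm x 0 0 1 x := by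
  have := K.hom_pp; have := K.hom_pm; have := K.hom_i
  rw [Co, cell, RankOne.P_zero, MonObj.one_comp, _root_.one_mul, _root_.one_mul, _root_.mul_one]

theorem Cellular.co_zero_left (y : Γ(X.left, ⊤)) : Co i pp pm 0 y y 1 0 := by
  have := K.hom_pp; have := K.hom_pm; have := K.hom_i
  rw [Co, cell, RankOne.P_zero, MonObj.one_comp, _root_.one_mul, _root_.mul_one, _root_.mul_one]

theorem Cellular.conjP (t : X ⟶ T) (a : Γ(X.left, ⊤)) :
    (t ≫ i) * P pp a * (t ≫ i)⁻¹ = P pp ((GmPts.unitOfPt (t ≫ α) : Γ(X.left, ⊤)) * a) :=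
  have := K.hom_i; have := K.hom_α; have := K.hom_pp; have := K.hom_pm; RankOne16.conjP K.hpp t a

theorem Cellular.conjM (t : X ⟶ T) (a : Γ(X.left, ⊤)) :
    (t ≫ i) * P pm a * (t ≫ i)⁻¹ =
      P pm ((((GmPts.unitOfPt (t ≫ α))⁻¹ : (Γ(X.left, ⊤))ˣ) : Γ(X.left, ⊤)) * a) :=
  have := K.hom_i; have := K.hom_α; have := K.hom_pp; have := K.hom_pm; RankOne16.conjM K.hpm t a

/-- scaling by a character value -/
theorem Cellular.co_conj (s : X ⟶ T) {x y b a : Γ(X.left, ⊤)} {t : X ⟶ T} (h : Co i pp pm x y b t a) :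
    Co i pp pm ((GmPts.unitOfPt (s ≫ α) : Γ(X.left, ⊤)) * x)
      ((((GmPts.unitOfPt (s ≫ α))⁻¹ : (Γ(X.left, ⊤))ˣ) : Γ(X.left, ⊤)) * y)
      ((((GmPts.unitOfPt (s ≫ α))⁻¹ : (Γ(X.left, ⊤))ˣ) : Γ(X.left, ⊤)) * b) t
      ((GmPts.unitOfPt (s ≫ α) : Γ(X.left, ⊤)) * a) := by
  have := K.hom_i; have := K.hom_α; have := K.hom_pp; have := K.hom_pm
  unfold Co at h ⊢
  rw [← conj_cell K.torus K.hpp K.hpm, ← h, ← K.conjP, ← K.conjM]
  simp [_root_.mul_assoc]

/-- scaling by any unit -/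
theorem Cellular.co_scale (z : (Γ(X.left, ⊤))ˣ) {x y b a : Γ(X.left, ⊤)} {t : X ⟶ T} (h : Co i pp pm x y b t a) :
    Co i pp pm ((z : Γ(X.left, ⊤)) * x) ((((z⁻¹ : (Γ(X.left, ⊤))ˣ)) : Γ(X.left, ⊤)) * y)
      ((((z⁻¹ : (Γ(X.left, ⊤))ˣ)) : Γ(X.left, ⊤)) * b) t ((z : Γ(X.left, ⊤)) * a) := by
  have := K.hom_α
  obtain ⟨X', e, s, he, -, hs⟩ := exists_cover_char K.torus α K.hα z
  haveI := he
  unfold Co
  rw [← cancel_epi e, MonObj.comp_mul, RankOne.comp_P, RankOne.comp_P, comp_cell]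
  have h1 := K.co_conj s (K.co_comp e h)
  rw [hs, ← map_inv] at h1
  simp only [map_mul]
  exact h1

theorem Cellular.inV_scale (z : (Γ(X.left, ⊤))ˣ) {x y : Γ(X.left, ⊤)} (h : InV i pp pm x y) :
    InV i pp pm ((z : Γ(X.left, ⊤)) * x) ((((z⁻¹ : (Γ(X.left, ⊤))ˣ)) : Γ(X.left, ⊤)) * y) := by
  obtain ⟨b, t, a, hc⟩ := K.exists_co h
  exact K.inV_of_co (K.co_scale z hc)

/-- composition on the left -/
theorem Cellular.co_add_left {x x' y b a b' a' : Γ(X.left, ⊤)} {t t' : X ⟶ T} (h : Co i pp pm x' y b t a)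
    (h' : Co i pp pm x b b' t' a') :
    Co i pp pm (x + x') y b' (t' * t)
      ((((GmPts.unitOfPt (t ≫ α))⁻¹ : (Γ(X.left, ⊤))ˣ) : Γ(X.left, ⊤)) * a' + a) := by
  have := K.hom_pp; have := K.hom_i
  unfold Co cell at *
  calc P pp (x + x') * P pm y = P pp x * P pm b * (t ≫ i) * P pp a := by
        rw [RankOne.P_add, _root_.mul_assoc, h]; simp only [_root_.mul_assoc]
    _ = P pm b' * (t' ≫ i) * ((P pp a' * (t ≫ i)) * P pp a) := by rw [h']; simp only [_root_.mul_assoc]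
    _ = _ := by
        rw [show P pp a' * (t ≫ i) = (t ≫ i) *
          P pp ((((GmPts.unitOfPt (t ≫ α))⁻¹ : (Γ(X.left, ⊤))ˣ) : Γ(X.left, ⊤)) * a') by
            rw [mul_inv_eq_iff_eq_mul.1 (K.conjP t _), Units.mul_inv_cancel_left],
          RankOne.P_add, MonObj.mul_comp]
        simp only [_root_.mul_assoc]

theorem Cellular.inV_add_left_iff {x x' y b a : Γ(X.left, ⊤)} {t : X ⟶ T} (h : Co i pp pm x' y b t a) :
    InV i pp pm (x + x') y ↔ InV i pp pm x b := by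
  have := K.hom_pp; have := K.hom_i
  constructor
  · intro h1
    obtain ⟨b₁, t₁, a₁, h₁⟩ := K.exists_co h1
    unfold Co at h h₁
    have e : P pp x * P pm b = cell i pp pm b₁ t₁ a₁ * (P pp a)⁻¹ * (t ≫ i)⁻¹ := by
      rw [← h₁, RankOne.P_add, _root_.mul_assoc (P pp x), h, cell]
      simp [_root_.mul_assoc]
    unfold InV
    rw [e, cell, ← RankOne.P_neg, ← GrpObj.inv_comp,
      show P pm b₁ * (t₁ ≫ i) * P pp a₁ * P pp (-a) * (t⁻¹ ≫ i) =
        P pm b₁ * (t₁ ≫ i) * ((t⁻¹ ≫ i) * P pp ((GmPts.unitOfPt (t ≫ α) : Γ(X.left, ⊤)) * (a₁ + -a))) by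
        rw [← K.conjP, GrpObj.inv_comp, RankOne.P_add]; simp [_root_.mul_assoc],
      ← _root_.mul_assoc, _root_.mul_assoc (P pm b₁), ← MonObj.mul_comp]
    exact inCell_cell _ _ _
  · intro h1
    obtain ⟨b', t', a', h'⟩ := K.exists_co h1
    exact K.inV_of_co (K.co_add_left h h')

/-- composition on the right -/
theorem Cellular.co_add_right {x y y' b a b' a' : Γ(X.left, ⊤)} {t t' : X ⟶ T} (h : Co i pp pm x y b t a)
    (h' : Co i pp pm a y' b' t' a') :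
    Co i pp pm x (y + y') (b + (((GmPts.unitOfPt (t ≫ α))⁻¹ : (Γ(X.left, ⊤))ˣ) : Γ(X.left, ⊤)) * b') (t * t') a' := by
  have := K.hom_pm; have := K.hom_i
  unfold Co cell at *
  calc P pp x * P pm (y + y') = P pm b * (t ≫ i) * (P pp a * P pm y') := by
        rw [RankOne.P_add, ← _root_.mul_assoc, h]; simp only [_root_.mul_assoc]
    _ = P pm b * ((t ≫ i) * P pm b') * ((t' ≫ i) * P pp a') := by rw [h']; simp only [_root_.mul_assoc]
    _ = _ := by
        rw [mul_inv_eq_iff_eq_mul.1 (K.conjM t b'), RankOne.P_add, MonObj.mul_comp]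
        simp only [_root_.mul_assoc]

/-- the inverse product -/
theorem Cellular.co_neg {x y b a : Γ(X.left, ⊤)} {t : X ⟶ T} (h : Co i pp pm x y b t a) :
    Co i pp pm (-x) b y t⁻¹ (-((GmPts.unitOfPt (t ≫ α) : Γ(X.left, ⊤)) * a)) := by
  have h0 : InV i pp pm (-x) b := (K.inV_add_left_iff h).1 (by
    rw [neg_add_cancel]; exact K.inV_of_co (K.co_zero_left y))
  obtain ⟨b', t', a', h'⟩ := K.exists_co h0
  have h1 := K.co_add_left h h'
  rw [neg_add_cancel] at h1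
  obtain ⟨e1, e2, e3⟩ := K.co_unique h1 (K.co_zero_left y)
  rw [e1, eq_inv_of_mul_eq_one_left e2] at h'
  rwa [show a' = -((GmPts.unitOfPt (t ≫ α) : Γ(X.left, ⊤)) * a) by
    linear_combination (GmPts.unitOfPt (t ≫ α) : Γ(X.left, ⊤)) * e3 - a' * Units.mul_inv (GmPts.unitOfPt (t ≫ α))] at h'

theorem Cellular.isUnit_left {x y b a : Γ(X.left, ⊤)} {t : X ⟶ T} (h : Co i pp pm x y b t a) (hy : IsUnit y) :
    IsUnit b := by
  refine isUnit_of_geom b fun p hb => ?_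
  have h1 := K.co_neg (K.co_comp (geomHom p) h)
  rw [hb] at h1
  obtain ⟨e1, -, -⟩ := K.co_unique h1 (K.co_zero_right _)
  have hu := hy.map (geomHom p).left.appTop.hom
  rw [e1] at hu
  haveI : Nonempty (⊤ : (kPt (Red.geomPt p ≫ X.hom)).left.Opens) :=
    ⟨⟨(IsLocalRing.closedPoint (AlgebraicClosure (X.left.residueField p)) :
      Spec (CommRingCat.of (AlgebraicClosure (X.left.residueField p)))), trivial⟩⟩
  haveI : Nontrivial Γ((kPt (Red.geomPt p ≫ X.hom)).left, ⊤) := Scheme.component_nontrivial _ ⊤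
  exact not_isUnit_zero hu

end Groth.Agent.RankOne16
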