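import Groth.Agent.Lib.RankOne16.CommSlope
import Groth.Agent.Lib.TorPts21.Torus
import Groth.Agent.Lib.TorusHom19.Basic

/-!
# The commutation rule over an algebraically closed field
-/

universe u

open CategoryTheory CategoryTheory.Limits MonoidalCategory CartesianMonoidalCategory MonObj AlgebraicGeometry

set_option linter.style.haveILetI false
set_option backward.isDefEq.respectTransparency false
set_option backward.isDefEq.respectTransparency.types false

noncomputable section

namespace Groth.Agent.RankOne16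

open RankOne (P)
open TrivSqZeroExt DualNumber DiagGL

variable {S : Scheme.{u}} {G T : Over S} [GrpObj G] [GrpObj T]
variable {i : T ⟶ G} {α : T ⟶ Red.Gm S} {pp pm : Red.Ga S ⟶ G} (K : Cellular i α pp pm)
variable {k : Type u} [Field k] [IsAlgClosed k] (x : Spec (CommRingCat.of k) ⟶ S)

/-- the line over a field-valued point -/
abbrev linePhi : Spec (CommRingCat.of (Polynomial k)) ⟶ S :=
  Spec.map (CommRingCat.ofHom (Polynomial.C : k →+* Polynomial k)) ≫ x

omit [IsAlgClosed k] in
theorem linePhi_eval (r : k) : Spec.map (CommRingCat.ofHom (Polynomial.evalRingHom r)) ≫ linePhi x = x := by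
  rw [← Category.assoc, ← Spec.map_comp, ← CommRingCat.ofHom_comp, show
    (Polynomial.evalRingHom r).comp Polynomial.C = RingHom.id k from RingHom.ext fun _ => Polynomial.eval_C,
    CommRingCat.ofHom_id, Spec.map_id, Category.id_comp]

/-- the open locus of the line where `p₊(u) p₋(1)` is in the cell -/
def cellLocus (i : T ⟶ G) (pp pm : Red.Ga S ⟶ G) (hΩ : IsOpenImmersion (cellMap i pp pm).left)
    (x : Spec (CommRingCat.of k) ⟶ S) : (sp (linePhi x)).left.Opens :=
  haveI := hΩ
  (P pp (fn (linePhi x) Polynomial.X) * P pm 1).left ⁻¹ᵁ (cellMap i pp pm).left.opensRange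

include K

/-- Membership of the universal point. -/
theorem Cellular.wf_line_iff {R : Type u} [CommRing R] (f : Polynomial k →+* R)
    (φ : Spec (CommRingCat.of R) ⟶ S) (hf : Spec.map (CommRingCat.ofHom f) ≫ linePhi x = φ) :
    Wf i pp pm φ (f Polynomial.X) ↔ ∀ z, Spec.map (CommRingCat.ofHom f) z ∈ cellLocus i pp pm K.hΩ x := by
  have e : sm f hf ≫ (P pp (fn (linePhi x) Polynomial.X) * P pm 1) = P pp (fn φ (f Polynomial.X)) * P pm 1 := by
    rw [MonObj.comp_mul, RankOne.comp_P, RankOne.comp_P, sm_fn, map_one]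
  rw [Wf, InV, ← e]
  exact Iff.rfl

theorem Cellular.wf_pt_iff (r : k) : Wf i pp pm x r ↔
    Spec.map (CommRingCat.ofHom (Polynomial.evalRingHom r)) (IsLocalRing.closedPoint k) ∈ cellLocus i pp pm K.hΩ x := by
  have h := K.wf_line_iff x (Polynomial.evalRingHom r) x (linePhi_eval x r)
  rw [Polynomial.coe_evalRingHom, Polynomial.eval_X] at h
  rw [h]
  exact ⟨fun h => h _, fun h z => by rw [Subsingleton.elim (α := PrimeSpectrum k) z (IsLocalRing.closedPoint k)]; exact h⟩

theorem Cellular.exists_poly : ∃ h : Polynomial k, h ≠ 0 ∧ (∀ r, ¬ Wf i pp pm x r → h.eval r = 0) ∧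
    ∀ p : PrimeSpectrum (Polynomial k), h ∉ p.asIdeal → p ∈ cellLocus i pp pm K.hΩ x := by
  have h0 := (K.wf_pt_iff x 0).1 (K.wf_of_coR (K.coR_zero x))
  obtain ⟨_, ⟨h, rfl⟩, hz, hle⟩ := PrimeSpectrum.isTopologicalBasis_basic_opens.exists_subset_of_mem_open h0
    (cellLocus i pp pm K.hΩ x).isOpen
  refine ⟨h, ?_, fun r hr => ?_, fun p hp => hle hp⟩
  · rintro rfl
    exact hz (Ideal.zero_mem _)
  · by_contra hne
    refine hr ((K.wf_pt_iff x r).2 (hle (show h ∉ Ideal.comap (Polynomial.evalRingHom r) (IsLocalRing.maximalIdeal k) by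
      rw [Ideal.mem_comap, IsLocalRing.mem_maximalIdeal, mem_nonunits_iff, isUnit_iff_ne_zero, not_not]
      exact hne)))

theorem Cellular.finite_bad : Set.Finite {r : k | ¬ Wf i pp pm x r} := by
  obtain ⟨h, hh, hroot, -⟩ := K.exists_poly x
  classical
  exact Set.Finite.subset h.roots.toFinset.finite_toSet fun r hr => by
    rw [Finset.mem_coe, Multiset.mem_toFinset, Polynomial.mem_roots hh]
    exact hroot r hr

/-- The line points outside the bad values lie in the cell. -/
theorem Cellular.mem_cellLocus (p : PrimeSpectrum (Polynomial k))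
    (hp : ∀ r, ¬ Wf i pp pm x r → Polynomial.X - Polynomial.C r ∉ p.asIdeal) : p ∈ cellLocus i pp pm K.hΩ x := by
  obtain ⟨h, hh, -, hle⟩ := K.exists_poly x
  by_cases hmem : h ∈ p.asIdeal
  · haveI := p.2
    rw [(IsAlgClosed.splits h).eq_prod_roots] at hmem
    rcases p.2.mem_or_mem hmem with hmem | hmem
    · exact absurd (Ideal.eq_top_of_isUnit_mem _ hmem (Polynomial.isUnit_C.2 (isUnit_iff_ne_zero.2
        (Polynomial.leadingCoeff_ne_zero.2 hh)))) p.2.ne_top
    · rw [Ideal.IsPrime.multiset_prod_mem_iff_exists_mem p.2] at hmem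
      obtain ⟨m, hm, hmp⟩ := hmem
      obtain ⟨r, -, rfl⟩ := Multiset.mem_map.1 hm
      have hW : Wf i pp pm x r := not_not.1 fun hr => hp r hr hmp
      have hz := (K.wf_pt_iff x r).1 hW
      suffices hp' : p = PrimeSpectrum.comap (Polynomial.evalRingHom r) (IsLocalRing.closedPoint k) by
        rw [hp']; exact hz
      refine PrimeSpectrum.ext ?_
      haveI hmax : (Ideal.span {Polynomial.X - Polynomial.C r}).IsMaximal :=
        PrincipalIdealRing.isMaximal_of_irreducible (Polynomial.irreducible_X_sub_C r)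
      have e1 := hmax.eq_of_le p.2.ne_top ((Ideal.span_singleton_le_iff_mem _).2 hmp)
      show p.asIdeal = Ideal.comap (Polynomial.evalRingHom r) (IsLocalRing.maximalIdeal k)
      rw [← e1]
      refine hmax.eq_of_le (Ideal.comap_ne_top _ (IsLocalRing.maximalIdeal.isMaximal k).ne_top) ?_
      rw [Ideal.span_singleton_le_iff_mem, Ideal.mem_comap, IsLocalRing.mem_maximalIdeal, mem_nonunits_iff,
        isUnit_iff_ne_zero, not_not]
      simp
  · exact hle p hmem

theorem Cellular.bad_subsingleton : Set.Subsingleton {r : k | ¬ Wf i pp pm x r} := by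
  classical
  intro f hf g hg
  by_contra hne
  have hex : ∀ q ∈ {r : k | ¬ Wf i pp pm x r}ᶜ, ∃ b, CoR i pp pm x q b := fun q hq => K.exists_coR (not_not.1 hq)
  choose! β hβ using hex
  have hσ : ∀ q, q ∈ {r : k | ¬ Wf i pp pm x r}ᶜ → ∀ r, ¬ Wf i pp pm x r → ¬ Wf i pp pm x ((r - q) * β q) :=
    fun q hq r hr h => hr (by
      have := (K.wf_add_iff (hβ q hq) (p := r - q)).2 h
      rwa [sub_add_cancel] at this)
  have hfin : Set.Finite {r : k | ¬ Wf i pp pm x r}ᶜ := by
    refine Set.Finite.of_finite_image (f := fun q => ((f - q) * β q, (g - q) * β q))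
      ((((K.finite_bad x).prod (K.finite_bad x))).subset ?_) ?_
    · rintro _ ⟨q, hq, rfl⟩
      exact ⟨hσ q hq f hf, hσ q hq g hg⟩
    · intro q hq q' hq' h
      simp only [Prod.mk.injEq] at h
      have h1 : β q = β q' := mul_left_cancel₀ (sub_ne_zero.2 hne) (by linear_combination h.1 - h.2)
      have h2 : β q ≠ 0 := (K.isUnit_coR (hβ q hq)).ne_zero
      refine mul_right_cancel₀ h2 ?_
      rw [← h1] at h
      linear_combination -h.1
  exact Set.infinite_univ (α := k) (by
    rw [← Set.union_compl_self {r : k | ¬ Wf i pp pm x r}]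
    exact (K.finite_bad x).union hfin)

/-- One bad value `f` determines the slope. -/
theorem Cellular.slope_of_bad {c : ∀ X : Over S, Γ(X.left, ⊤)}
    (hc : ∀ (R : Type u) [CommRing R] (φ : Spec (CommRingCat.of R) ⟶ S) (y : DualNumber R),
      CoR i pp pm (dphi φ) ε y → y.snd = -(fn φ).symm (c (sp φ)))
    {f : k} (hf : ¬ Wf i pp pm x f) : (fn x).symm (c (sp x)) * f = -1 := by
  classical
  have hf0 : f ≠ 0 := fun h => hf (h ▸ K.wf_of_coR (K.coR_zero x))
  have hbad : ∀ r, ¬ Wf i pp pm x r → r = f := fun r hr => K.bad_subsingleton x hr hf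
  let g : Polynomial k := Polynomial.X - Polynomial.C f
  let L := Localization.Away g
  let al : Polynomial k →+* L := algebraMap _ _
  let φL := Spec.map (CommRingCat.ofHom al) ≫ linePhi x
  obtain ⟨bL, hbL⟩ := K.exists_coR ((K.wf_line_iff x al φL rfl).2 fun z => K.mem_cellLocus x _ fun r hr hmem => by
    rw [hbad r hr] at hmem
    exact z.2.ne_top (Ideal.eq_top_of_isUnit_mem _ hmem (IsLocalization.Away.algebraMap_isUnit (S := L) g)))
  obtain ⟨n, N, hN⟩ := IsLocalization.Away.surj g bL
  have hpt : ∀ r, r ≠ f → N.eval r * (f - r) = f * (r - f) ^ n := by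
    intro r hr
    have hgu : IsUnit (Polynomial.evalRingHom r g) := by simpa [g] using sub_ne_zero.2 hr
    let ev : L →+* k := IsLocalization.Away.lift g hgu
    have hev : ∀ p, ev (al p) = p.eval r := fun p => IsLocalization.Away.lift_eq g hgu p
    have h1 := K.coR_map ev (φ' := x) (by
      rw [← Category.assoc, ← Spec.map_comp, ← CommRingCat.ofHom_comp,
        show ev.comp al = Polynomial.evalRingHom r from RingHom.ext hev, linePhi_eval]) hbL
    rw [hev, Polynomial.eval_X] at h1
    have h2 : (f - r) * ev bL = f := hbad _ fun h => hf (by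
      have := (K.wf_add_iff h1 (p := f - r)).2 h
      rwa [sub_add_cancel] at this)
    have h3 := congrArg ev hN
    rw [map_mul, map_pow, hev, hev] at h3
    simp [g] at h3
    linear_combination (r - f) ^ n * h2 - (f - r) * h3
  have hid : N * (Polynomial.C f - Polynomial.X) = Polynomial.C f * g ^ n := by
    refine Polynomial.eq_of_infinite_eval_eq _ _ (Set.Infinite.mono (fun r hr => ?_) ((Set.finite_singleton f).infinite_compl))
    simpa [g] using hpt r hr
  have hgu2 : IsUnit (Polynomial.eval₂RingHom (TrivSqZeroExt.inlHom k k) ε g) := by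
    rw [TrivSqZeroExt.isUnit_iff_isUnit_fst]
    simp [g, hf0]
  let ev2 : L →+* DualNumber k := IsLocalization.Away.lift g hgu2
  have hev2 : ∀ p, ev2 (al p) = p.eval₂ (TrivSqZeroExt.inlHom k k) ε := fun p => IsLocalization.Away.lift_eq g hgu2 p
  have h1 := K.coR_map ev2 (φ' := dphi x) (by
    rw [← Category.assoc, ← Spec.map_comp, ← CommRingCat.ofHom_comp,
      show ev2.comp al = Polynomial.eval₂RingHom (TrivSqZeroExt.inlHom k k) ε from RingHom.ext hev2,
      ← Category.assoc, ← Spec.map_comp, ← CommRingCat.ofHom_comp, Polynomial.eval₂RingHom_comp_C]) hbL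
  rw [hev2, Polynomial.eval₂_X] at h1
  have hy := hc k x _ h1
  have hyfst : (ev2 bL).fst = 1 := K.fst_of_coR h1 (by rw [fst_eps]; exact K.coR_zero x)
  have h3 := congrArg ev2 hN
  rw [map_mul, map_pow, hev2, hev2] at h3
  have h4 := congrArg (Polynomial.eval₂RingHom (TrivSqZeroExt.inlHom k k) ε) hid
  simp only [map_mul, map_pow, Polynomial.coe_eval₂RingHom] at h4
  have hu : IsUnit (Polynomial.eval₂ (TrivSqZeroExt.inlHom k k) ε g ^ n) := hgu2.pow n
  have h5 : ev2 bL * Polynomial.eval₂ (TrivSqZeroExt.inlHom k k) ε (Polynomial.C f - Polynomial.X) =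
      Polynomial.eval₂ (TrivSqZeroExt.inlHom k k) ε (Polynomial.C f) := hu.mul_left_cancel (by
    linear_combination (Polynomial.eval₂ (TrivSqZeroExt.inlHom k k) ε (Polynomial.C f - Polynomial.X)) * h3 + h4)
  have h6 := congrArg TrivSqZeroExt.snd h5
  simp [DualNumber.snd_mul, hyfst, hy] at h6
  linear_combination -h6

omit [IsAlgClosed k] K in
theorem eq_C_of_isUnit_fn {z : Γ((sp (linePhi x)).left, ⊤)} (hz : IsUnit z) :
    ∃ κ : k, z = fn (linePhi x) (Polynomial.C κ) := by
  obtain ⟨κ, -, hκ⟩ := Polynomial.isUnit_iff.1 (hz.map (fn (linePhi x)).symm)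
  exact ⟨κ, by rw [hκ, RingEquiv.apply_symm_apply]⟩

/-- A point of the torus with values on the line is constant. -/
theorem Cellular.torus_const (t : sp (linePhi x) ⟶ T)
    (h0 : sm (Polynomial.evalRingHom 0) (linePhi_eval x 0) ≫ t = 1) : t = 1 := by
  obtain ⟨r, ⟨C⟩⟩ := TorPts21.exists_chars (TorusHom19.isTorus_bc K.torus x)
  let A : Over (Spec (CommRingCat.of k)) := Over.mk (Spec.map (CommRingCat.ofHom (Polynomial.C : k →+* Polynomial k)))
  let A₀ : Over (Spec (CommRingCat.of k)) := Over.mk (Spec.map (CommRingCat.ofHom ((Polynomial.evalRingHom (0 : k)).comp Polynomial.C)))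
  let e₀ : A₀ ⟶ A := Over.homMk (Spec.map (CommRingCat.ofHom (Polynomial.evalRingHom 0))) (by
    show Spec.map _ ≫ Spec.map _ = _
    rw [← Spec.map_comp, ← CommRingCat.ofHom_comp]
    rfl)
  have e1 : ∀ {B : Over (Spec (CommRingCat.of k))}, fl x T (1 : B ⟶ Red.bc x T) = 1 := fun {B} => by
    have := fl_mul x T (1 : B ⟶ Red.bc x T) 1
    rw [_root_.one_mul] at this
    exact left_eq_mul.1 this
  obtain ⟨t', ht'⟩ := fl_surjective x T (T := A) t
  have ht0 : e₀ ≫ t' = 1 := fl_injective x T (by
    rw [fl_comp, ht', e1]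
    have hA : Spec.map (CommRingCat.ofHom ((Polynomial.evalRingHom (0 : k)).comp Polynomial.C)) ≫ x = x := by
      rw [show (Polynomial.evalRingHom (0 : k)).comp Polynomial.C = RingHom.id k from
        RingHom.ext fun _ => Polynomial.eval_C, CommRingCat.ofHom_id, Spec.map_id, Category.id_comp]
    let m : (Over.map x).obj A₀ ⟶ sp x := Over.homMk (𝟙 _) (by
      show 𝟙 _ ≫ x = _
      rw [Category.id_comp]; exact hA.symm)
    have hm : (Over.map x).map e₀ = m ≫ sm (Polynomial.evalRingHom 0) (linePhi_eval x 0) :=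
      Over.OverMorphism.ext (Category.id_comp _).symm
    rw [hm, Category.assoc, h0, MonObj.comp_one])
  have hconst : t' = 1 := C.inj fun a => by
    have hu : IsUnit (C.ch t' a) := ((C.ch t').toHomUnits a).isUnit
    obtain ⟨κ, hκ⟩ := eq_C_of_isUnit_fn x hu
    have h2 := C.nat e₀ t' a
    rw [ht0, C.one, hκ] at h2
    have h3 : (1 : Γ(A₀.left, ⊤)) =
        (Scheme.ΓSpecIso (CommRingCat.of k)).inv ((Polynomial.evalRingHom (0 : k)) (Polynomial.C κ)) :=
      h2.trans (congrArg (fun g : CommRingCat.of (Polynomial k) ⟶ Γ(Spec (CommRingCat.of k), ⊤) =>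
        g.hom (Polynomial.C κ)) (Scheme.ΓSpecIso_inv_naturality (CommRingCat.ofHom (Polynomial.evalRingHom (0 : k))))).symm
    rw [Polynomial.coe_evalRingHom, Polynomial.eval_C] at h3
    have h4 : κ = 1 := by
      let e : k ≃+* Γ(Spec (CommRingCat.of k), ⊤) := (Scheme.ΓSpecIso (CommRingCat.of k)).commRingCatIsoToRingEquiv.symm
      exact e.injective (h3.symm.trans (map_one e).symm)
    rw [C.one, hκ, h4, map_one, map_one]
  rw [← ht', hconst, e1]

theorem Cellular.isUnit_right {X : Over S} {a b y z : Γ(X.left, ⊤)} {t : X ⟶ T} (h : Co i pp pm a y b t z)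
    (ha : IsUnit a) : IsUnit z := by
  have := K.hom_pp; have := K.hom_pm; have := K.hom_i; have := K.hom_α
  refine isUnit_of_geom z fun p hz => ?_
  have h1 := K.co_comp (geomHom p) h
  rw [hz, Co, cell, RankOne.P_zero, _root_.mul_one] at h1
  set a' := (geomHom p).left.appTop a
  set y' := (geomHom p).left.appTop y
  set b' := (geomHom p).left.appTop b
  set t' := geomHom p ≫ t
  have h2 : cell i pp pm 0 1 a' = cell i pp pm
      (b' + (((GmPts.unitOfPt (t' ≫ α))⁻¹ : (Γ((kPt (Red.geomPt p ≫ X.hom)).left, ⊤))ˣ) :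
        Γ((kPt (Red.geomPt p ≫ X.hom)).left, ⊤)) * -y') t' 0 := by
    have hl : ∀ (b₀ : Γ((kPt (Red.geomPt p ≫ X.hom)).left, ⊤)) s₀,
        cell i pp pm b₀ s₀ 0 = P pm b₀ * (s₀ ≫ i) := fun b₀ s₀ => by
      rw [cell, RankOne.P_zero, _root_.mul_one]
    rw [hl, RankOne.P_add, _root_.mul_assoc, ← mul_inv_eq_iff_eq_mul.1 (K.conjM t' (-y')), ← _root_.mul_assoc, ← h1,
      _root_.mul_assoc, ← RankOne.P_add, add_neg_cancel, RankOne.P_zero, _root_.mul_one, cell, RankOne.P_zero,
      MonObj.one_comp, _root_.one_mul, _root_.one_mul]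
  obtain ⟨-, -, e3⟩ := cell_inj K.hΩ h2
  have hu := ha.map (geomHom p).left.appTop.hom
  rw [show (geomHom p).left.appTop.hom a = 0 from e3] at hu
  haveI : Nonempty (⊤ : (kPt (Red.geomPt p ≫ X.hom)).left.Opens) :=
    ⟨⟨(IsLocalRing.closedPoint (AlgebraicClosure (X.left.residueField p)) :
      Spec (CommRingCat.of (AlgebraicClosure (X.left.residueField p)))), trivial⟩⟩
  haveI : Nontrivial Γ((kPt (Red.geomPt p ≫ X.hom)).left, ⊤) := Scheme.component_nontrivial _ ⊤
  exact not_isUnit_zero hu

/-- Without bad values the root groups commute. -/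
theorem Cellular.co_line (hall : ∀ r, Wf i pp pm x r) :
    Co i pp pm (fn (linePhi x) Polynomial.X) 1 1 1 (fn (linePhi x) Polynomial.X) := by
  let φ := linePhi x
  let Y : Γ((sp φ).left, ⊤) := fn φ Polynomial.X
  have hW : InV i pp pm Y 1 := by
    have h := (K.wf_line_iff x (RingHom.id _) φ (by rw [CommRingCat.ofHom_id, Spec.map_id, Category.id_comp])).2
      fun z => K.mem_cellLocus x _ fun r hr => absurd (hall r) hr
    exact h
  obtain ⟨b, t, a, hc⟩ := K.exists_co hW
  -- restrictions to the points of the line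
  let e : ∀ r : k, sp x ⟶ sp φ := fun r => sm (Polynomial.evalRingHom r) (linePhi_eval x r)
  have hY : ∀ r, (e r).left.appTop Y = fn x r := fun r => by
    rw [sm_fn, Polynomial.coe_evalRingHom, Polynomial.eval_X]
  have hr : ∀ r, Co i pp pm (fn x r) 1 ((e r).left.appTop b) (e r ≫ t) ((e r).left.appTop a) := fun r => by
    have h := K.co_comp (e r) hc
    rwa [hY, map_one] at h
  have h00 := K.co_unique (hr 0) (by rw [map_zero]; exact K.co_zero_left 1)
  obtain ⟨κ, hκ⟩ := eq_C_of_isUnit_fn x (K.isUnit_left hc isUnit_one)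
  have hb : b = 1 := by
    have h2 := h00.1
    rw [hκ, sm_fn, Polynomial.coe_evalRingHom, Polynomial.eval_C, ← map_one (fn x)] at h2
    rw [hκ, (fn x).injective h2, map_one, map_one]
  have ht : t = 1 := K.torus_const x t h00.2.1
  -- the symmetric point
  have hW' : InV i pp pm 1 Y := by
    refine K.inV_of_geom fun p => ?_
    rw [map_one]
    set z := (geomHom p).left.appTop Y
    by_cases hz : z = 0
    · rw [hz]; exact K.inV_of_co (K.co_zero_right 1)
    · obtain ⟨w, hw⟩ := isUnit_of_ne hz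
      rw [← hw, K.inV_one_unit_iff, _root_.one_mul, hw]
      have h := K.inV_comp (geomHom p) hW
      rwa [map_one] at h
  obtain ⟨b', t', a', hc'⟩ := K.exists_co hW'
  obtain ⟨κ', hκ'⟩ := eq_C_of_isUnit_fn x (K.isUnit_right hc' isUnit_one)
  have ha' : a' = 1 := by
    have h2 := K.co_comp (e 0) hc'
    rw [map_one, hY, map_zero] at h2
    have h3 := (K.co_unique h2 (K.co_zero_right 1)).2.2
    rw [hκ', sm_fn, Polynomial.coe_evalRingHom, Polynomial.eval_C, ← map_one (fn x)] at h3
    rw [hκ', (fn x).injective h3, map_one, map_one]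
  obtain ⟨q, hq⟩ := (fn φ).surjective a
  have hq1 : ∀ r : k, r ≠ 0 → q.eval r = r := by
    intro r hr0
    let w : (Γ((sp x).left, ⊤))ˣ := Units.map (fn x).toRingHom.toMonoidHom (Units.mk0 r hr0)
    have hwr : (w : Γ((sp x).left, ⊤)) = fn x r := rfl
    have h1 := hr r
    have h2 := K.co_comp (e r) hc'
    rw [map_one, hY, ← hwr, ha', map_one] at h2
    rw [← hwr, ← _root_.one_mul (w : Γ((sp x).left, ⊤))] at h1
    have h3 := (K.co_unique (K.co_of_one w h1) h2).2.2
    rw [Units.inv_mul_eq_iff_eq_mul, _root_.mul_one, hwr, ← hq, sm_fn, Polynomial.coe_evalRingHom] at h3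
    exact (fn x).injective h3
  have hq2 : q = Polynomial.X := Polynomial.eq_of_infinite_eval_eq _ _
    (Set.Infinite.mono (fun r hr => by simpa using hq1 r hr) ((Set.finite_singleton (0 : k)).infinite_compl))
  have ha : a = Y := by rw [← hq, hq2]
  rw [hb, ht, ha] at hc
  exact hc

/-- Without bad values the root groups commute over the point. -/
theorem Cellular.commute_of_all (hall : ∀ r, Wf i pp pm x r) {X : Over S} (d : X ⟶ sp x) (u v : Γ(X.left, ⊤)) :
    P pp u * P pm v = P pm v * P pp u := by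
  have := K.hom_pp; have := K.hom_pm; have := K.hom_i
  have hline := K.co_line x hall
  have hone : ∀ {X : Over S} (_ : X ⟶ sp x) (u : Γ(X.left, ⊤)), Co i pp pm u 1 1 1 u := by
    intro X d u
    let f : Polynomial k →+* Γ(X.left, ⊤) := Polynomial.eval₂RingHom (d.left.appTop.hom.comp (fn x).toRingHom) u
    let e : X ⟶ sp (linePhi x) := Over.homMk (X.left.toSpecΓ ≫ Spec.map (CommRingCat.ofHom f)) (by
      show (X.left.toSpecΓ ≫ Spec.map _) ≫ Spec.map _ ≫ x = X.hom
      rw [← Over.w d]
      show _ = d.left ≫ x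
      rw [← Category.assoc]
      congr 1
      rw [Category.assoc, ← Spec.map_comp, ← CommRingCat.ofHom_comp,
        show f.comp Polynomial.C = d.left.appTop.hom.comp (fn x).toRingHom from RingHom.ext fun z => Polynomial.eval₂_C _ _,
        show CommRingCat.ofHom (d.left.appTop.hom.comp (fn x).toRingHom) =
          (Scheme.ΓSpecIso (CommRingCat.of k)).inv ≫ d.left.appTop from rfl,
        Spec.map_comp, ← Scheme.toSpecΓ_naturality_assoc]
      have h0 : (Spec (CommRingCat.of k)).toSpecΓ ≫ Spec.map (Scheme.ΓSpecIso (CommRingCat.of k)).inv = 𝟙 _ := by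
        exact toSpecΓ_SpecMap_ΓSpecIso_inv _
      show d.left ≫ (Spec (CommRingCat.of k)).toSpecΓ ≫ Spec.map (Scheme.ΓSpecIso (CommRingCat.of k)).inv = d.left
      rw [h0]
      exact Category.comp_id _)
    have he : e.left.appTop (fn (linePhi x) Polynomial.X) = u := by
      have h1 : (X.left.toSpecΓ ≫ Spec.map (CommRingCat.ofHom f)).appTop (fn (linePhi x) Polynomial.X) =
          f Polynomial.X := by
        have h2 : (Scheme.ΓSpecIso (CommRingCat.of (Polynomial k))).inv ≫
            (X.left.toSpecΓ ≫ Spec.map (CommRingCat.ofHom f)).appTop = CommRingCat.ofHom f := by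
          rw [Scheme.Hom.comp_appTop, ← Scheme.ΓSpecIso_inv_naturality_assoc, Scheme.toSpecΓ_appTop, Iso.inv_hom_id,
            Category.comp_id]
        exact congrArg (fun g : CommRingCat.of (Polynomial k) ⟶ Γ(X.left, ⊤) => g.hom Polynomial.X) h2
      exact h1.trans (Polynomial.eval₂_X _ _)
    have h := K.co_comp e hline
    rwa [he, map_one, MonObj.comp_one] at h
  have hunit : ∀ {X : Over S} (_ : X ⟶ sp x) (u : Γ(X.left, ⊤)) (z : (Γ(X.left, ⊤))ˣ),
      P pp u * P pm (z : Γ(X.left, ⊤)) = P pm (z : Γ(X.left, ⊤)) * P pp u := by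
    intro X d u z
    have h := K.co_of_one z (hone d (u * (z : Γ(X.left, ⊤))))
    rw [_root_.mul_one, _root_.mul_comm u, Units.inv_mul_cancel_left, Co, cell, MonObj.one_comp, _root_.mul_one] at h
    exact h
  obtain ⟨X', g, z, z', hg, hv⟩ := exists_cover_two_units X v
  haveI := hg
  rw [← cancel_epi g, MonObj.comp_mul, MonObj.comp_mul, RankOne.comp_P, RankOne.comp_P, hv, RankOne.P_add,
    ← _root_.mul_assoc, hunit (g ≫ d), _root_.mul_assoc, hunit (g ≫ d), _root_.mul_assoc]

end Groth.Agent.RankOne16
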