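import Groth.Agent.Lib.RankOne16.Homogeneous
import Mathlib.Algebra.DualNumber

/-!
# Affine test objects: dual numbers, gluing of natural functions
-/

universe u

open CategoryTheory CategoryTheory.Limits MonoidalCategory CartesianMonoidalCategory MonObj AlgebraicGeometry

set_option linter.style.haveILetI false
set_option backward.isDefEq.respectTransparency false
set_option backward.isDefEq.respectTransparency.types false

noncomputable section

namespace Groth.Agent.RankOne16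

open TrivSqZeroExt DualNumber

variable {S : Scheme.{u}} {R R' : Type u} [CommRing R] [CommRing R']

/-- the map of affine test objects of a ring map over the base -/
def sm {φ : Spec (CommRingCat.of R) ⟶ S} {φ' : Spec (CommRingCat.of R') ⟶ S} (f : R →+* R')
    (h : Spec.map (CommRingCat.ofHom f) ≫ φ = φ') : sp φ' ⟶ sp φ := Over.homMk (Spec.map (CommRingCat.ofHom f)) h

theorem sm_fn {φ : Spec (CommRingCat.of R) ⟶ S} {φ' : Spec (CommRingCat.of R') ⟶ S} (f : R →+* R')
    (h : Spec.map (CommRingCat.ofHom f) ≫ φ = φ') (r : R) : (sm f h).left.appTop (fn φ r) = fn φ' (f r) :=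
  (congrArg (fun g : CommRingCat.of R ⟶ Γ(Spec (CommRingCat.of R'), ⊤) => g.hom r)
    (Scheme.ΓSpecIso_inv_naturality (CommRingCat.ofHom f))).symm

theorem exists_sm {φ : Spec (CommRingCat.of R) ⟶ S} {φ' : Spec (CommRingCat.of R') ⟶ S} (g : sp φ' ⟶ sp φ) :
    ∃ (f : R →+* R') (h : Spec.map (CommRingCat.ofHom f) ≫ φ = φ'), g = sm f h := by
  obtain ⟨f, hf⟩ := Spec.map_surjective (g.left : Spec (CommRingCat.of R') ⟶ Spec (CommRingCat.of R))
  have hw : Spec.map (CommRingCat.ofHom f.hom) ≫ φ = φ' := by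
    rw [CommRingCat.ofHom_hom, hf]; exact Over.w g
  refine ⟨f.hom, hw, Over.OverMorphism.ext ?_⟩
  show g.left = Spec.map (CommRingCat.ofHom f.hom)
  rw [CommRingCat.ofHom_hom]
  exact hf.symm

/-- the value at `0` of a dual number -/
def dualFst (R : Type u) [CommRing R] : DualNumber R →+* R := (TrivSqZeroExt.fstHom R R R).toRingHom

/-- functoriality of dual numbers -/
def dualMap (f : R →+* R') : DualNumber R →+* DualNumber R' where
  toFun x := inl (f x.fst) + inr (f x.snd)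
  map_one' := by ext <;> simp
  map_zero' := by ext <;> simp
  map_add' x y := by ext <;> simp
  map_mul' x y := by ext <;> simp [DualNumber.snd_mul]

/-- rescaling of `ε` -/
def dualScale (v : R) : DualNumber R →+* DualNumber R where
  toFun x := inl x.fst + inr (v * x.snd)
  map_one' := by ext <;> simp
  map_zero' := by ext <;> simp
  map_add' x y := by ext <;> simp [mul_add]
  map_mul' x y := by ext <;> simp [DualNumber.snd_mul]; ring

theorem surjective_dualFst : Surjective (Spec.map (CommRingCat.ofHom (dualFst R))) := by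
  refine ⟨fun P => ?_⟩
  have h : P ∈ Set.range (PrimeSpectrum.comap (dualFst R)) := by
    rw [range_comap_of_surjective (S := R) (dualFst R) (fun r => ⟨inl r, rfl⟩)]
    intro x hx
    have hx0 : x.fst = 0 := hx
    have h2 : x * x = 0 := by ext <;> simp [DualNumber.snd_mul, hx0]
    exact (P.2.mem_or_mem (h2 ▸ P.asIdeal.zero_mem)).elim id id
  exact h

/-- Natural families of elements of rings over the base glue. -/
theorem exists_glue_fn (c : ∀ (R : Type u) [CommRing R] (_ : Spec (CommRingCat.of R) ⟶ S), R)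
    (hc : ∀ (R R' : Type u) [CommRing R] [CommRing R'] (φ : Spec (CommRingCat.of R) ⟶ S)
      (φ' : Spec (CommRingCat.of R') ⟶ S) (f : R →+* R') (_ : Spec.map (CommRingCat.ofHom f) ≫ φ = φ'),
      f (c R φ) = c R' φ') :
    ∃ cS : ∀ X : Over S, Γ(X.left, ⊤), (∀ (X X' : Over S) (g : X' ⟶ X), g.left.appTop (cS X) = cS X') ∧
      ∀ (R : Type u) [CommRing R] (φ : Spec (CommRingCat.of R) ⟶ S), cS (sp φ) = fn φ (c R φ) := by
  classical
  let 𝒰 := S.affineOpenCover
  let ψ : ∀ j, sp (R := 𝒰.X j) (𝒰.f j) ⟶ Red.Ga S := fun j => GaPts.ptOfFn (fn _ (c (𝒰.X j) (𝒰.f j)))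
  have key : ∀ {R : Type u} [CommRing R] {φ : Spec (CommRingCat.of R) ⟶ S} {R' : Type u} [CommRing R']
      {φ' : Spec (CommRingCat.of R') ⟶ S} {X : Over S} (g : X ⟶ sp φ) (h : X ⟶ sp φ'),
      g ≫ (GaPts.ptOfFn (fn φ (c R φ)) : sp φ ⟶ Red.Ga S) = h ≫ GaPts.ptOfFn (fn φ' (c R' φ')) := by
    intro R _ φ R' _ φ' X g h
    rw [GaPts.ptOfFn_comp, GaPts.ptOfFn_comp]
    congr 1
    refine ext_of_affine fun R'' _ φ'' e => ?_
    obtain ⟨f, hf, hge⟩ := exists_sm (e ≫ g)
    obtain ⟨f', hf', hhe⟩ := exists_sm (e ≫ h)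
    rw [← CommRingCat.comp_apply, ← Scheme.Hom.comp_appTop, ← Over.comp_left, hge, sm_fn, hc _ _ φ φ'' f hf,
      ← CommRingCat.comp_apply, ← Scheme.Hom.comp_appTop, ← Over.comp_left, hhe, sm_fn, hc _ _ φ' φ'' f' hf']
  have hag : ∀ j k, pullback.fst (𝒰.openCover.f j) (𝒰.openCover.f k) ≫ (ψ j).left =
      pullback.snd (𝒰.openCover.f j) (𝒰.openCover.f k) ≫ (ψ k).left := by
    intro j k
    let X : Over S := Over.mk (pullback.fst (𝒰.f j) (𝒰.f k) ≫ 𝒰.f j)
    let g : X ⟶ sp (R := 𝒰.X j) (𝒰.f j) := Over.homMk (pullback.fst (𝒰.f j) (𝒰.f k))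
    let h : X ⟶ sp (R := 𝒰.X k) (𝒰.f k) := Over.homMk (pullback.snd (𝒰.f j) (𝒰.f k)) pullback.condition.symm
    have h0 := congrArg CommaMorphism.left (key (R := 𝒰.X j) (φ := 𝒰.f j) (R' := 𝒰.X k) (φ' := 𝒰.f k) g h)
    simp only [Over.comp_left] at h0
    exact h0
  let z : S ⟶ (Red.Ga S).left := 𝒰.openCover.glueMorphisms (fun j => (ψ j).left) hag
  have hz : ∀ j, 𝒰.openCover.f j ≫ z = (ψ j).left := fun j => Scheme.Cover.ι_glueMorphisms _ _ hag j
  let zS : Over.mk (𝟙 S) ⟶ Red.Ga S := Over.homMk z (Scheme.Cover.hom_ext 𝒰.openCover _ _ fun j => by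
    rw [reassoc_of% (hz j), Over.w]
    exact (Category.comp_id _).symm)
  let toS : ∀ X : Over S, X ⟶ Over.mk (𝟙 S) := fun X => Over.homMk X.hom (Category.comp_id _)
  refine ⟨fun X => Red.gaFn (toS X ≫ zS), fun X X' g => ?_, fun R _ φ => ?_⟩
  · rw [← GaPts.gaFn_comp, ← Category.assoc]
    congr 2
    exact Over.OverMorphism.ext (Over.w g)
  · rw [← GaPts.gaFn_ptOfFn (S := S) (fn φ (c R φ))]
    refine congrArg Red.gaFn ?_
    apply Over.OverMorphism.ext
    refine Scheme.Cover.hom_ext (𝒰.openCover.pullback₁ φ) _ _ fun j => ?_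
    let X : Over S := Over.mk (pullback.fst φ (𝒰.f j) ≫ φ)
    let g : X ⟶ sp φ := Over.homMk (pullback.fst φ (𝒰.f j))
    let h : X ⟶ sp (R := 𝒰.X j) (𝒰.f j) := Over.homMk (pullback.snd φ (𝒰.f j)) pullback.condition.symm
    have h1 := congrArg CommaMorphism.left (key (R := R) (φ := φ) (R' := 𝒰.X j) (φ' := 𝒰.f j) g h)
    simp only [Over.comp_left] at h1
    show pullback.fst φ (𝒰.f j) ≫ φ ≫ z = pullback.fst φ (𝒰.f j) ≫ (GaPts.ptOfFn (fn φ (c R φ))).left
    rw [pullback.condition_assoc, show 𝒰.f j ≫ z = (ψ j).left from hz j]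
    exact h1.symm

end Groth.Agent.RankOne16
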