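import Groth.Agent.Lib.RankOne16.CommBase
import Groth.Agent.Lib.RankOne16.DualTest

/-!
# The slope of the commutation rule
-/

universe u

open CategoryTheory CategoryTheory.Limits MonoidalCategory CartesianMonoidalCategory MonObj AlgebraicGeometry

set_option linter.style.haveILetI false
set_option backward.isDefEq.respectTransparency false
set_option backward.isDefEq.respectTransparency.types false

noncomputable section

namespace Groth.Agent.RankOne16

open RankOne (P)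
open TrivSqZeroExt DualNumber

variable {S : Scheme.{u}} {G T : Over S} [GrpObj G] [GrpObj T]
variable {i : T ⟶ G} {α : T ⟶ Red.Gm S} {pp pm : Red.Ga S ⟶ G} (K : Cellular i α pp pm)

section General

variable {X : Over S}
include K

theorem Cellular.inV_one_unit_iff (z : (Γ(X.left, ⊤))ˣ) (p : Γ(X.left, ⊤)) :
    InV i pp pm p (z : Γ(X.left, ⊤)) ↔ InV i pp pm (p * (z : Γ(X.left, ⊤))) 1 := by
  constructor <;> intro h
  · have h1 := K.inV_scale z h
    rwa [_root_.mul_comm (z : Γ(X.left, ⊤)) p, Units.inv_mul] at h1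
  · have h1 := K.inV_scale z⁻¹ h
    rwa [inv_inv, _root_.mul_one, _root_.mul_comm p, Units.inv_mul_cancel_left] at h1

theorem Cellular.co_of_one (z : (Γ(X.left, ⊤))ˣ) {p b a : Γ(X.left, ⊤)} {t : X ⟶ T}
    (h : Co i pp pm (p * (z : Γ(X.left, ⊤))) 1 b t a) :
    Co i pp pm p (z : Γ(X.left, ⊤)) ((z : Γ(X.left, ⊤)) * b) t
      ((((z⁻¹ : (Γ(X.left, ⊤))ˣ)) : Γ(X.left, ⊤)) * a) := by
  have h1 := K.co_scale z⁻¹ h
  rwa [inv_inv, _root_.mul_one, _root_.mul_comm p, Units.inv_mul_cancel_left] at h1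

theorem Cellular.inV_add_one_iff {q p b a : Γ(X.left, ⊤)} {t : X ⟶ T} (h : Co i pp pm q 1 b t a) :
    InV i pp pm (p + q) 1 ↔ InV i pp pm (p * b) 1 := by
  obtain ⟨z, rfl⟩ := K.isUnit_left h isUnit_one
  rw [K.inV_add_left_iff h, K.inV_one_unit_iff]

theorem Cellular.co_add_one {q p b a b₂ a₂ : Γ(X.left, ⊤)} {t t₂ : X ⟶ T} (h : Co i pp pm q 1 b t a)
    (h₂ : Co i pp pm (p * b) 1 b₂ t₂ a₂) (z : (Γ(X.left, ⊤))ˣ) (hz : b = (z : Γ(X.left, ⊤))) :
    Co i pp pm (p + q) 1 (b * b₂) (t₂ * t)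
      ((((GmPts.unitOfPt (t ≫ α))⁻¹ : (Γ(X.left, ⊤))ˣ) : Γ(X.left, ⊤)) *
        ((((z⁻¹ : (Γ(X.left, ⊤))ˣ)) : Γ(X.left, ⊤)) * a₂) + a) := by
  subst hz
  exact K.co_add_left h (K.co_of_one z h₂)

end General

section Affine

variable {R R' : Type u} [CommRing R] [CommRing R']

/-- the first coordinate of `p₊(u) p₋(1)` on an affine test object -/
def CoR (i : T ⟶ G) (pp pm : Red.Ga S ⟶ G) (φ : Spec (CommRingCat.of R) ⟶ S) (u b : R) : Prop :=
  ∃ t a, Co i pp pm (fn φ u) 1 (fn φ b) t a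

/-- `p₊(u) p₋(1)` is in the cell -/
def Wf (i : T ⟶ G) (pp pm : Red.Ga S ⟶ G) (φ : Spec (CommRingCat.of R) ⟶ S) (u : R) : Prop :=
  InV i pp pm (fn φ u) 1

/-- the dual numbers over an affine test object -/
abbrev dphi (φ : Spec (CommRingCat.of R) ⟶ S) : Spec (CommRingCat.of (DualNumber R)) ⟶ S :=
  Spec.map (CommRingCat.ofHom (TrivSqZeroExt.inlHom R R)) ≫ φ

include K

theorem Cellular.exists_coR {φ : Spec (CommRingCat.of R) ⟶ S} {u : R} (h : Wf i pp pm φ u) :
    ∃ b, CoR i pp pm φ u b := by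
  obtain ⟨b, t, a, hc⟩ := K.exists_co h
  exact ⟨(fn φ).symm b, t, a, by rwa [RingEquiv.apply_symm_apply]⟩

theorem Cellular.coR_unique {φ : Spec (CommRingCat.of R) ⟶ S} {u b b' : R} (h : CoR i pp pm φ u b)
    (h' : CoR i pp pm φ u b') : b = b' := by
  obtain ⟨t, a, h⟩ := h
  obtain ⟨t', a', h'⟩ := h'
  exact (fn φ).injective (K.co_unique h h').1

theorem Cellular.wf_of_coR {φ : Spec (CommRingCat.of R) ⟶ S} {u b : R} (h : CoR i pp pm φ u b) : Wf i pp pm φ u := by
  obtain ⟨t, a, h⟩ := h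
  exact K.inV_of_co h

theorem Cellular.coR_map {φ : Spec (CommRingCat.of R) ⟶ S} {φ' : Spec (CommRingCat.of R') ⟶ S} (f : R →+* R')
    (hf : Spec.map (CommRingCat.ofHom f) ≫ φ = φ') {u b : R} (h : CoR i pp pm φ u b) :
    CoR i pp pm φ' (f u) (f b) := by
  obtain ⟨t, a, h⟩ := h
  have h1 := K.co_comp (sm f hf) h
  rw [sm_fn, sm_fn, map_one] at h1
  exact ⟨_, _, h1⟩

theorem Cellular.isUnit_coR {φ : Spec (CommRingCat.of R) ⟶ S} {u b : R} (h : CoR i pp pm φ u b) : IsUnit b := by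
  obtain ⟨t, a, h⟩ := h
  simpa using (K.isUnit_left h isUnit_one).map (fn φ).symm

theorem Cellular.wf_add_iff {φ : Spec (CommRingCat.of R) ⟶ S} {q p b : R} (h : CoR i pp pm φ q b) :
    Wf i pp pm φ (p + q) ↔ Wf i pp pm φ (p * b) := by
  obtain ⟨t, a, h⟩ := h
  unfold Wf
  rw [map_add, map_mul, K.inV_add_one_iff h]

theorem Cellular.coR_add {φ : Spec (CommRingCat.of R) ⟶ S} {q p b b₂ : R} (h : CoR i pp pm φ q b)
    (h₂ : CoR i pp pm φ (p * b) b₂) : CoR i pp pm φ (p + q) (b * b₂) := by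
  obtain ⟨t, a, h⟩ := h
  obtain ⟨t₂, a₂, h₂⟩ := h₂
  obtain ⟨z, hz⟩ := K.isUnit_left h isUnit_one
  rw [map_mul] at h₂
  have h1 := K.co_add_one h h₂ z hz.symm
  rw [← map_add, ← map_mul] at h1
  exact ⟨_, _, h1⟩

theorem Cellular.coR_zero (φ : Spec (CommRingCat.of R) ⟶ S) : CoR i pp pm φ 0 1 := by
  refine ⟨1, 0, ?_⟩
  rw [map_zero, map_one]
  exact K.co_zero_left 1

theorem Cellular.wf_dual {φ : Spec (CommRingCat.of R) ⟶ S} {x : DualNumber R} (h : Wf i pp pm φ x.fst) :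
    Wf i pp pm (dphi φ) x := by
  have hf : Spec.map (CommRingCat.ofHom (dualFst R)) ≫ dphi φ = φ := by
    rw [← Category.assoc, ← Spec.map_comp, ← CommRingCat.ofHom_comp,
      show (dualFst R).comp (TrivSqZeroExt.inlHom R R) = RingHom.id R from RingHom.ext fun r => rfl,
      CommRingCat.ofHom_id, Spec.map_id, Category.id_comp]
  haveI : Surjective (sm (dualFst R) hf).left := surjective_dualFst
  refine K.inV_of_surjective (sm (dualFst R) hf) ?_
  rw [sm_fn, map_one]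
  exact h

theorem Cellular.fst_of_coR {φ : Spec (CommRingCat.of R) ⟶ S} {x y : DualNumber R} {b : R}
    (h : CoR i pp pm (dphi φ) x y) (h' : CoR i pp pm φ x.fst b) : y.fst = b := by
  refine K.coR_unique (K.coR_map (dualFst R) ?_ h) h'
  rw [← Category.assoc, ← Spec.map_comp, ← CommRingCat.ofHom_comp,
    show (dualFst R).comp (TrivSqZeroExt.inlHom R R) = RingHom.id R from RingHom.ext fun r => rfl,
    CommRingCat.ofHom_id, Spec.map_id, Category.id_comp]

/-- The slope: `b (1 + c u) = 1` up to multiples killed by `c`. -/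
theorem Cellular.exists_slope : ∃ c : ∀ X : Over S, Γ(X.left, ⊤),
    (∀ (X X' : Over S) (g : X' ⟶ X), g.left.appTop (c X) = c X') ∧
    (∀ (R : Type u) [CommRing R] (φ : Spec (CommRingCat.of R) ⟶ S) (y : DualNumber R),
      CoR i pp pm (dphi φ) ε y → y.snd = -(fn φ).symm (c (sp φ))) ∧
    ∀ (R : Type u) [CommRing R] (φ : Spec (CommRingCat.of R) ⟶ S) (u b : R), CoR i pp pm φ u b →
      (fn φ).symm (c (sp φ)) * (b * (1 + (fn φ).symm (c (sp φ)) * u) - 1) = 0 := by
  have hex : ∀ (R : Type u) [CommRing R] (φ : Spec (CommRingCat.of R) ⟶ S),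
      ∃ y, CoR i pp pm (dphi φ) (ε : DualNumber R) y := fun R _ φ =>
    K.exists_coR (K.wf_dual (by rw [fst_eps]; exact K.wf_of_coR (K.coR_zero φ)))
  choose y₀ hy₀ using hex
  have hy₀1 : ∀ (R : Type u) [CommRing R] (φ : Spec (CommRingCat.of R) ⟶ S), (y₀ R φ).fst = 1 := fun R _ φ =>
    K.fst_of_coR (hy₀ R φ) (by rw [fst_eps]; exact K.coR_zero φ)
  let cR : ∀ (R : Type u) [CommRing R] (_ : Spec (CommRingCat.of R) ⟶ S), R := fun R _ φ => -(y₀ R φ).snd
  have hscale : ∀ {R : Type u} [CommRing R] (φ : Spec (CommRingCat.of R) ⟶ S) (v : R),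
      Spec.map (CommRingCat.ofHom (dualScale v)) ≫ dphi φ = dphi φ := fun φ v => by
    rw [← Category.assoc, ← Spec.map_comp, ← CommRingCat.ofHom_comp,
      show (dualScale v).comp (TrivSqZeroExt.inlHom _ _) = TrivSqZeroExt.inlHom _ _ from
        RingHom.ext fun r => by ext <;> simp [dualScale]]
  have hnat : ∀ (R R' : Type u) [CommRing R] [CommRing R'] (φ : Spec (CommRingCat.of R) ⟶ S)
      (φ' : Spec (CommRingCat.of R') ⟶ S) (f : R →+* R') (_ : Spec.map (CommRingCat.ofHom f) ≫ φ = φ'),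
      f (cR R φ) = cR R' φ' := by
    intro R R' _ _ φ φ' f hf
    have h1 := K.coR_map (φ := dphi φ) (φ' := dphi φ') (dualMap f) (by
      rw [dphi, dphi, ← hf, ← Category.assoc, ← Category.assoc, ← Spec.map_comp, ← Spec.map_comp,
        ← CommRingCat.ofHom_comp, ← CommRingCat.ofHom_comp]
      congr 3
      exact RingHom.ext fun r => by ext <;> simp [dualMap]) (hy₀ R φ)
    rw [show dualMap f (ε : DualNumber R) = ε by ext <;> simp [dualMap]] at h1
    have h2 := congrArg TrivSqZeroExt.snd (K.coR_unique h1 (hy₀ R' φ'))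
    simp [dualMap] at h2
    simp only [cR, map_neg, h2]
  obtain ⟨c, hc, hcR⟩ := exists_glue_fn cR hnat
  have hval : ∀ (R : Type u) [CommRing R] (φ : Spec (CommRingCat.of R) ⟶ S), (fn φ).symm (c (sp φ)) = cR R φ :=
    fun R _ φ => by rw [hcR, RingEquiv.symm_apply_apply]
  refine ⟨c, hc, fun R _ φ y hy => ?_, fun R _ φ u b hb => ?_⟩
  · rw [hval, K.coR_unique hy (hy₀ R φ)]
    simp [cR]
  rw [hval]
  set k := cR R φ
  have hy₀2 : (y₀ R φ).snd = -k := by simp [k, cR]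
  obtain ⟨bd, hbd⟩ := K.exists_coR (K.wf_dual (φ := φ) (x := inl u + ε)
    (by simpa using K.wf_of_coR hb))
  have hbd1 : bd.fst = b := K.fst_of_coR hbd (by simpa using hb)
  have hbi : CoR i pp pm (dphi φ) (inl u) (inl b) := K.coR_map (TrivSqZeroExt.inlHom R R) rfl hb
  -- `p = ε`
  have h1 : CoR i pp pm (dphi φ) ((ε : DualNumber R) * inl b) (dualScale b (y₀ R φ)) := by
    have h := K.coR_map (dualScale b) (hscale φ b) (hy₀ R φ)
    rwa [show dualScale b (ε : DualNumber R) = ε * inl b by ext <;> simp [dualScale]] at h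
  have e1 := K.coR_add hbi h1
  rw [add_comm (ε : DualNumber R)] at e1
  have d1 := congrArg TrivSqZeroExt.snd (K.coR_unique hbd e1)
  simp [dualScale, DualNumber.snd_mul, hy₀2] at d1
  -- `q = ε`
  have h2 : CoR i pp pm (dphi φ) (inl u * y₀ R φ) (dualScale (-(k * u)) bd) := by
    have h := K.coR_map (dualScale (-(k * u))) (hscale φ (-(k * u))) hbd
    rwa [show dualScale (-(k * u)) (inl u + ε : DualNumber R) = inl u * y₀ R φ by
      ext
      · simp [dualScale, hy₀1]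
      · simp [dualScale, DualNumber.snd_mul, hy₀2]; ring] at h
  have e2 := K.coR_add (hy₀ R φ) h2
  have d2 := congrArg TrivSqZeroExt.snd (K.coR_unique hbd e2)
  simp [dualScale, DualNumber.snd_mul, hy₀1, hy₀2, hbd1] at d2
  obtain ⟨z, hz⟩ := K.isUnit_coR hb
  rw [← hz] at d1 d2 ⊢
  refine (z.mul_right_eq_zero).1 ?_
  linear_combination (1 + k * u) * d1 - d2

end Affine

end Groth.Agent.RankOne16
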