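import Groth.Agent.Lib.RankOne16.Homogeneous
import Groth.Agent.Lib.RankOne16.Centr

/-!
# Homomorphisms `Ga ⟶ G` of torus weight `q α`
-/

universe u

open CategoryTheory CategoryTheory.Limits MonoidalCategory CartesianMonoidalCategory MonObj AlgebraicGeometry

set_option linter.style.haveILetI false
set_option backward.isDefEq.respectTransparency false
set_option backward.isDefEq.respectTransparency.types false

noncomputable section

namespace Groth.Agent.RankOne16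

open RankOne (P)

variable {S : Scheme.{u}} {G T Q : Over S} [GrpObj G] [GrpObj T] [GrpObj Q]
variable {i : T ⟶ G} [IsMonHom i] {α : T ⟶ Red.Gm S} [IsMonHom α] {pp pm : Red.Ga S ⟶ G} [IsMonHom pp] [IsMonHom pm]
variable {j : Q ⟶ T} [IsMonHom j] {p : Red.Ga S ⟶ G} [IsMonHom p] {q : ℕ}
variable (hT : Red.IsTorus T) (hQ : Red.IsTorus Q)
  (hα : ∀ s : S, (Over.pullback (Red.geomPt s)).map (j ≫ α) ≠ 1)
  (hpp : ∀ (X : Over S) (t : X ⟶ T) (x : X ⟶ Red.Ga S), ∃ x' : X ⟶ Red.Ga S,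
      x' ≫ pp = (t ≫ i) * (x ≫ pp) * (t ≫ i)⁻¹ ∧ Red.gaFn x' = Red.gmFn (t ≫ α) * Red.gaFn x)
  (hpm : ∀ (X : Over S) (t : X ⟶ T) (y : X ⟶ Red.Ga S), ∃ y' : X ⟶ Red.Ga S,
      y' ≫ pm = (t ≫ i) * (y ≫ pm) * (t ≫ i)⁻¹ ∧ Red.gaFn y' * Red.gmFn (t ≫ α) = Red.gaFn y)
  (hΩ : IsOpenImmersion (cellMap i pp pm).left)
  (hp : ∀ (X : Over S) (t : X ⟶ Q) (x x' : X ⟶ Red.Ga S), Red.gaFn x' = Red.gmFn (t ≫ j ≫ α) * Red.gaFn x →
      x' ≫ p = ((t ≫ j ≫ i) ^ q) * (x ≫ p) * ((t ≫ j ≫ i) ^ q)⁻¹)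

include hpp in
theorem conjP {X : Over S} (t : X ⟶ T) (a : Γ(X.left, ⊤)) :
    (t ≫ i) * P pp a * (t ≫ i)⁻¹ = P pp ((GmPts.unitOfPt (t ≫ α) : Γ(X.left, ⊤)) * a) := by
  obtain ⟨x', h1, h2⟩ := hpp X t (GaPts.ptOfFn a)
  rw [GaPts.gaFn_ptOfFn] at h2
  rw [P, ← h1, RankOne.comp_eq_P, h2]
  rfl

include hpm in
theorem conjM {X : Over S} (t : X ⟶ T) (a : Γ(X.left, ⊤)) :
    (t ≫ i) * P pm a * (t ≫ i)⁻¹ =
      P pm ((((GmPts.unitOfPt (t ≫ α))⁻¹ : (Γ(X.left, ⊤))ˣ) : Γ(X.left, ⊤)) * a) := by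
  obtain ⟨y', h1, h2⟩ := hpm X t (GaPts.ptOfFn a)
  rw [GaPts.gaFn_ptOfFn] at h2
  rw [P, ← h1, RankOne.comp_eq_P]
  congr 1
  rw [eq_comm, Units.inv_mul_eq_iff_eq_mul, GmPts.val_unitOfPt, _root_.mul_comm, h2]

include hT hpp hpm in
theorem conj_cell {X : Over S} (s : X ⟶ T) (a : Γ(X.left, ⊤)) (t : X ⟶ T) (b : Γ(X.left, ⊤)) :
    (s ≫ i) * cell i pp pm a t b * (s ≫ i)⁻¹ =
      cell i pp pm ((((GmPts.unitOfPt (s ≫ α))⁻¹ : (Γ(X.left, ⊤))ˣ) : Γ(X.left, ⊤)) * a) t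
        ((GmPts.unitOfPt (s ≫ α) : Γ(X.left, ⊤)) * b) := by
  have hc : (s ≫ i) * (t ≫ i) * (s ≫ i)⁻¹ = t ≫ i := by
    rw [← GrpObj.inv_comp, ← MonObj.mul_comp, ← MonObj.mul_comp, torus_comm hT s t, mul_inv_cancel_right]
  rw [cell, show (s ≫ i) * (P pm a * (t ≫ i) * P pp b) * (s ≫ i)⁻¹ =
    ((s ≫ i) * P pm a * (s ≫ i)⁻¹) * ((s ≫ i) * (t ≫ i) * (s ≫ i)⁻¹) * ((s ≫ i) * P pp b * (s ≫ i)⁻¹) by
      simp [_root_.mul_assoc], conjM hpm, conjP hpp, hc, cell]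

omit [IsMonHom α] [IsMonHom pp] [IsMonHom pm] [IsMonHom p] in
include hp in
theorem hp' {X : Over S} (t : X ⟶ Q) (a : Γ(X.left, ⊤)) :
    P p ((GmPts.unitOfPt (t ≫ j ≫ α) : Γ(X.left, ⊤)) * a) =
      (((t ≫ j) ^ q) ≫ i) * P p a * (((t ≫ j) ^ q) ≫ i)⁻¹ := by
  have e : ((t ≫ j) ^ q) ≫ i = (t ≫ j ≫ i) ^ q := by
    rw [← Category.assoc]; exact map_pow (pushHom i X) (t ≫ j) q
  rw [e]
  exact hp X t (GaPts.ptOfFn a) (GaPts.ptOfFn _) (by rw [GaPts.gaFn_ptOfFn, GaPts.gaFn_ptOfFn, GmPts.val_unitOfPt])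

theorem unitOfPt_pow_comp {X : Over S} (s : X ⟶ T) (n : ℕ) :
    GmPts.unitOfPt ((s ^ n) ≫ α) = GmPts.unitOfPt (s ≫ α) ^ n := by
  rw [show (s ^ n) ≫ α = (s ≫ α) ^ n from map_pow (pushHom α X) s n]
  exact map_pow (GmPts.equiv X) (s ≫ α) n

include hT hQ hα hpp hpm hΩ hp in
/-- `p` lands in the cell. -/
theorem inCell_hom (X : Over S) (a : Γ(X.left, ⊤)) : InCell (i := i) (pp := pp) (pm := pm) (P p a) := by
  classical
  refine inCell_of_geom _ fun z => ?_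
  set K := AlgebraicClosure (X.left.residueField z)
  set x := Red.geomPt z ≫ X.hom
  rw [RankOne.comp_P]
  set a₀ := (geomHom z).left.appTop a
  obtain ⟨r, hr⟩ := (fn (R := K) x).surjective a₀
  rw [← hr]
  -- the open set of good values
  let φ := Spec.map (CommRingCat.ofHom (Polynomial.C : K →+* Polynomial K)) ≫ x
  let univ : sp φ ⟶ G := P p (fn φ Polynomial.X)
  let O : (sp φ).left.Opens := univ.left ⁻¹ᵁ (cellMap i pp pm).left.opensRange
  have hev : ∀ c : K, InCell (i := i) (pp := pp) (pm := pm) (P p (fn x c)) ↔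
      Spec.map (CommRingCat.ofHom (Polynomial.evalRingHom c)) (IsLocalRing.closedPoint K) ∈ O := by
    intro c
    have e : Spec.map (CommRingCat.ofHom (Polynomial.evalRingHom c)) ≫ φ = x := by
      rw [← Category.assoc, ← Spec.map_comp, ← CommRingCat.ofHom_comp, show
        (Polynomial.evalRingHom c).comp Polynomial.C = RingHom.id K from RingHom.ext fun _ => Polynomial.eval_C,
        CommRingCat.ofHom_id, Spec.map_id, Category.id_comp]
    let h : kPt x ⟶ sp φ := Over.homMk (Spec.map (CommRingCat.ofHom (Polynomial.evalRingHom c))) e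
    have he : h ≫ univ = P p (fn x c) := by
      simp only [univ, RankOne.comp_P]
      congr 1
      have := spMap_fn φ (Polynomial.evalRingHom c) Polynomial.X
      rw [Polynomial.coe_evalRingHom, Polynomial.eval_X] at this
      exact this
    rw [← he]
    constructor
    · exact fun hh => hh (IsLocalRing.closedPoint K)
    · intro hh q'
      rw [Subsingleton.elim (α := PrimeSpectrum K) q' (IsLocalRing.closedPoint K)]
      exact hh
  -- zero is a good value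
  have h0 : InCell (i := i) (pp := pp) (pm := pm) (P p (fn x (0 : K))) := by
    rw [map_zero, RankOne.P_zero, show (1 : kPt x ⟶ G) = cell i pp pm 0 1 0 by
      rw [cell, RankOne.P_zero, RankOne.P_zero, MonObj.one_comp, _root_.one_mul, _root_.one_mul]]
    exact inCell_cell _ _ _
  by_cases hr0 : r = 0
  · rw [hr0]; exact h0
  obtain ⟨_, ⟨h, rfl⟩, hz, hle⟩ := PrimeSpectrum.isTopologicalBasis_basic_opens.exists_subset_of_mem_open
    ((hev 0).1 h0) O.isOpen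
  have hgood : ∀ c : K, h.eval c ≠ 0 → InCell (i := i) (pp := pp) (pm := pm) (P p (fn x c)) := fun c hc =>
    (hev c).2 (hle (show h ∉ Ideal.comap (Polynomial.evalRingHom c) (IsLocalRing.maximalIdeal K) by
      rw [Ideal.mem_comap, IsLocalRing.mem_maximalIdeal, mem_nonunits_iff, isUnit_iff_ne_zero, not_not]
      exact hc))
  have hh0 : h ≠ 0 := by
    rintro rfl
    exact hz (Ideal.zero_mem _)
  -- some translate is a good value
  let N := h.natDegree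
  obtain ⟨X', e, t', ⟨-, hl, hs⟩, ht'⟩ := exists_cover_scalar hQ (j ≫ α) hα (N + 1).factorial (Nat.factorial_ne_zero _) (kPt x)
  haveI := hl
  haveI := hs
  obtain ⟨sec, -⟩ := exists_section e
  let t : kPt x ⟶ Q := sec ≫ t'
  let g : Kˣ := Units.map (fn (R := K) x).symm.toRingHom.toMonoidHom (GmPts.unitOfPt (t ≫ j ≫ α))
  have hg : g ^ (N + 1).factorial ≠ 1 := by
    intro hg
    have h1 := ((ht'.map sec.left.appTop.hom).map (fn (R := K) x).symm).ne_zero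
    refine h1 ?_
    simp only [map_sub, map_pow, map_one]
    rw [sub_eq_zero]
    have h2 := congrArg Units.val hg
    rw [Units.val_pow_eq_pow_val, Units.val_one] at h2
    convert h2 using 2
    simp only [g, t, Category.assoc, GmPts.unitOfPt_comp sec (t' ≫ j ≫ α)]
    rfl
  obtain ⟨k, hk⟩ : ∃ k : ℕ, h.eval ((g : K) ^ k * r) ≠ 0 := by
    by_contra hc
    push_neg at hc
    have hmaps : ∀ k ∈ Finset.range (N + 1), (g : K) ^ k * r ∈ h.roots.toFinset := fun k _ => by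
      rw [Multiset.mem_toFinset, Polynomial.mem_roots hh0]; exact hc k
    have hcard : h.roots.toFinset.card < (Finset.range (N + 1)).card := by
      rw [Finset.card_range]
      exact Nat.lt_succ_of_le ((Multiset.toFinset_card_le _).trans (Polynomial.card_roots' h))
    obtain ⟨k, hk, l, hl, hne, heq⟩ := Finset.exists_ne_map_eq_of_card_lt_of_maps_to hcard hmaps
    rw [Finset.mem_range] at hk hl
    have heq' : g ^ k = g ^ l := Units.ext (by
      simpa only [Units.val_pow_eq_pow_val] using mul_right_cancel₀ hr0 heq)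
    refine hg ?_
    rcases lt_or_gt_of_ne hne with hlt | hlt
    · have hd : g ^ (l - k) = 1 := by
        rw [pow_sub g hlt.le, heq', mul_inv_cancel]
      obtain ⟨w, hw⟩ := Nat.dvd_factorial (Nat.sub_pos_of_lt hlt) (show l - k ≤ N + 1 by omega)
      rw [hw, pow_mul, hd, one_pow]
    · have hd : g ^ (k - l) = 1 := by
        rw [pow_sub g hlt.le, heq', mul_inv_cancel]
      obtain ⟨w, hw⟩ := Nat.dvd_factorial (Nat.sub_pos_of_lt hlt) (show k - l ≤ N + 1 by omega)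
      rw [hw, pow_mul, hd, one_pow]
  -- move back
  obtain ⟨a', s, b', hab⟩ := exists_cell hΩ _ (hgood _ hk)
  have hgk : fn x ((g : K) ^ k * r) = (GmPts.unitOfPt ((t ^ k) ≫ j ≫ α) : Γ((kPt x).left, ⊤)) * fn x r := by
    rw [map_mul, map_pow]
    congr 1
    rw [show (t ^ k) ≫ j ≫ α = (t ≫ j ≫ α) ^ k from map_pow (pushHom (j ≫ α) (kPt x)) t k]
    rw [show GmPts.unitOfPt ((t ≫ j ≫ α) ^ k) = GmPts.unitOfPt (t ≫ j ≫ α) ^ k from map_pow (GmPts.equiv _) _ k,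
      Units.val_pow_eq_pow_val]
    congr 1
    exact (fn (R := K) x).apply_symm_apply _
  rw [hgk, hp' hp] at hab
  have hfin : P p (fn x r) = ((((t ^ k) ≫ j) ^ q)⁻¹ ≫ i) * cell i pp pm a' s b' *
      (((((t ^ k) ≫ j) ^ q)⁻¹ ≫ i))⁻¹ := by
    rw [← hab, GrpObj.inv_comp]
    simp [_root_.mul_assoc]
  rw [hfin, conj_cell hT hpp hpm]
  exact inCell_cell _ _ _

include hT hQ hα hpp hpm hΩ hp in
/-- `p` is `x ↦ p₊(ν x^q)`. -/
theorem exists_coeff : ∃ ν : ∀ X : Over S, Γ(X.left, ⊤),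
    (∀ (X X' : Over S) (g : X' ⟶ X), g.left.appTop (ν X) = ν X') ∧
      ∀ (X : Over S) (a : Γ(X.left, ⊤)), P p a = P pp (ν X * a ^ q) := by
  choose A' Tt B hdec using fun (X : Over S) (a : Γ(X.left, ⊤)) =>
    exists_cell hΩ _ (inCell_hom hT hQ hα hpp hpm hΩ hp X a)
  have hnat : ∀ (X X' : Over S) (g : X' ⟶ X) (a : Γ(X.left, ⊤)),
      g.left.appTop (A' X a) = A' X' (g.left.appTop a) ∧ g ≫ Tt X a = Tt X' (g.left.appTop a) ∧
        g.left.appTop (B X a) = B X' (g.left.appTop a) := fun X X' g a => by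
    have h := congrArg (g ≫ ·) (hdec X a)
    simp only [RankOne.comp_P, comp_cell] at h
    rw [hdec] at h
    exact cell_inj hΩ h.symm
  have hscale : ∀ (X : Over S) (t : X ⟶ Q) (a : Γ(X.left, ⊤)),
      A' X ((GmPts.unitOfPt (t ≫ j ≫ α) : Γ(X.left, ⊤)) * a) =
        ((GmPts.unitOfPt (t ≫ j ≫ α) ^ (-(q : ℤ)) : (Γ(X.left, ⊤))ˣ) : Γ(X.left, ⊤)) * A' X a ∧
      Tt X ((GmPts.unitOfPt (t ≫ j ≫ α) : Γ(X.left, ⊤)) * a) = Tt X a ∧
      B X ((GmPts.unitOfPt (t ≫ j ≫ α) : Γ(X.left, ⊤)) * a) =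
        ((GmPts.unitOfPt (t ≫ j ≫ α) ^ (q : ℤ) : (Γ(X.left, ⊤))ˣ) : Γ(X.left, ⊤)) * B X a := fun X t a => by
    have h := hp' hp t a
    rw [hdec, hdec, conj_cell hT hpp hpm, unitOfPt_pow_comp, Category.assoc] at h
    obtain ⟨h1, h2, h3⟩ := cell_inj hΩ h
    rw [zpow_neg, zpow_natCast]
    exact ⟨h1, h2, h3⟩
  have hzero : ∀ X : Over S, A' X 0 = 0 ∧ Tt X 0 = 1 ∧ B X 0 = 0 := fun X => by
    have h := hdec X 0
    rw [RankOne.P_zero, show (1 : X ⟶ G) = cell i pp pm 0 1 0 by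
      rw [cell, RankOne.P_zero, RankOne.P_zero, MonObj.one_comp, _root_.one_mul, _root_.one_mul]] at h
    obtain ⟨h1, h2, h3⟩ := cell_inj hΩ h.symm
    exact ⟨h1, h2, h3⟩
  have hA : ∀ (X : Over S) (a : Γ(X.left, ⊤)), A' X a = 0 := fun X a => by
    rcases Nat.eq_zero_or_pos q with h0 | h0
    · have hm : ∀ b, A' X b = A' X 1 * b ^ 0 :=
        monomial_of_weight A' (fun X X' g a => (hnat X X' g a).1) hQ (j ≫ α) hα 0
          (fun X t a => by have h := (hscale X t a).1; rwa [h0, Nat.cast_zero, neg_zero] at h) 0 rfl X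
      have h00 := hm 0
      rw [(hzero X).1, pow_zero, _root_.mul_one] at h00
      rw [hm a, pow_zero, _root_.mul_one, ← h00]
    · exact eq_zero_of_weight A' (fun X X' g a => (hnat X X' g a).1) hQ (j ≫ α) hα (-(q : ℤ))
        (fun X t a => (hscale X t a).1) (by omega) X a
  have hB : ∀ (X : Over S) (a : Γ(X.left, ⊤)), B X a = B X 1 * a ^ q :=
    monomial_of_weight B (fun X X' g a => (hnat X X' g a).2.2) hQ (j ≫ α) hα q (fun X t a => (hscale X t a).2.2) q rfl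
  have hdec' : ∀ (X : Over S) (a : Γ(X.left, ⊤)), P p a = (Tt X a ≫ i) * P pp (B X a) := fun X a => by
    rw [hdec, cell, hA, RankOne.P_zero, _root_.one_mul]
  have hmulT : ∀ (X : Over S) (a b : Γ(X.left, ⊤)), Tt X (a + b) = Tt X a * Tt X b := fun X a b => by
    have h : cell i pp pm 0 (Tt X (a + b)) (B X (a + b)) = cell i pp pm 0 (Tt X a * Tt X b)
        ((((GmPts.unitOfPt (Tt X b ≫ α))⁻¹ : (Γ(X.left, ⊤))ˣ) : Γ(X.left, ⊤)) * B X a + B X b) := by
      have e : ∀ (t : X ⟶ T) c, cell i pp pm 0 t c = (t ≫ i) * P pp c := fun t c => by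
        rw [cell, RankOne.P_zero, _root_.one_mul]
      rw [e, e, ← hdec', RankOne.P_add (f := p), hdec', hdec', RankOne.P_add, MonObj.mul_comp,
        show (((GmPts.unitOfPt (Tt X b ≫ α))⁻¹ : (Γ(X.left, ⊤))ˣ)) = GmPts.unitOfPt ((Tt X b)⁻¹ ≫ α) by
          rw [show (Tt X b)⁻¹ ≫ α = (Tt X b ≫ α)⁻¹ from map_inv (pushHom α X) _, GmPts.unitOfPt_inv],
        ← conjP hpp, show (Tt X b)⁻¹ ≫ i = (Tt X b ≫ i)⁻¹ from map_inv (pushHom i X) _]
      simp [_root_.mul_assoc]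
    exact (cell_inj hΩ h).2.1
  have hTt : ∀ (X : Over S) (a : Γ(X.left, ⊤)), Tt X a = 1 := fun X a => by
    obtain ⟨X', e, t, ⟨he, -, -⟩, ht⟩ := exists_cover_scalar hQ (j ≫ α) hα 1 one_ne_zero X
    haveI := he
    rw [← cancel_epi e, (hnat X X' e a).2.1, MonObj.comp_one]
    rw [pow_one] at ht
    obtain ⟨w, hw⟩ := ht
    have h1 := (hscale X' t ((((w⁻¹ : (Γ(X'.left, ⊤))ˣ)) : Γ(X'.left, ⊤)) * e.left.appTop a)).2.1
    set c := (((w⁻¹ : (Γ(X'.left, ⊤))ˣ)) : Γ(X'.left, ⊤)) * e.left.appTop a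
    have h2 : (GmPts.unitOfPt (t ≫ j ≫ α) : Γ(X'.left, ⊤)) * c = e.left.appTop a + c := by
      have hwv : (GmPts.unitOfPt (t ≫ j ≫ α) : Γ(X'.left, ⊤)) = (w : Γ(X'.left, ⊤)) + 1 := by rw [hw]; ring
      rw [hwv, add_mul, _root_.one_mul, Units.mul_inv_cancel_left]
    rw [h2, hmulT] at h1
    exact mul_eq_right.1 h1
  refine ⟨fun X => B X 1, fun X X' g => by rw [(hnat X X' g 1).2.2, map_one], fun X a => ?_⟩
  rw [hdec', hTt, MonObj.one_comp, _root_.one_mul, hB]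

end Groth.Agent.RankOne16
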