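import Groth.Agent.Lib.RankOne.Braid
import Mathlib.Tactic.ComputeDegree

/-!
# Faithfully flat covers adjoining roots of monic polynomials in global functions
-/

universe u

open CategoryTheory CategoryTheory.Limits AlgebraicGeometry Polynomial

set_option linter.style.haveILetI false
set_option backward.isDefEq.respectTransparency false
set_option backward.isDefEq.respectTransparency.types false

noncomputable section

namespace Groth.Agent.RankOne16

variable {S : Scheme.{u}}

/-- A root of a monic polynomial exists after a faithfully flat cover. -/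
theorem exists_root_cover (X : Over S) (f : Polynomial Γ(X.left, ⊤)) (hf : f.Monic) (hd : f.natDegree ≠ 0) :
    ∃ (X' : Over S) (g : X' ⟶ X) (r : Γ(X'.left, ⊤)), Epi g ∧ f.eval₂ g.left.appTop.hom r = 0 := by
  by_cases hs : Subsingleton Γ(X.left, ⊤)
  · exact ⟨X, 𝟙 X, 0, inferInstance, @Subsingleton.elim _ hs _ _⟩
  rw [not_subsingleton_iff_nontrivial] at hs
  let A : Type u := Γ(X.left, ⊤)
  haveI : Nontrivial (AdjoinRoot f) :=
    let b := (AdjoinRoot.powerBasis' hf).basis
    nontrivial_of_ne _ _ (b.ne_zero ⟨0, by rw [AdjoinRoot.powerBasis'_dim]; exact Nat.pos_of_ne_zero hd⟩)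
  haveI : Module.Free A (AdjoinRoot f) := hf.free_adjoinRoot
  haveI : Module.FaithfullyFlat A (AdjoinRoot f) := inferInstance
  have hff : (algebraMap A (AdjoinRoot f)).FaithfullyFlat :=
    RingHom.faithfullyFlat_algebraMap_iff.mpr ‹Module.FaithfullyFlat A (AdjoinRoot f)›
  let c := Spec.map (CommRingCat.ofHom (algebraMap A (AdjoinRoot f)))
  obtain ⟨hflat, hsurj⟩ := RingHom.FaithfullyFlat.iff_flat_and_comap_surjective.mp hff
  haveI : Flat c := (HasRingHomProperty.Spec_iff (P := @Flat)).mpr hflat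
  haveI : Surjective c := (surjective_iff c).mpr hsurj
  let c' : Spec (CommRingCat.of (AdjoinRoot f)) ⟶ Spec Γ(X.left, ⊤) := c
  haveI : Flat c' := ‹Flat c›
  haveI : Surjective c' := ‹Surjective c›
  haveI : Epi (pullback.fst X.left.toSpecΓ c') := Flat.epi_of_flat_of_surjective _
  let X' : Over S := Over.mk (pullback.fst X.left.toSpecΓ c' ≫ X.hom)
  let g : X' ⟶ X := Over.homMk (pullback.fst X.left.toSpecΓ c')
  haveI : Epi g.left := ‹Epi (pullback.fst X.left.toSpecΓ c')›
  let φ : AdjoinRoot f →+* Γ(X'.left, ⊤) :=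
    ((Scheme.ΓSpecIso (CommRingCat.of (AdjoinRoot f))).inv ≫ (pullback.snd X.left.toSpecΓ c').appTop).hom
  have hφ : φ.comp (algebraMap A (AdjoinRoot f)) = g.left.appTop.hom := by
    have h1 : CommRingCat.ofHom (algebraMap A (AdjoinRoot f)) ≫ (Scheme.ΓSpecIso (CommRingCat.of (AdjoinRoot f))).inv =
        (Scheme.ΓSpecIso Γ(X.left, ⊤)).inv ≫ c'.appTop :=
      Scheme.ΓSpecIso_inv_naturality (CommRingCat.ofHom (algebraMap A (AdjoinRoot f)))
    have h2 : (Scheme.ΓSpecIso Γ(X.left, ⊤)).inv ≫ X.left.toSpecΓ.appTop = 𝟙 _ := by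
      rw [Scheme.toSpecΓ_appTop, Iso.inv_hom_id]
    have h3 : CommRingCat.ofHom (algebraMap A (AdjoinRoot f)) ≫
        ((Scheme.ΓSpecIso (CommRingCat.of (AdjoinRoot f))).inv ≫ (pullback.snd X.left.toSpecΓ c').appTop) =
        g.left.appTop := by
      rw [reassoc_of% h1, ← Scheme.Hom.comp_appTop, ← pullback.condition, Scheme.Hom.comp_appTop,
        reassoc_of% h2]
      rfl
    exact congrArg CommRingCat.Hom.hom h3
  refine ⟨X', g, φ (AdjoinRoot.root f), Over.epi_of_epi_left _, ?_⟩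
  have h0 := congrArg φ (AdjoinRoot.eval₂_root f)
  rw [map_zero, Polynomial.hom_eval₂, show φ.comp (AdjoinRoot.of f) = g.left.appTop.hom from hφ] at h0
  exact h0

/-- Every function is a sum of two units after a cover. -/
theorem exists_cover_two_units (X : Over S) (a : Γ(X.left, ⊤)) :
    ∃ (X' : Over S) (g : X' ⟶ X) (u v : (Γ(X'.left, ⊤))ˣ), Epi g ∧ g.left.appTop a = (u : Γ(X'.left, ⊤)) + v := by
  by_cases hs : Subsingleton Γ(X.left, ⊤)
  · exact ⟨X, 𝟙 X, 1, 1, inferInstance, @Subsingleton.elim _ hs _ _⟩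
  rw [not_subsingleton_iff_nontrivial] at hs
  obtain ⟨X', g, r, hg, hr⟩ := exists_root_cover X (Polynomial.X ^ 2 - C a * Polynomial.X + 1)
    (by monicity!) (by
      rw [show (Polynomial.X ^ 2 - C a * Polynomial.X + 1 : Polynomial Γ(X.left, ⊤)).natDegree = 2 by
        compute_degree!]
      decide)
  simp only [eval₂_add, eval₂_sub, eval₂_X_pow, eval₂_mul, eval₂_C, eval₂_X, eval₂_one] at hr
  have hr' : r * (g.left.appTop.hom a - r) = 1 := by linear_combination -hr
  refine ⟨X', g, ⟨r, _, hr', by rw [mul_comm, hr']⟩, ⟨g.left.appTop.hom a - r, r, by rw [mul_comm, hr'], hr'⟩,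
    hg, ?_⟩
  show g.left.appTop.hom a = r + (g.left.appTop.hom a - r)
  ring

/-- There is, after a cover, a unit `v` with `v ^ m - 1` invertible. -/
theorem exists_cover_unit_pow_sub_one (X : Over S) (m : ℕ) (hm : m ≠ 0) :
    ∃ (X' : Over S) (g : X' ⟶ X) (v : (Γ(X'.left, ⊤))ˣ), Epi g ∧ IsUnit ((v : Γ(X'.left, ⊤)) ^ m - 1) := by
  by_cases hs : Subsingleton Γ(X.left, ⊤)
  · exact ⟨X, 𝟙 X, 1, inferInstance, @isUnit_of_subsingleton _ _ hs _⟩
  rw [not_subsingleton_iff_nontrivial] at hs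
  have hd : ((Polynomial.X ^ (m + 1) : Polynomial Γ(X.left, ⊤)) - (Polynomial.X + 1)).natDegree = m + 1 := by
    have h : (Polynomial.X + 1 : Polynomial Γ(X.left, ⊤)).natDegree < m + 1 := by
      refine lt_of_le_of_lt (natDegree_add_le _ _) ?_
      simp only [natDegree_X, natDegree_one]; omega
    rw [natDegree_sub_eq_left_of_natDegree_lt (by rwa [natDegree_X_pow]), natDegree_X_pow]
  obtain ⟨X', g, r, hg, hr⟩ := exists_root_cover X (Polynomial.X ^ (m + 1) - (Polynomial.X + 1))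
    (monic_X_pow_sub (lt_of_le_of_lt (degree_add_le _ _) (by
      simp only [degree_X, degree_one]
      exact max_lt (by exact_mod_cast Nat.succ_lt_succ (Nat.pos_of_ne_zero hm)) (by exact_mod_cast Nat.succ_pos m))))
    (by rw [hd]; omega)
  simp only [eval₂_sub, eval₂_X_pow, eval₂_add, eval₂_X, eval₂_one] at hr
  have hr' : r * (r ^ m - 1) = 1 := by linear_combination hr
  exact ⟨X', g, ⟨r, _, hr', by rw [mul_comm, hr']⟩, hg, isUnit_iff_exists_inv.2 ⟨r, by rw [mul_comm]; exact hr'⟩⟩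

/-- Unit with an invertible integral-power difference from one. -/
theorem exists_cover_zpow_sub_one (X : Over S) (n : ℤ) (hn : n ≠ 0) :
    ∃ (X' : Over S) (g : X' ⟶ X) (v : (Γ(X'.left, ⊤))ˣ), Epi g ∧
      IsUnit (((v ^ n : (Γ(X'.left, ⊤))ˣ) : Γ(X'.left, ⊤)) - 1) := by
  obtain ⟨X', g, v, hg, hv⟩ := exists_cover_unit_pow_sub_one X n.natAbs (Int.natAbs_ne_zero.2 hn)
  rcases Int.natAbs_eq n with h | h
  · refine ⟨X', g, v, hg, ?_⟩
    rw [h, zpow_natCast, Units.val_pow_eq_pow_val]; exact hv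
  · refine ⟨X', g, v⁻¹, hg, ?_⟩
    rw [h, zpow_neg, inv_zpow, inv_inv, zpow_natCast, Units.val_pow_eq_pow_val]; exact hv

end Groth.Agent.RankOne16
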