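import Groth.Agent.Lib.RankOne16.Cover
import Groth.Agent.Lib.GrpNeutral20.Div
import Groth.Agent.Lib.PureSmooth29.Subgroup
import Groth.Agent.Lib.GrpNeutral20.Cons

/-!
# A smooth group with connected fibres is generated by a big cell
-/

universe u

open CategoryTheory CategoryTheory.Limits MonoidalCategory CartesianMonoidalCategory MonObj AlgebraicGeometry

set_option linter.style.haveILetI false
set_option backward.isDefEq.respectTransparency false
set_option backward.isDefEq.respectTransparency.types false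

noncomputable section

namespace Groth.Agent.RankOne16

open RankOne (P)

variable {S : Scheme.{u}}

/-- smooth with connected fibres -/
structure Rig (G : Over S) [GrpObj G] : Prop where
  smooth : Smooth G.hom
  neutral : SGA3x.neutralSet G = Set.univ

theorem connectedSpace_fibre_of_geomFibre (G : Over S) (s : S) (h : ConnectedSpace (Red.geomFibre s G).left) :
    ConnectedSpace ↥(pullback G.hom (S.fromSpecResidueField s)) := by
  let K := AlgebraicClosure (S.residueField s)
  let φ : Spec (CommRingCat.of K) ⟶ Spec (S.residueField s) :=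
    Spec.map (CommRingCat.ofHom (algebraMap (S.residueField s) K))
  haveI : Surjective φ :=
    ⟨fun x => ⟨IsLocalRing.closedPoint K, Subsingleton.elim (α := PrimeSpectrum (S.residueField s)) _ _⟩⟩
  let π : (Red.geomFibre s G).left ⟶ pullback G.hom (S.fromSpecResidueField s) :=
    pullback.map G.hom (φ ≫ S.fromSpecResidueField s) G.hom (S.fromSpecResidueField s) (𝟙 _) φ (𝟙 _)
      (by simp) (by simp)
  haveI : Surjective π := by
    have : π = (pullbackLeftPullbackSndIso G.hom (S.fromSpecResidueField s) φ).inv ≫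
        pullback.fst (pullback.snd G.hom (S.fromSpecResidueField s)) φ := by
      apply pullback.hom_ext <;> simp [π, pullback.condition]
    rw [this]
    infer_instance
  haveI := h
  exact π.surjective.connectedSpace π.continuous

theorem Rig.of_isReductive {G : Over S} [GrpObj G] (hG : Red.IsReductive G) : Rig G :=
  ⟨hG.2.1, PureSmooth29.neutralSet_eq_univ fun s => connectedSpace_fibre_of_geomFibre G s (hG.2.2 s).2.2.1⟩

/-- Every point is locally a quotient of two points of a neighbourhood of the unit section. -/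
theorem exists_cover_div {G : Over S} [GrpObj G] (hG : Rig G) (U : G.left.Opens)
    (hU : ∀ s : S, η[G].left s ∈ U) {X : Over S} (g : X ⟶ G) :
    ∃ (X' : Over S) (e : X' ⟶ X) (a b : X' ⟶ G), Epi e ∧ LocallyOfFiniteType e.left ∧ Surjective e.left ∧
      (∀ p, a.left p ∈ U) ∧ (∀ p, b.left p ∈ U) ∧ e ≫ g = a * b⁻¹ := by
  haveI := hG.smooth
  let W : (G ⊗ G).left.Opens := ((fst G G).left ⁻¹ᵁ U) ⊓ ((snd G G).left ⁻¹ᵁ U)
  let D : G ⊗ G ⟶ G := fst G G * (snd G G)⁻¹
  let sh : G ⊗ G ≅ G ⊗ G :=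
    { hom := lift (fst G G * (snd G G)⁻¹) (snd G G)
      inv := lift (fst G G * snd G G) (snd G G)
      hom_inv_id := by apply CartesianMonoidalCategory.hom_ext <;> simp [MonObj.comp_mul, GrpObj.comp_inv]
      inv_hom_id := by apply CartesianMonoidalCategory.hom_ext <;> simp [MonObj.comp_mul, GrpObj.comp_inv] }
  have hD : D = sh.hom ≫ fst G G := (lift_fst _ _).symm
  haveI : IsIso sh.hom.left := ((Over.forget _).mapIso sh).isIso_hom
  haveI : Smooth (fst G G).left := inferInstanceAs (Smooth (pullback.fst G.hom G.hom))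
  haveI : Smooth D.left := by rw [hD, Over.comp_left]; infer_instance
  haveI : Flat (W.ι ≫ D.left) := inferInstance
  haveI : LocallyOfFiniteType (W.ι ≫ D.left) := inferInstance
  haveI : Surjective (W.ι ≫ D.left) := ⟨fun x => by
    obtain ⟨z, h1, h2, h3, -⟩ := GrpNeutral20.exists_div G (fun s => GrpNeutral20.lft_fibres G s) (x := x)
      (by rw [hG.neutral]; trivial) U (hU _)
    refine ⟨⟨z, ⟨h1, h2⟩⟩, ?_⟩
    rw [Scheme.Hom.comp_apply, ← h3]
    congr 2⟩
  let P := pullback g.left (W.ι ≫ D.left)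
  haveI : Flat (pullback.fst g.left (W.ι ≫ D.left)) := MorphismProperty.pullback_fst _ _ inferInstance
  haveI : Surjective (pullback.fst g.left (W.ι ≫ D.left)) := MorphismProperty.pullback_fst _ _ inferInstance
  haveI : Epi (pullback.fst g.left (W.ι ≫ D.left)) := Flat.epi_of_flat_of_surjective _
  let X' : Over S := Over.mk (pullback.fst g.left (W.ι ≫ D.left) ≫ X.hom)
  let e : X' ⟶ X := Over.homMk (pullback.fst g.left (W.ι ≫ D.left))
  haveI : Epi e.left := ‹Epi (pullback.fst g.left (W.ι ≫ D.left))›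
  let q : X' ⟶ G ⊗ G := Over.homMk (pullback.snd g.left (W.ι ≫ D.left) ≫ W.ι) (by
    show (pullback.snd g.left (W.ι ≫ D.left) ≫ W.ι) ≫ (G ⊗ G).hom = _
    rw [← Over.w D, ← Category.assoc, Category.assoc (pullback.snd g.left (W.ι ≫ D.left)),
      ← pullback.condition, Category.assoc, Over.w g]
    rfl)
  refine ⟨X', e, q ≫ fst G G, q ≫ snd G G, Over.epi_of_epi_left _,
    MorphismProperty.pullback_fst _ _ ‹LocallyOfFiniteType (W.ι ≫ D.left)›,
    ‹Surjective (pullback.fst g.left (W.ι ≫ D.left))›, fun p => ?_, fun p => ?_, ?_⟩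
  · exact (pullback.snd g.left (W.ι ≫ D.left) p).2.1
  · exact (pullback.snd g.left (W.ι ≫ D.left) p).2.2
  · rw [show q ≫ fst G G * (q ≫ snd G G)⁻¹ = q ≫ D by rw [MonObj.comp_mul, GrpObj.comp_inv]]
    apply Over.OverMorphism.ext
    simp only [Over.comp_left, e, q, Over.homMk_left, Category.assoc]
    exact pullback.condition

/-! ### the cell -/

variable {G T : Over S} [GrpObj G] [GrpObj T] (i : T ⟶ G) (pp pm : Red.Ga S ⟶ G)

/-- the cell map -/
abbrev cellMap : (Red.Ga S ⊗ T) ⊗ Red.Ga S ⟶ G := ((pm ⊗ₘ i) ⊗ₘ pp) ≫ (μ[G] ▷ G) ≫ μ[G]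

variable {X : Over S}

/-- A point of the cell -/
def cell (a : Γ(X.left, ⊤)) (t : X ⟶ T) (b : Γ(X.left, ⊤)) : X ⟶ G := P pm a * (t ≫ i) * P pp b

omit [GrpObj T] in
theorem lift_cellMap (y : X ⟶ Red.Ga S) (t : X ⟶ T) (x : X ⟶ Red.Ga S) :
    lift (lift y t) x ≫ cellMap i pp pm = (y ≫ pm) * (t ≫ i) * (x ≫ pp) := by
  simp only [cellMap, lift_map_assoc, lift_whiskerRight_assoc, lift_map, Hom.mul_def]

omit [GrpObj T] in
theorem cell_eq (a : Γ(X.left, ⊤)) (t : X ⟶ T) (b : Γ(X.left, ⊤)) :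
    cell i pp pm a t b = lift (lift (GaPts.ptOfFn a) t) (GaPts.ptOfFn b) ≫ cellMap i pp pm := by
  rw [lift_cellMap, cell, RankOne.P, RankOne.P]

variable {i pp pm} (hΩ : IsOpenImmersion (cellMap i pp pm).left)

include hΩ in
omit [GrpObj T] in
theorem cell_inj {a a' b b' : Γ(X.left, ⊤)} {t t' : X ⟶ T}
    (h : cell i pp pm a t b = cell i pp pm a' t' b') : a = a' ∧ t = t' ∧ b = b' := by
  haveI := hΩ
  haveI : Mono (cellMap i pp pm) := Over.mono_of_mono_left _
  rw [cell_eq, cell_eq, cancel_mono] at h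
  have h1 := congrArg (fun z => z ≫ fst _ _ ≫ fst _ _) h
  have h2 := congrArg (fun z => z ≫ fst _ _ ≫ snd _ _) h
  have h3 := congrArg (fun z => z ≫ snd _ _) h
  simp only [lift_fst_assoc, lift_snd_assoc, lift_fst, lift_snd] at h1 h2 h3
  have e1 := congrArg Red.gaFn h1
  have e3 := congrArg Red.gaFn h3
  rw [GaPts.gaFn_ptOfFn, GaPts.gaFn_ptOfFn] at e1 e3
  exact ⟨e1, h2, e3⟩

/-- The point lands in the cell. -/
def InCell (g : X ⟶ G) : Prop := ∀ p, g.left p ∈ Set.range (cellMap i pp pm).left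

include hΩ in
omit [GrpObj T] in
theorem exists_cell (g : X ⟶ G) (h : InCell (i := i) (pp := pp) (pm := pm) g) :
    ∃ a t b, g = cell i pp pm a t b := by
  haveI := hΩ
  let l := IsOpenImmersion.lift (cellMap i pp pm).left g.left (by rintro _ ⟨p, rfl⟩; exact h p)
  let z : X ⟶ (Red.Ga S ⊗ T) ⊗ Red.Ga S := Over.homMk l (by
    rw [← Over.w (cellMap i pp pm), ← Category.assoc, IsOpenImmersion.lift_fac, Over.w g])
  have hz : z ≫ cellMap i pp pm = g := Over.OverMorphism.ext (by
    rw [Over.comp_left]; exact IsOpenImmersion.lift_fac _ _ _)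
  refine ⟨Red.gaFn (z ≫ fst _ _ ≫ fst _ _), z ≫ fst _ _ ≫ snd _ _, Red.gaFn (z ≫ snd _ _), ?_⟩
  rw [cell, ← RankOne.comp_eq_P, ← RankOne.comp_eq_P, ← lift_cellMap, ← hz]
  congr 1
  apply CartesianMonoidalCategory.hom_ext
  · apply CartesianMonoidalCategory.hom_ext <;> simp
  · simp

omit [GrpObj T] in
theorem inCell_cell (a : Γ(X.left, ⊤)) (t : X ⟶ T) (b : Γ(X.left, ⊤)) :
    InCell (i := i) (pp := pp) (pm := pm) (cell i pp pm a t b) := fun p => by
  rw [cell_eq]
  exact ⟨(lift (lift (GaPts.ptOfFn a) t) (GaPts.ptOfFn b)).left p,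
    by rw [← Scheme.Hom.comp_apply, ← Over.comp_left]⟩

theorem unit_mem_cell [IsMonHom i] [IsMonHom pp] [IsMonHom pm] (s : S) :
    η[G].left s ∈ Set.range (cellMap i pp pm).left := by
  have h : cell i pp pm (X := 𝟙_ (Over S)) 0 1 0 = η[G] := by
    rw [cell, RankOne.P_zero, RankOne.P_zero, MonObj.one_comp, _root_.one_mul, _root_.one_mul, Hom.one_def]
    simp
  rw [← h]
  exact inCell_cell (X := 𝟙_ (Over S)) _ _ _ s

include hΩ in
/-- Every point is locally a quotient of two cell points. -/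
theorem exists_cover_cells [IsMonHom i] [IsMonHom pp] [IsMonHom pm] (hG : Rig G) (g : X ⟶ G) :
    ∃ (X' : Over S) (e : X' ⟶ X) (a b a' b' : Γ(X'.left, ⊤)) (t t' : X' ⟶ T),
      (Epi e ∧ LocallyOfFiniteType e.left ∧ Surjective e.left) ∧
      e ≫ g = cell i pp pm a t b * (cell i pp pm a' t' b')⁻¹ := by
  haveI := hΩ
  obtain ⟨X', e, u, v, he, hl, hs, hu, hv, h⟩ := exists_cover_div hG (cellMap i pp pm).left.opensRange unit_mem_cell g
  obtain ⟨a, t, b, rfl⟩ := exists_cell hΩ u hu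
  obtain ⟨a', t', b', rfl⟩ := exists_cell hΩ v hv
  exact ⟨X', e, a, b, a', b', t, t', ⟨he, hl, hs⟩, h⟩

include hΩ in
/-- A point commuting with the generators is central. -/
theorem commute_of_gens [IsMonHom i] [IsMonHom pp] [IsMonHom pm] (hG : Rig G) (g : X ⟶ G)
    (hT : ∀ (X' : Over S) (x : X' ⟶ X) (t : X' ⟶ T), Commute (x ≫ g) (t ≫ i))
    (hp : ∀ (X' : Over S) (x : X' ⟶ X) (a : Γ(X'.left, ⊤)), Commute (x ≫ g) (P pp a))
    (hm : ∀ (X' : Over S) (x : X' ⟶ X) (a : Γ(X'.left, ⊤)), Commute (x ≫ g) (P pm a))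
    (X' : Over S) (x : X' ⟶ X) (k : X' ⟶ G) : (x ≫ g) * k = k * (x ≫ g) := by
  obtain ⟨X'', e, a, b, a', b', t, t', ⟨he, -, -⟩, h⟩ := exists_cover_cells hΩ hG k
  haveI := he
  rw [← cancel_epi e, MonObj.comp_mul, MonObj.comp_mul, h, ← Category.assoc]
  have hc : ∀ a t b, Commute ((e ≫ x) ≫ g) (cell i pp pm a t b) := fun a t b =>
    ((hm _ _ a).mul_right (hT _ _ t)).mul_right (hp _ _ b)
  exact (hc a t b).mul_right (hc a' t' b').inv_right

include hΩ in
/-- Two homomorphisms agreeing on the generators are equal. -/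
theorem hom_ext_gens [IsMonHom i] [IsMonHom pp] [IsMonHom pm] (hG : Rig G) {H : Over S} [GrpObj H]
    (f f' : G ⟶ H) [IsMonHom f] [IsMonHom f'] (hi : i ≫ f = i ≫ f') (hp : pp ≫ f = pp ≫ f')
    (hm : pm ≫ f = pm ≫ f') : f = f' := by
  obtain ⟨X', e, a, b, a', b', t, t', ⟨he, -, -⟩, h⟩ := exists_cover_cells hΩ hG (𝟙 G)
  haveI := he
  rw [Category.comp_id] at h
  have hc : ∀ a t b, cell (X := X') i pp pm a t b ≫ f = cell i pp pm a t b ≫ f' := fun a t b => by
    simp only [cell, RankOne.P, MonObj.mul_comp, Category.assoc, hi, hp, hm]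
  rw [← cancel_epi e, h, MonObj.mul_comp, MonObj.mul_comp, GrpObj.inv_comp, GrpObj.inv_comp, hc, hc]

end Groth.Agent.RankOne16
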