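import Groth.Agent.Lib.RankOne16.Centr

/-!
# Homomorphisms between two rank one data
-/

universe u

open CategoryTheory CategoryTheory.Limits MonoidalCategory CartesianMonoidalCategory MonObj AlgebraicGeometry

set_option linter.style.haveILetI false
set_option backward.isDefEq.respectTransparency false
set_option backward.isDefEq.respectTransparency.types false

noncomputable section

namespace Groth.Agent.RankOne16

open RankOne (P A w Datum)

variable {S : Scheme.{u}}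

/-- the unit given by a global point of `Gm` -/
def cU (c : 𝟙_ (Over S) ⟶ Red.Gm S) (X : Over S) : (Γ(X.left, ⊤))ˣ := GmPts.unitOfPt (toUnit X ≫ c)

theorem val_cU (c : 𝟙_ (Over S) ⟶ Red.Gm S) (X : Over S) :
    (cU c X : Γ(X.left, ⊤)) = Red.gmFn (toUnit X ≫ c) := GmPts.val_unitOfPt _

variable {G T G' T' : Over S} [GrpObj G] [GrpObj T] [GrpObj G'] [GrpObj T']
variable {i : T ⟶ G} {α : T ⟶ Red.Gm S} {pp pm : Red.Ga S ⟶ G} {av : Red.Gm S ⟶ T}
variable {i' : T' ⟶ G'} {α' : T' ⟶ Red.Gm S} {pp' pm' : Red.Ga S ⟶ G'} {av' : Red.Gm S ⟶ T'}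
variable (f : G ⟶ G') (c : 𝟙_ (Over S) ⟶ Red.Gm S) (q : ℕ)

/-- `f` on the positive root group -/
def CompatP (pp : Red.Ga S ⟶ G) (pp' : Red.Ga S ⟶ G') : Prop :=
  ∀ (X : Over S) (a : Γ(X.left, ⊤)), P pp a ≫ f = P pp' ((cU c X : Γ(X.left, ⊤)) * a ^ q)

/-- `f` on the negative root group -/
def CompatM (pm : Red.Ga S ⟶ G) (pm' : Red.Ga S ⟶ G') : Prop :=
  ∀ (X : Over S) (a : Γ(X.left, ⊤)), P pm a ≫ f = P pm' ((((cU c X)⁻¹ : (Γ(X.left, ⊤))ˣ) : Γ(X.left, ⊤)) * a ^ q)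

omit [GrpObj T] [GrpObj T'] [GrpObj G] [GrpObj G'] in
theorem compatP_iff : CompatP f c q pp pp' ↔
    ∀ (X : Over S) (x y : X ⟶ Red.Ga S), Red.gaFn y = Red.gmFn (toUnit X ≫ c) * Red.gaFn x ^ q →
      (x ≫ pp) ≫ f = y ≫ pp' := by
  refine ⟨fun h X x y hy => ?_, fun h X a => ?_⟩
  · rw [RankOne.comp_eq_P pp, RankOne.comp_eq_P pp', h, val_cU, hy]
  · rw [val_cU]
    exact h X (GaPts.ptOfFn a) (GaPts.ptOfFn (Red.gmFn (toUnit X ≫ c) * a ^ q)) (by
      rw [GaPts.gaFn_ptOfFn, GaPts.gaFn_ptOfFn])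

omit [GrpObj T] [GrpObj T'] [GrpObj G] [GrpObj G'] in
theorem compatM_iff : CompatM f c q pm pm' ↔
    ∀ (X : Over S) (x y : X ⟶ Red.Ga S), Red.gaFn y * Red.gmFn (toUnit X ≫ c) = Red.gaFn x ^ q →
      (x ≫ pm) ≫ f = y ≫ pm' := by
  refine ⟨fun h X x y hy => ?_, fun h X a => ?_⟩
  · rw [RankOne.comp_eq_P pm, RankOne.comp_eq_P pm', h]
    congr 1
    rw [Units.inv_mul_eq_iff_eq_mul, val_cU, ← hy, _root_.mul_comm]
  · exact h X (GaPts.ptOfFn a) (GaPts.ptOfFn ((((cU c X)⁻¹ : (Γ(X.left, ⊤))ˣ) : Γ(X.left, ⊤)) * a ^ q)) (by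
      rw [GaPts.gaFn_ptOfFn, GaPts.gaFn_ptOfFn, ← val_cU, _root_.mul_comm, ← _root_.mul_assoc,
        Units.mul_inv, _root_.one_mul])

/-- `f` on the coroot -/
def CompatA (i : T ⟶ G) (av : Red.Gm S ⟶ T) (i' : T' ⟶ G') (av' : Red.Gm S ⟶ T') : Prop :=
  ∀ (X : Over S) (v : (Γ(X.left, ⊤))ˣ), A i av v ≫ f = A i' av' (v ^ q)

variable (hq0 : 0 < q) (hq : ∀ (X : Over S) (a b : Γ(X.left, ⊤)), (a + b) ^ q = a ^ q + b ^ q)
include hq0 hq

theorem neg_one_pow (X : Over S) : (-1 : Γ(X.left, ⊤)) ^ q = -1 := by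
  have h := hq X 1 (-1)
  rw [add_neg_cancel, zero_pow hq0.ne', one_pow] at h
  linear_combination -h

theorem neg_pow' {X : Over S} (a : Γ(X.left, ⊤)) : (-a) ^ q = -(a ^ q) := by
  rw [neg_pow, neg_one_pow q hq0 hq, neg_one_mul]

variable [IsMonHom f] (D : Datum i α pp pm av) (D' : Datum i' α' pp' pm' av')
include D D'

omit D D' in
theorem compat_w (hP : CompatP f c q pp pp') (hM : CompatM f c q pm pm') {X : Over S} (a a' : Γ(X.left, ⊤)) :
    w pp pm a a' ≫ f = w pp' pm' ((cU c X : Γ(X.left, ⊤)) * a ^ q)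
      ((((cU c X)⁻¹ : (Γ(X.left, ⊤))ˣ) : Γ(X.left, ⊤)) * a' ^ q) := by
  simp only [w, MonObj.mul_comp, hP _, hM _]

omit D in
theorem w_cU (X : Over S) : w pp' pm' (cU c X : Γ(X.left, ⊤)) (-(((cU c X)⁻¹ : (Γ(X.left, ⊤))ˣ) : Γ(X.left, ⊤))) =
    A i' av' (cU c X) * W pp' pm' :=
  RankOne.w_smul_left D' (cU c X) 1 (-1) _ _ (by simp) (by simp) (by simp)

/-- from the Weyl element to the negative root group -/
theorem compatM_of_W (hP : CompatP f c q pp pp')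
    (hW : ∀ X : Over S, (W pp pm : X ⟶ G) ≫ f = A i' av' (cU c X) * W pp' pm') : CompatM f c q pm pm' := by
  have := D'.hom_i; have := D'.hom_av
  intro X b
  have hb : W pp pm * P pp (-b) * (W pp pm : X ⟶ G)⁻¹ = P pm b := by rw [W_conj_P D, neg_neg]
  rw [← hb, MonObj.mul_comp, MonObj.mul_comp, GrpObj.inv_comp, hW, hP, neg_pow' q hq0 hq, mul_neg, mul_inv_rev,
    show A i' av' (cU c X) * W pp' pm' * P pp' (-((cU c X : Γ(X.left, ⊤)) * b ^ q)) *
      ((W pp' pm')⁻¹ * (A i' av' (cU c X))⁻¹) =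
      A i' av' (cU c X) * (W pp' pm' * P pp' (-((cU c X : Γ(X.left, ⊤)) * b ^ q)) * (W pp' pm')⁻¹) *
        (A i' av' (cU c X))⁻¹ by simp only [_root_.mul_assoc],
    W_conj_P D', neg_neg, RankOne.A_conj_M D', mul_inv_cancel_right]
  congr 1
  simp only [_root_.mul_assoc]
  rw [Units.inv_mul_cancel_left]

/-- from the negative root group to the coroot -/
theorem compatA_of_compatM (hP : CompatP f c q pp pp') (hM : CompatM f c q pm pm') : CompatA f q i av i' av' := by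
  intro X v
  set V := (v : Γ(X.left, ⊤)) with hV
  set Vi := ((v⁻¹ : (Γ(X.left, ⊤))ˣ) : Γ(X.left, ⊤)) with hVi
  set C := (cU c X : Γ(X.left, ⊤))
  set Ci := (((cU c X)⁻¹ : (Γ(X.left, ⊤))ˣ) : Γ(X.left, ⊤))
  have hu : V ^ q = 1 + (V - 1) ^ q := by
    have h := hq X 1 (V - 1)
    rwa [add_sub_cancel, one_pow] at h
  have h := RankOne.P_mul_M D 1 (V - 1) v (by rw [_root_.one_mul, add_sub_cancel])
  have h' := congrArg (· ≫ f) h
  simp only [MonObj.mul_comp, hP _, hM _, one_pow, _root_.mul_one, _root_.one_mul] at h'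
  have hCC : C * Ci = 1 := Units.mul_inv _
  rw [RankOne.P_mul_M D' C (Ci * (V - 1) ^ q) (v ^ q) (by
    rw [Units.val_pow_eq_pow_val, ← hV, hu, ← _root_.mul_assoc, hCC, _root_.one_mul])] at h'
  have e1 : Ci * (V - 1) ^ q * (((v ^ q)⁻¹ : (Γ(X.left, ⊤))ˣ) : Γ(X.left, ⊤)) = Ci * ((V - 1) * Vi) ^ q := by
    rw [← inv_pow, Units.val_pow_eq_pow_val, mul_pow, _root_.mul_assoc]
  have e2 : C * (((v ^ q)⁻¹ : (Γ(X.left, ⊤))ˣ) : Γ(X.left, ⊤)) = C * Vi ^ q := by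
    rw [← inv_pow, Units.val_pow_eq_pow_val]
  rw [e1, e2] at h'
  exact (mul_left_cancel (mul_right_cancel h')).symm

theorem W_of_compatM (hP : CompatP f c q pp pp') (hM : CompatM f c q pm pm') (X : Over S) :
    (W pp pm : X ⟶ G) ≫ f = A i' av' (cU c X) * W pp' pm' := by
  rw [W, compat_w f c q hq0 hq hP hM, one_pow, _root_.mul_one, neg_one_pow q hq0 hq, mul_neg, _root_.mul_one,
    w_cU c q hq0 hq D']

variable (hT' : Red.IsTorus T') (hΩ' : IsOpenImmersion (cellMap i' pp' pm').left) (hG' : Rig G')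
include hT' hΩ' hG'

/-- from the coroot to the negative root group -/
theorem compatM_of_compatA (hP : CompatP f c q pp pp') (hA : CompatA f q i av i' av') : CompatM f c q pm pm' := by
  have := D'.hom_i; have := D'.hom_av; have := D'.hom_pp; have := D'.hom_pm
  obtain ⟨t, ht⟩ := eq_torus_mul_W D' hT' hΩ' hG' (q : ℤ) (by exact_mod_cast hq0.ne')
    ((W pp pm : 𝟙_ (Over S) ⟶ G) ≫ f) fun X' e v => by
    rw [zpow_natCast, ← Category.assoc, comp_W, ← hA, ← GrpObj.inv_comp, ← GrpObj.inv_comp, ← MonObj.mul_comp,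
      ← MonObj.mul_comp, W_conj_A D]
  have hW : ∀ X : Over S, (W pp pm : X ⟶ G) ≫ f = ((toUnit X ≫ t) ≫ i') * W pp' pm' := fun X => by
    have h := congrArg (toUnit X ≫ ·) ht
    simp only [MonObj.comp_mul, comp_W] at h
    rwa [← Category.assoc, comp_W, ← Category.assoc] at h
  -- the torus part is the coroot at `c`
  let U := 𝟙_ (Over S)
  set d := GmPts.unitOfPt ((toUnit U ≫ t) ≫ α') with hd
  have hMd : ∀ b : Γ(U.left, ⊤), P pm b ≫ f =
      P pm' (((d⁻¹ : (Γ(U.left, ⊤))ˣ) : Γ(U.left, ⊤)) * ((cU c U : Γ(U.left, ⊤)) * b ^ q)) := fun b => by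
    have hb : W pp pm * P pp (-b) * (W pp pm : U ⟶ G)⁻¹ = P pm b := by rw [W_conj_P D, neg_neg]
    rw [← hb, MonObj.mul_comp, MonObj.mul_comp, GrpObj.inv_comp, hW, hP, neg_pow' q hq0 hq, mul_neg, mul_inv_rev,
      ← RankOne.conj_M D',
      show ∀ x y z : U ⟶ G', x * y * z * (y⁻¹ * x⁻¹) = x * (y * z * y⁻¹) * x⁻¹ from fun x y z => by
        simp only [_root_.mul_assoc],
      W_conj_P D', neg_neg]
  set C := (cU c U : Γ(U.left, ⊤)) with hC
  set Di := ((d⁻¹ : (Γ(U.left, ⊤))ˣ) : Γ(U.left, ⊤)) with hDi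
  have e1 : (W pp pm : U ⟶ G) ≫ f = P pp' C * P pm' (Di * (C * (-1) ^ q)) * P pp' C := by
    simp only [W, w, MonObj.mul_comp, hP _, hMd, one_pow, _root_.mul_one, hC]
  set z : U ⟶ T' := GmPts.ptOfUnit (cU c U) ≫ av' with hz
  set s : U ⟶ T' := (toUnit U ≫ t) * z⁻¹ with hs
  set Ci := (((cU c U)⁻¹ : (Γ(U.left, ⊤))ˣ) : Γ(U.left, ⊤)) with hCi
  have key : P pp' ((GmPts.unitOfPt (s ≫ α') : Γ(U.left, ⊤)) * C) * (s ≫ i') * P pm' (-Ci) =
      P pp' C * ((1 : U ⟶ T') ≫ i') * P pm' (Di * (C * (-1) ^ q)) := by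
    apply mul_right_cancel (b := P pp' C)
    have e2 : A i' av' (cU c U) = z ≫ i' := (Category.assoc _ _ _).symm
    rw [MonObj.one_comp, _root_.mul_one, ← e1, hW, ← RankOne.conj_P D', hs, MonObj.mul_comp, GrpObj.inv_comp, ← e2,
      show (W pp' pm' : U ⟶ G') = (A i' av' (cU c U))⁻¹ * w pp' pm' C (-Ci) by
        rw [hC, hCi, w_cU c q hq0 hq D', inv_mul_cancel_left]]
    simp [w, _root_.mul_assoc]
  obtain ⟨-, h2, -⟩ := ptm_inj D' hΩ' key
  have ht' : toUnit U ≫ t = z := mul_inv_eq_one.1 h2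
  refine compatM_of_W f c q hq0 hq D D' hP fun X => ?_
  rw [hW, show toUnit X ≫ t = toUnit X ≫ (toUnit U ≫ t) by rw [← Category.assoc, Subsingleton.elim (toUnit X ≫ toUnit U) (toUnit X)],
    ht', hz, ← Category.assoc, GmPts.ptOfUnit_comp, Category.assoc]
  congr 2

end Groth.Agent.RankOne16
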