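import Groth.Agent.Lib.RankOne16.Scale

/-!
# Natural functions homogeneous for the scaling by a character
-/

universe u

open CategoryTheory CategoryTheory.Limits MonoidalCategory CartesianMonoidalCategory MonObj AlgebraicGeometry Polynomial

set_option linter.style.haveILetI false
set_option backward.isDefEq.respectTransparency false
set_option backward.isDefEq.respectTransparency.types false

noncomputable section

namespace Groth.Agent.RankOne16

variable {S : Scheme.{u}}

/-- affine test object -/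
abbrev sp {R : Type u} [CommRing R] (φ : Spec (CommRingCat.of R) ⟶ S) : Over S := Over.mk φ

/-- functions of a test object -/
def fn {R : Type u} [CommRing R] (φ : Spec (CommRingCat.of R) ⟶ S) : R ≃+* Γ((sp φ).left, ⊤) :=
  (Scheme.ΓSpecIso (CommRingCat.of R)).commRingCatIsoToRingEquiv.symm

/-- the map of test objects given by a ring map -/
def spMap {R R' : Type u} [CommRing R] [CommRing R'] (φ : Spec (CommRingCat.of R) ⟶ S) (f : R →+* R') :
    sp (Spec.map (CommRingCat.ofHom f) ≫ φ) ⟶ sp φ := Over.homMk (Spec.map (CommRingCat.ofHom f))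

theorem spMap_fn {R R' : Type u} [CommRing R] [CommRing R'] (φ : Spec (CommRingCat.of R) ⟶ S) (f : R →+* R') (r : R) :
    (spMap φ f).left.appTop (fn φ r) = fn (Spec.map (CommRingCat.ofHom f) ≫ φ) (f r) :=
  (congrArg (fun g : CommRingCat.of R ⟶ Γ(Spec (CommRingCat.of R'), ⊤) => g.hom r)
    (Scheme.ΓSpecIso_inv_naturality (CommRingCat.ofHom f))).symm

/-- Functions are determined on affine opens. -/
theorem ext_of_affine {X : Over S} {a b : Γ(X.left, ⊤)}
    (h : ∀ (R : Type u) [CommRing R] (φ : Spec (CommRingCat.of R) ⟶ S) (e : sp φ ⟶ X),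
      e.left.appTop a = e.left.appTop b) : a = b := by
  have h1 : (GaPts.ptOfFn a : X ⟶ Red.Ga S) = GaPts.ptOfFn b := by
    apply Over.OverMorphism.ext
    refine Scheme.Cover.hom_ext X.left.affineCover _ _ fun j => ?_
    let U := X.left.affineCover.f j
    obtain ⟨R, ⟨e⟩⟩ : ∃ R : CommRingCat.{u}, Nonempty (X.left.affineCover.X j ≅ Spec R) :=
      ⟨_, ⟨(X.left.affineCover.X j).isoSpec⟩⟩
    let φ : Spec R ⟶ S := (e.inv ≫ U) ≫ X.hom
    let g : sp (R := R) φ ⟶ X := Over.homMk (e.inv ≫ U)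
    have h2 := congrArg CommaMorphism.left
      (show g ≫ (GaPts.ptOfFn a : X ⟶ Red.Ga S) = g ≫ GaPts.ptOfFn b by
        rw [GaPts.ptOfFn_comp, GaPts.ptOfFn_comp, h R φ g])
    simp only [Over.comp_left, g, Over.homMk_left, Category.assoc] at h2
    exact (cancel_epi e.inv).1 h2
  simpa only [GaPts.gaFn_ptOfFn] using congrArg Red.gaFn h1

variable (N : ∀ X : Over S, Γ(X.left, ⊤) → Γ(X.left, ⊤))
  (hN : ∀ (X X' : Over S) (g : X' ⟶ X) (a : Γ(X.left, ⊤)), g.left.appTop (N X a) = N X' (g.left.appTop a))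

/-- the polynomial of `N` over an affine base -/
def poly {R : Type u} [CommRing R] (φ : Spec (CommRingCat.of R) ⟶ S) : Polynomial R :=
  (fn (Spec.map (CommRingCat.ofHom (Polynomial.C : R →+* Polynomial R)) ≫ φ)).symm
    (N _ (fn _ Polynomial.X))

theorem N_congr {R : Type u} [CommRing R] {φ φ' : Spec (CommRingCat.of R) ⟶ S} (h : φ = φ') (r : R) :
    (fn φ).symm (N _ (fn φ r)) = (fn φ').symm (N _ (fn φ' r)) := by
  subst h; rfl

include hN in
theorem spec_N {R R' : Type u} [CommRing R] [CommRing R'] (φ : Spec (CommRingCat.of R) ⟶ S) (f : R →+* R') (r : R) :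
    f ((fn φ).symm (N _ (fn φ r))) =
      (fn (Spec.map (CommRingCat.ofHom f) ≫ φ)).symm (N _ (fn (Spec.map (CommRingCat.ofHom f) ≫ φ) (f r))) := by
  rw [← spMap_fn φ f r, ← hN _ _ (spMap φ f)]
  obtain ⟨z, hz⟩ := (fn φ).surjective (N _ (fn φ r))
  rw [← hz, RingEquiv.symm_apply_apply, spMap_fn, RingEquiv.symm_apply_apply]

include hN in
theorem eval_poly {R R' : Type u} [CommRing R] [CommRing R'] (φ : Spec (CommRingCat.of R) ⟶ S) (f : R →+* R')
    (r : R') : (poly N φ).eval₂ f r =
      (fn (Spec.map (CommRingCat.ofHom f) ≫ φ)).symm (N _ (fn (Spec.map (CommRingCat.ofHom f) ≫ φ) r)) := by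
  have e : Spec.map (CommRingCat.ofHom (eval₂RingHom f r)) ≫ Spec.map (CommRingCat.ofHom (C : R →+* R[X])) ≫ φ =
      Spec.map (CommRingCat.ofHom f) ≫ φ := by
    rw [← Category.assoc, ← Spec.map_comp, ← CommRingCat.ofHom_comp]
    congr 3
    ext z; simp
  have h := spec_N N hN (Spec.map (CommRingCat.ofHom (C : R →+* R[X])) ≫ φ) (eval₂RingHom f r) Polynomial.X
  rw [N_congr N e] at h
  simp only [coe_eval₂RingHom, eval₂_X] at h
  exact h

variable {Q : Over S} [GrpObj Q] (hQ : Red.IsTorus Q) (β : Q ⟶ Red.Gm S) [IsMonHom β]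
  (hβ : ∀ s : S, (Over.pullback (Red.geomPt s)).map β ≠ 1) (n : ℤ)
  (hn : ∀ (X : Over S) (t : X ⟶ Q) (a : Γ(X.left, ⊤)),
    N X ((GmPts.unitOfPt (t ≫ β) : Γ(X.left, ⊤)) * a) =
      ((GmPts.unitOfPt (t ≫ β) ^ n : (Γ(X.left, ⊤))ˣ) : Γ(X.left, ⊤)) * N X a)

include hN hQ hβ hn in
/-- Only the coefficient of the weight survives. -/
theorem coeff_eq_zero {R : Type u} [CommRing R] (φ : Spec (CommRingCat.of R) ⟶ S) (k : ℕ) (hk : (k : ℤ) ≠ n) :
    (poly N φ).coeff k = 0 := by
  classical
  obtain ⟨m, hm, hm'⟩ : ∃ m : ℕ, m ≠ 0 ∧ ((m : ℤ) = k - n ∨ (m : ℤ) = n - k) := by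
    refine ⟨(k - n : ℤ).natAbs, Int.natAbs_ne_zero.2 (sub_ne_zero.2 hk), ?_⟩
    rcases Int.natAbs_eq (k - n : ℤ) with h | h
    · exact Or.inl h.symm
    · exact Or.inr (by omega)
  obtain ⟨X', e, t, ⟨he, -, -⟩, ht⟩ := exists_cover_scalar hQ β hβ m hm (sp φ)
  haveI := he
  apply (fn φ).injective
  rw [map_zero]
  have hinj : e.left.appTop (fn φ ((poly N φ).coeff k)) = 0 := by
    refine ext_of_affine fun R' _ φ' j => ?_
    rw [map_zero]
    -- the test object and its ring map
    set g : Spec (CommRingCat.of R') ⟶ Spec (CommRingCat.of R) := (j ≫ e).left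
    obtain ⟨f, hf⟩ : ∃ f : R →+* R', g = Spec.map (CommRingCat.ofHom f) := by
      obtain ⟨f, hf⟩ := Spec.map_surjective g
      exact ⟨f.hom, hf.symm⟩
    have hφ' : Spec.map (CommRingCat.ofHom f) ≫ φ = φ' := by rw [← hf]; exact Over.w (j ≫ e)
    subst hφ'
    have hje : j ≫ e = spMap φ f := Over.OverMorphism.ext hf
    rw [← CommRingCat.comp_apply, ← Scheme.Hom.comp_appTop, ← Over.comp_left, hje, spMap_fn]
    set gam : R'ˣ := Units.map ((fn (Spec.map (CommRingCat.ofHom f) ≫ φ)).symm.toRingHom.toMonoidHom)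
      (GmPts.unitOfPt ((j ≫ t) ≫ β))
    have hu : IsUnit ((gam : R') ^ m - 1) := by
      have h1 := (ht.map j.left.appTop.hom).map (fn (Spec.map (CommRingCat.ofHom f) ≫ φ)).symm
      simp only [map_sub, map_pow, map_one] at h1
      convert h1 using 3
      simp only [gam, Category.assoc, GmPts.unitOfPt_comp j (t ≫ β)]
      rfl
    -- the identity of polynomials over R'
    let φ₁ := Spec.map (CommRingCat.ofHom (C.comp f : R →+* R'[X])) ≫ φ
    have e1 : Spec.map (CommRingCat.ofHom (C : R' →+* R'[X])) ≫ Spec.map (CommRingCat.ofHom f) ≫ φ = φ₁ := by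
      rw [← Category.assoc, ← Spec.map_comp, ← CommRingCat.ofHom_comp]
    let t₁ : sp φ₁ ⟶ Q := Over.homMk (Spec.map (CommRingCat.ofHom (C : R' →+* R'[X])) ≫ (j ≫ t).left) (by
      rw [Category.assoc, Over.w (j ≫ t)]; exact e1)
    have hgam : GmPts.unitOfPt (t₁ ≫ β) = Units.map ((fn φ₁).toRingHom.toMonoidHom) (Units.map (C : R' →+* R'[X]).toMonoidHom gam) := by
      let q : sp φ₁ ⟶ sp (Spec.map (CommRingCat.ofHom f) ≫ φ) :=
        Over.homMk (Spec.map (CommRingCat.ofHom (C : R' →+* R'[X]))) e1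
      rw [show t₁ ≫ β = q ≫ ((j ≫ t) ≫ β) by rw [← Category.assoc]; congr 1, GmPts.unitOfPt_comp]
      refine Units.ext ?_
      show q.left.appTop _ = fn φ₁ (C ((fn _).symm _))
      conv_lhs => rw [← (fn (Spec.map (CommRingCat.ofHom f) ≫ φ)).apply_symm_apply
        (GmPts.unitOfPt ((j ≫ t) ≫ β) : Γ((sp (Spec.map (CommRingCat.ofHom f) ≫ φ)).left, ⊤))]
      exact (congrArg (fun g : CommRingCat.of R' ⟶ Γ(Spec (CommRingCat.of R'[X]), ⊤) =>
        g.hom ((fn (Spec.map (CommRingCat.ofHom f) ≫ φ)).symm _)) (Scheme.ΓSpecIso_inv_naturality (CommRingCat.ofHom (C : R' →+* R'[X])))).symm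
    have h2 := congrArg (fn φ₁).symm (hn _ t₁ (fn φ₁ Polynomial.X))
    rw [hgam, map_mul (fn φ₁).symm, ← map_zpow, ← map_zpow] at h2
    simp only [Units.coe_map, RingHom.toMonoidHom_eq_coe, MonoidHom.coe_coe, RingEquiv.toRingHom_eq_coe,
      RingHom.coe_coe, RingEquiv.symm_apply_apply] at h2
    rw [← map_mul] at h2
    rw [← eval_poly N hN φ (C.comp f) (C (gam : R') * Polynomial.X), ← eval_poly N hN φ (C.comp f) Polynomial.X] at h2
    have e2 : (poly N φ).eval₂ (C.comp f) Polynomial.X = (poly N φ).map f := rfl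
    have e3 : (poly N φ).eval₂ (C.comp f) (C (gam : R') * Polynomial.X) =
        ((poly N φ).map f).comp (C (gam : R') * Polynomial.X) := by
      rw [Polynomial.comp, Polynomial.eval₂_map]
    rw [e2, e3] at h2
    have h3 := congrArg (fun P => P.coeff k) h2
    simp only [comp_C_mul_X_coeff, coeff_C_mul, coeff_map] at h3
    set c := f ((poly N φ).coeff k)
    have hc : c = 0 := by
      rw [← IsUnit.mul_left_eq_zero hu]
      have hkey : c * (gam : R') ^ k = ((gam ^ n : R'ˣ) : R') * c := h3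
      rcases hm' with hm' | hm'
      · have hgk : (gam : R') ^ k = ((gam ^ n : R'ˣ) : R') * (gam : R') ^ m := by
          rw [← Units.val_pow_eq_pow_val, ← Units.val_pow_eq_pow_val, ← Units.val_mul, ← zpow_natCast, ← zpow_natCast,
            ← zpow_add]
          congr 2; omega
        apply (Units.mul_right_eq_zero (gam ^ n)).1
        rw [hgk] at hkey
        linear_combination hkey
      · have hgk : ((gam ^ n : R'ˣ) : R') = (gam : R') ^ k * (gam : R') ^ m := by
          rw [← Units.val_pow_eq_pow_val, ← Units.val_pow_eq_pow_val, ← Units.val_mul, ← zpow_natCast, ← zpow_natCast,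
            ← zpow_add]
          congr 2; omega
        apply (Units.mul_right_eq_zero (gam ^ k)).1
        rw [hgk] at hkey
        rw [Units.val_pow_eq_pow_val]
        linear_combination -hkey
    rw [hc, map_zero]
  have h4 : (GaPts.ptOfFn (fn φ ((poly N φ).coeff k)) : sp φ ⟶ Red.Ga S) = GaPts.ptOfFn 0 := by
    rw [← cancel_epi e, GaPts.ptOfFn_comp, GaPts.ptOfFn_comp, hinj, map_zero]
  simpa only [GaPts.gaFn_ptOfFn] using congrArg Red.gaFn h4

include hN hQ hβ hn in
/-- A homogeneous function of nonnegative weight is a monomial. -/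
theorem monomial_of_weight (m : ℕ) (hm : n = m) (X : Over S) (a : Γ(X.left, ⊤)) : N X a = N X 1 * a ^ m := by
  refine ext_of_affine fun R _ φ e => ?_
  rw [map_mul, map_pow, hN, hN, map_one]
  obtain ⟨r, hr⟩ := (fn φ).surjective (e.left.appTop a)
  rw [← hr]
  have hp : poly N φ = Polynomial.monomial m ((poly N φ).coeff m) := by
    refine Polynomial.ext fun k => ?_
    rw [coeff_monomial]
    split_ifs with h
    · rw [h]
    · exact coeff_eq_zero N hN hQ β hβ n hn φ k (by rw [hm]; exact_mod_cast (Ne.symm h))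
  have hv : ∀ z, fn φ ((poly N φ).eval₂ (RingHom.id R) z) = N _ (fn φ z) := fun z => by
    rw [eval_poly N hN φ (RingHom.id R) z,
      N_congr N (show Spec.map (CommRingCat.ofHom (RingHom.id R)) ≫ φ = φ by
        rw [CommRingCat.ofHom_id, Spec.map_id, Category.id_comp]), RingEquiv.apply_symm_apply]
  rw [← hv r, ← map_one (fn φ), ← hv 1, ← map_pow, ← map_mul, hp]
  simp

include hN hQ hβ hn in
/-- A homogeneous function of negative weight vanishes. -/
theorem eq_zero_of_weight (hn0 : n < 0) (X : Over S) (a : Γ(X.left, ⊤)) : N X a = 0 := by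
  refine ext_of_affine fun R _ φ e => ?_
  rw [hN, map_zero]
  obtain ⟨r, hr⟩ := (fn φ).surjective (e.left.appTop a)
  rw [← hr]
  have hp : poly N φ = 0 := Polynomial.ext fun k => by
    rw [coeff_zero]; exact coeff_eq_zero N hN hQ β hβ n hn φ k (by omega)
  have hv := eval_poly N hN φ (RingHom.id R) r
  rw [hp, eval₂_zero, N_congr N (show Spec.map (CommRingCat.ofHom (RingHom.id R)) ≫ φ = φ by
        rw [CommRingCat.ofHom_id, Spec.map_id, Category.id_comp])] at hv
  exact (fn φ).symm.injective (by rw [← hv, map_zero])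

end Groth.Agent.RankOne16
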