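import Groth.Agent.Lib.RankOne16.Cover
import Groth.Agent.Lib.RankOne16.Contract

/-!
# The relations of a group of semisimple rank one in an arbitrary group
-/

universe u

open CategoryTheory CategoryTheory.Limits MonoidalCategory CartesianMonoidalCategory MonObj AlgebraicGeometry

set_option linter.style.haveILetI false
set_option backward.isDefEq.respectTransparency false
set_option backward.isDefEq.respectTransparency.types false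

noncomputable section

namespace Groth.Agent.RankOne16

open RankOne (P A)

variable {S : Scheme.{u}}

/-- Generators and relations in a group `H`. -/
structure Rel (T : Over S) [GrpObj T] (α : T ⟶ Red.Gm S) (av : Red.Gm S ⟶ T) (H : Over S) [GrpObj H]
    (fT : T ⟶ H) (fP : Red.Ga S ⟶ H) (h : 𝟙_ (Over S) ⟶ H) : Prop where
  hom_T : IsMonHom fT
  hom_P : IsMonHom fP
  hom_av : IsMonHom av
  hom_α : IsMonHom α
  comm : ∀ {X : Over S} (s t : X ⟶ T), s * t = t * s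
  h2 : ∀ {X : Over S} (v : (Γ(X.left, ⊤))ˣ), GmPts.unitOfPt ((GmPts.ptOfUnit v ≫ av) ≫ α) = v * v
  r1 : ∀ {X : Over S} (t : X ⟶ T) (a : Γ(X.left, ⊤)),
    (t ≫ fT) * P fP a * (t ≫ fT)⁻¹ = P fP ((GmPts.unitOfPt (t ≫ α) : Γ(X.left, ⊤)) * a)
  r2 : ∀ {X : Over S} (t : X ⟶ T), (toUnit X ≫ h) * (t ≫ fT) * (toUnit X ≫ h)⁻¹ = (t * (t ≫ α ≫ av)⁻¹) ≫ fT
  r3 : ∀ X : Over S, (toUnit X ≫ h) * (toUnit X ≫ h) = A fT av (-1 : (Γ(X.left, ⊤))ˣ)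
  r4 : ∀ X : Over S, ((toUnit X ≫ h) * P fP (1 : Γ(X.left, ⊤))) ^ 3 = 1

variable {T : Over S} [GrpObj T] {α : T ⟶ Red.Gm S} {av : Red.Gm S ⟶ T} {H : Over S} [GrpObj H]
  {fT : T ⟶ H} {fP : Red.Ga S ⟶ H} {h : 𝟙_ (Over S) ⟶ H} {X X' : Over S}

/-- the Weyl element of the relations -/
def hW (h : 𝟙_ (Over S) ⟶ H) (X : Over S) : X ⟶ H := toUnit X ≫ h

omit [GrpObj H] in
theorem comp_hW (g : X' ⟶ X) : g ≫ hW h X = hW h X' := by
  rw [hW, hW, ← Category.assoc, Subsingleton.elim (g ≫ toUnit X) (toUnit X')]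

/-- the negative root group of the relations -/
def FM (fP : Red.Ga S ⟶ H) (h : 𝟙_ (Over S) ⟶ H) (a : Γ(X.left, ⊤)) : X ⟶ H :=
  hW h X * P fP (-a) * (hW h X)⁻¹

theorem comp_FM (g : X' ⟶ X) (a : Γ(X.left, ⊤)) : g ≫ FM fP h a = FM fP h (g.left.appTop a) := by
  rw [FM, FM, MonObj.comp_mul, MonObj.comp_mul, GrpObj.comp_inv, comp_hW, RankOne.comp_P, map_neg]

/-- the reflection of the torus -/
def sT (α : T ⟶ Red.Gm S) (av : Red.Gm S ⟶ T) (t : X ⟶ T) : X ⟶ T := t * (t ≫ α ≫ av)⁻¹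

/-- first chart -/
def F1 (fT : T ⟶ H) (fP : Red.Ga S ⟶ H) (h : 𝟙_ (Over S) ⟶ H) (y : Γ(X.left, ⊤)) (t : X ⟶ T)
    (x : Γ(X.left, ⊤)) : X ⟶ H := FM fP h y * (t ≫ fT) * P fP x

/-- second chart -/
def F2 (fT : T ⟶ H) (fP : Red.Ga S ⟶ H) (h : 𝟙_ (Over S) ⟶ H) (a : Γ(X.left, ⊤)) (t : X ⟶ T)
    (c : Γ(X.left, ⊤)) : X ⟶ H := P fP a * (t ≫ fT) * FM fP h c * hW h X

variable (R : Rel T α av H fT fP h)
include R

theorem Rel.unit_sT (t : X ⟶ T) : GmPts.unitOfPt (sT α av t ≫ α) = (GmPts.unitOfPt (t ≫ α))⁻¹ := by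
  have := R.hom_α
  rw [sT, show (t * (t ≫ α ≫ av)⁻¹) ≫ α = (t ≫ α) * ((t ≫ α ≫ av) ≫ α)⁻¹ from by
    rw [show (t * (t ≫ α ≫ av)⁻¹) ≫ α = pushHom α X (t * (t ≫ α ≫ av)⁻¹) from rfl, map_mul, map_inv]; rfl,
    GmPts.unitOfPt_mul, GmPts.unitOfPt_inv]
  have h1 := R.h2 (GmPts.unitOfPt (t ≫ α))
  rw [GmPts.ptOfUnit_unitOfPt, Category.assoc t α av] at h1
  rw [h1]
  group

theorem Rel.sT_sT (t : X ⟶ T) : sT α av (sT α av t) = t := by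
  have := R.hom_av
  have h1 : (sT α av t) ≫ α ≫ av = (t ≫ α ≫ av)⁻¹ := by
    rw [← Category.assoc, ← GmPts.ptOfUnit_unitOfPt (sT α av t ≫ α), R.unit_sT, GmPts.ptOfUnit_inv,
      GmPts.ptOfUnit_unitOfPt, show (t ≫ α)⁻¹ ≫ av = ((t ≫ α) ≫ av)⁻¹ from map_inv (pushHom av X) _, Category.assoc]
  unfold sT at h1 ⊢
  rw [h1, inv_inv, inv_mul_cancel_right]

theorem Rel.h_conj_T (t : X ⟶ T) : hW h X * (t ≫ fT) * (hW h X)⁻¹ = sT α av t ≫ fT := R.r2 t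

theorem Rel.hW_mul_T (t : X ⟶ T) : hW h X * (t ≫ fT) = (sT α av t ≫ fT) * hW h X :=
  mul_inv_eq_iff_eq_mul.1 (R.h_conj_T t)

theorem Rel.T_mul_hW (t : X ⟶ T) : (t ≫ fT) * hW h X = hW h X * (sT α av t ≫ fT) := by
  rw [R.hW_mul_T, R.sT_sT]

theorem Rel.A_eq (v : (Γ(X.left, ⊤))ˣ) : A fT av v = (GmPts.ptOfUnit v ≫ av) ≫ fT := (Category.assoc _ _ _).symm

theorem Rel.sT_av (v : (Γ(X.left, ⊤))ˣ) : sT α av (GmPts.ptOfUnit v ≫ av) = GmPts.ptOfUnit v⁻¹ ≫ av := by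
  have := R.hom_av
  rw [sT, ← Category.assoc (GmPts.ptOfUnit v ≫ av), ← GmPts.ptOfUnit_unitOfPt ((GmPts.ptOfUnit v ≫ av) ≫ α),
    R.h2 v, ← (show (GmPts.ptOfUnit (v * v))⁻¹ ≫ av = (GmPts.ptOfUnit (v * v) ≫ av)⁻¹ from map_inv (pushHom av X) _), ← MonObj.mul_comp, ← GmPts.ptOfUnit_inv, ← GmPts.ptOfUnit_mul]
  congr 2
  group

theorem Rel.hW_mul_A (v : (Γ(X.left, ⊤))ˣ) : hW h X * A fT av v = A fT av v⁻¹ * hW h X := by
  rw [R.A_eq, R.hW_mul_T, R.sT_av, ← R.A_eq]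

theorem Rel.T_mul_P (t : X ⟶ T) (a : Γ(X.left, ⊤)) :
    (t ≫ fT) * P fP a = P fP ((GmPts.unitOfPt (t ≫ α) : Γ(X.left, ⊤)) * a) * (t ≫ fT) :=
  mul_inv_eq_iff_eq_mul.1 (R.r1 t a)

theorem Rel.P_mul_T (t : X ⟶ T) (a : Γ(X.left, ⊤)) :
    P fP a * (t ≫ fT) = (t ≫ fT) * P fP ((((GmPts.unitOfPt (t ≫ α))⁻¹ : (Γ(X.left, ⊤))ˣ) : Γ(X.left, ⊤)) * a) := by
  rw [R.T_mul_P, Units.mul_inv_cancel_left]

theorem Rel.A_mul_P (v : (Γ(X.left, ⊤))ˣ) (a : Γ(X.left, ⊤)) :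
    A fT av v * P fP a = P fP ((v : Γ(X.left, ⊤)) * (v : Γ(X.left, ⊤)) * a) * A fT av v := by
  rw [R.A_eq, R.T_mul_P, R.h2, Units.val_mul]

theorem Rel.hW_mul_P (a : Γ(X.left, ⊤)) : hW h X * P fP a = FM fP h (-a) * hW h X := by
  rw [FM, neg_neg, inv_mul_cancel_right]

theorem Rel.hW_mul_FM (a : Γ(X.left, ⊤)) : hW h X * FM fP h a = P fP (-a) * hW h X := by
  rw [FM, show hW h X * (hW h X * P fP (-a) * (hW h X)⁻¹) = (hW h X * hW h X) * P fP (-a) * (hW h X)⁻¹ by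
    simp only [_root_.mul_assoc], show hW h X * hW h X = A fT av (-1) from R.r3 X, R.A_mul_P,
    show A fT av (-1 : (Γ(X.left, ⊤))ˣ) = hW h X * hW h X from (R.r3 X).symm]
  simp [_root_.mul_assoc]

theorem Rel.T_mul_FM (t : X ⟶ T) (a : Γ(X.left, ⊤)) :
    (t ≫ fT) * FM fP h a = FM fP h ((((GmPts.unitOfPt (t ≫ α))⁻¹ : (Γ(X.left, ⊤))ˣ) : Γ(X.left, ⊤)) * a) * (t ≫ fT) := by
  calc (t ≫ fT) * FM fP h a = ((t ≫ fT) * hW h X) * P fP (-a) * (hW h X)⁻¹ := by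
        simp only [FM, _root_.mul_assoc]
    _ = hW h X * P fP ((GmPts.unitOfPt (sT α av t ≫ α) : Γ(X.left, ⊤)) * -a) * ((sT α av t ≫ fT) * (hW h X)⁻¹) := by
        rw [R.T_mul_hW, _root_.mul_assoc (hW h X), R.T_mul_P]; simp only [_root_.mul_assoc]
    _ = _ := by
        rw [show (sT α av t ≫ fT) * (hW h X)⁻¹ = (hW h X)⁻¹ * (t ≫ fT) by
          rw [mul_inv_eq_iff_eq_mul, _root_.mul_assoc, R.T_mul_hW, inv_mul_cancel_left], R.unit_sT, FM, mul_neg]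
        simp only [_root_.mul_assoc]

theorem Rel.A_mul_FM (v : (Γ(X.left, ⊤))ˣ) (a : Γ(X.left, ⊤)) :
    A fT av v * FM fP h a = FM fP h ((((v⁻¹ : (Γ(X.left, ⊤))ˣ)) : Γ(X.left, ⊤)) *
      (((v⁻¹ : (Γ(X.left, ⊤))ˣ)) : Γ(X.left, ⊤)) * a) * A fT av v := by
  rw [R.A_eq, R.T_mul_FM, R.h2, mul_inv, Units.val_mul]

theorem Rel.FM_add (a b : Γ(X.left, ⊤)) : FM fP h (a + b) = FM fP h a * FM fP h b := by
  have := R.hom_P
  simp only [FM, neg_add, RankOne.P_add, _root_.mul_assoc, inv_mul_cancel_left]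

theorem Rel.FM_zero : FM fP h (0 : Γ(X.left, ⊤)) = 1 := by
  have := R.hom_P
  rw [FM, neg_zero, RankOne.P_zero, _root_.mul_one, mul_inv_cancel]

theorem Rel.FM_one : FM fP h (1 : Γ(X.left, ⊤)) = P fP 1 * A fT av (-1) * hW h X * P fP 1 := by
  have := R.hom_P; have := R.hom_T; have := R.hom_av
  set e := P fP (1 : Γ(X.left, ⊤))
  set w := hW h X
  have hw : w * w = A fT av (-1 : (Γ(X.left, ⊤))ˣ) := R.r3 X
  have hwe : w * w * e = e * (w * w) := by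
    rw [hw, R.A_mul_P]; simp [e]
  have hw4 : w * w * (w * w) = 1 := by
    rw [hw, ← RankOne.A_mul, neg_mul_neg, _root_.one_mul, RankOne.A_one]
  have h4 : (w * e) ^ 3 = 1 := R.r4 X
  rw [FM, RankOne.P_neg, ← hw]
  change w * e⁻¹ * w⁻¹ = e * (w * w) * w * e
  apply inv_injective
  calc (w * e⁻¹ * w⁻¹)⁻¹ = (w * e * w) * (w * w)⁻¹ := by group
    _ = e⁻¹ * w⁻¹ * e⁻¹ * (w * w)⁻¹ := by
        congr 1
        calc w * e * w = (w * e) ^ 3 * (e⁻¹ * w⁻¹ * e⁻¹) := by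
              simp [pow_succ, _root_.mul_assoc]
          _ = _ := by rw [h4, _root_.one_mul]
    _ = e⁻¹ * w⁻¹ * ((w * w) * e)⁻¹ := by group
    _ = (e * (w * w) * w * e)⁻¹ := by
        rw [hwe]; group

theorem Rel.FM_unit (b : (Γ(X.left, ⊤))ˣ) :
    FM fP h (b : Γ(X.left, ⊤)) = P fP (((b⁻¹ : (Γ(X.left, ⊤))ˣ)) : Γ(X.left, ⊤)) * A fT av (-b⁻¹) * hW h X *
      P fP (((b⁻¹ : (Γ(X.left, ⊤))ˣ)) : Γ(X.left, ⊤)) := by
  have := R.hom_T; have := R.hom_av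
  by_cases hs : Subsingleton Γ(X.left, ⊤)
  · -- reduce to one
    have hb : (b : Γ(X.left, ⊤)) = 1 := @Subsingleton.elim _ hs _ _
    have hb' : (((b⁻¹ : (Γ(X.left, ⊤))ˣ)) : Γ(X.left, ⊤)) = 1 := @Subsingleton.elim _ hs _ _
    rw [hb, hb', show -b⁻¹ = (-1 : (Γ(X.left, ⊤))ˣ) from Units.ext (@Subsingleton.elim _ hs _ _), R.FM_one]
  rw [not_subsingleton_iff_nontrivial] at hs
  obtain ⟨X', g, r, hg, hr⟩ := exists_root_cover X (Polynomial.X ^ 2 -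
    Polynomial.C (((b⁻¹ : (Γ(X.left, ⊤))ˣ)) : Γ(X.left, ⊤))) (Polynomial.monic_X_pow_sub_C _ two_ne_zero)
    (by rw [Polynomial.natDegree_X_pow_sub_C]; decide)
  haveI := hg
  simp only [Polynomial.eval₂_sub, Polynomial.eval₂_X_pow, Polynomial.eval₂_C, sub_eq_zero] at hr
  have hru : IsUnit r := (isUnit_pow_iff two_ne_zero).1 (hr ▸ (Units.isUnit b⁻¹).map g.left.appTop.hom)
  obtain ⟨v, rfl⟩ := hru
  set b' := Units.map g.left.appTop.hom.toMonoidHom b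
  have hv : v * v = b'⁻¹ := Units.ext (by rw [Units.val_mul, ← pow_two, hr]; rfl)
  rw [← cancel_epi g, comp_FM]
  simp only [MonObj.comp_mul, RankOne.comp_P, comp_A, comp_hW]
  show FM fP h (b' : Γ(X'.left, ⊤)) = P fP (((b'⁻¹ : (Γ(X'.left, ⊤))ˣ)) : Γ(X'.left, ⊤)) *
    A fT av (Units.map g.left.appTop.hom.toMonoidHom (-b⁻¹)) * hW h X' *
      P fP (((b'⁻¹ : (Γ(X'.left, ⊤))ˣ)) : Γ(X'.left, ⊤))
  rw [show Units.map g.left.appTop.hom.toMonoidHom (-b⁻¹) = -(v * v) from Units.ext (by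
    show g.left.appTop.hom (-((b⁻¹ : (Γ(X.left, ⊤))ˣ) : Γ(X.left, ⊤))) = _
    rw [map_neg, Units.val_neg, Units.val_mul, ← pow_two, hr]), ← hv]
  have e0 : b' = v⁻¹ * v⁻¹ := by rw [← mul_inv, hv, inv_inv]
  calc FM fP h (b' : Γ(X'.left, ⊤)) = A fT av v * FM fP h 1 * (A fT av v)⁻¹ := by
        rw [R.A_mul_FM, mul_inv_cancel_right, _root_.mul_one, e0, Units.val_mul]
    _ = P fP ((v : Γ(X'.left, ⊤)) * (v : Γ(X'.left, ⊤)) * 1) * (A fT av v * A fT av (-1)) * (hW h X' * P fP 1 * (A fT av v)⁻¹) := by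
        rw [R.FM_one]
        simp only [← _root_.mul_assoc, R.A_mul_P]
    _ = P fP ((v : Γ(X'.left, ⊤)) * (v : Γ(X'.left, ⊤))) * A fT av (-(v * v)) * hW h X' * P fP ((v : Γ(X'.left, ⊤)) * (v : Γ(X'.left, ⊤))) := by
        have e1 : P fP 1 * (A fT av v)⁻¹ = (A fT av v)⁻¹ * P fP ((v : Γ(X'.left, ⊤)) * (v : Γ(X'.left, ⊤))) := by
          rw [eq_inv_mul_iff_mul_eq, ← _root_.mul_assoc, R.A_mul_P, _root_.mul_one, mul_inv_cancel_right]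
        have e2 : hW h X' * (A fT av v)⁻¹ = A fT av v * hW h X' := by
          rw [← RankOne.A_inv, R.hW_mul_A, inv_inv]
        rw [_root_.mul_assoc (hW h X'), e1, ← _root_.mul_assoc (hW h X'), e2, _root_.mul_one, ← RankOne.A_mul,
          show (-(v * v)) = v * (-1) * v by simp, RankOne.A_mul _ v]
        simp only [_root_.mul_assoc]
    _ = _ := by rw [Units.val_mul]

/-- on the overlap -/
theorem Rel.F1_eq_F2 (y : (Γ(X.left, ⊤))ˣ) (t : X ⟶ T) (x : Γ(X.left, ⊤)) :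
    F1 fT fP h (y : Γ(X.left, ⊤)) t x = F2 fT fP h (((y⁻¹ : (Γ(X.left, ⊤))ˣ)) : Γ(X.left, ⊤))
      ((GmPts.ptOfUnit (-y⁻¹) ≫ av) * sT α av t)
      (-((((GmPts.unitOfPt (t ≫ α))⁻¹ : (Γ(X.left, ⊤))ˣ) : Γ(X.left, ⊤)) * (((y⁻¹ : (Γ(X.left, ⊤))ˣ)) : Γ(X.left, ⊤)) + x)) := by
  have := R.hom_P; have := R.hom_T
  rw [F1, F2, R.FM_unit, MonObj.mul_comp, ← R.A_eq]
  calc _ = P fP (((y⁻¹ : (Γ(X.left, ⊤))ˣ)) : Γ(X.left, ⊤)) * A fT av (-y⁻¹) *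
        (hW h X * ((P fP (((y⁻¹ : (Γ(X.left, ⊤))ˣ)) : Γ(X.left, ⊤)) * (t ≫ fT)) * P fP x)) := by
        simp only [_root_.mul_assoc]
    _ = P fP (((y⁻¹ : (Γ(X.left, ⊤))ˣ)) : Γ(X.left, ⊤)) * A fT av (-y⁻¹) *
        ((hW h X * (t ≫ fT)) * P fP ((((GmPts.unitOfPt (t ≫ α))⁻¹ : (Γ(X.left, ⊤))ˣ) : Γ(X.left, ⊤)) *
          (((y⁻¹ : (Γ(X.left, ⊤))ˣ)) : Γ(X.left, ⊤)) + x)) := by
        rw [R.P_mul_T, RankOne.P_add]; simp only [_root_.mul_assoc]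
    _ = _ := by
        rw [R.hW_mul_T, _root_.mul_assoc (sT α av t ≫ fT), R.hW_mul_P]; simp only [_root_.mul_assoc]

theorem Rel.hW_mul_F1 (y : Γ(X.left, ⊤)) (t : X ⟶ T) (x : Γ(X.left, ⊤)) :
    hW h X * F1 fT fP h y t x = F2 fT fP h (-y) (sT α av t) (-x) := by
  rw [F1, F2]
  calc _ = (hW h X * FM fP h y) * ((t ≫ fT) * P fP x) := by simp only [_root_.mul_assoc]
    _ = P fP (-y) * ((hW h X * (t ≫ fT)) * P fP x) := by rw [R.hW_mul_FM]; simp only [_root_.mul_assoc]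
    _ = _ := by rw [R.hW_mul_T, _root_.mul_assoc (sT α av t ≫ fT), R.hW_mul_P]; simp only [_root_.mul_assoc]

theorem Rel.hW_mul_F2 (a : Γ(X.left, ⊤)) (t : X ⟶ T) (c : Γ(X.left, ⊤)) :
    hW h X * F2 fT fP h a t c = F1 fT fP h (-a) (sT α av t * (GmPts.ptOfUnit (-1) ≫ av)) (-c) := by
  have := R.hom_T
  rw [F1, F2, MonObj.mul_comp, ← R.A_eq]
  calc _ = (hW h X * P fP a) * ((t ≫ fT) * (FM fP h c * hW h X)) := by simp only [_root_.mul_assoc]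
    _ = FM fP h (-a) * ((hW h X * (t ≫ fT)) * (FM fP h c * hW h X)) := by
        rw [R.hW_mul_P]; simp only [_root_.mul_assoc]
    _ = FM fP h (-a) * ((sT α av t ≫ fT) * (P fP (-c) * A fT av (-1))) := by
        rw [R.hW_mul_T, _root_.mul_assoc (sT α av t ≫ fT), ← _root_.mul_assoc (hW h X), R.hW_mul_FM,
          _root_.mul_assoc (P fP (-c)), show hW h X * hW h X = A fT av (-1) from R.r3 X]
    _ = _ := by
        rw [show P fP (-c) * A fT av (-1 : (Γ(X.left, ⊤))ˣ) = A fT av (-1) * P fP (-c) by rw [R.A_mul_P]; simp]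
        simp only [_root_.mul_assoc]

theorem Rel.T_mul_F1 (s : X ⟶ T) (y : Γ(X.left, ⊤)) (t : X ⟶ T) (x : Γ(X.left, ⊤)) :
    (s ≫ fT) * F1 fT fP h y t x = F1 fT fP h ((((GmPts.unitOfPt (s ≫ α))⁻¹ : (Γ(X.left, ⊤))ˣ) : Γ(X.left, ⊤)) * y) (s * t) x := by
  have := R.hom_T
  rw [F1, F1, ← _root_.mul_assoc, ← _root_.mul_assoc, R.T_mul_FM, MonObj.mul_comp]
  simp only [_root_.mul_assoc]

theorem Rel.T_mul_F2 (s : X ⟶ T) (a : Γ(X.left, ⊤)) (t : X ⟶ T) (c : Γ(X.left, ⊤)) :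
    (s ≫ fT) * F2 fT fP h a t c = F2 fT fP h ((GmPts.unitOfPt (s ≫ α) : Γ(X.left, ⊤)) * a) (s * t) c := by
  have := R.hom_T
  rw [F2, F2, ← _root_.mul_assoc, ← _root_.mul_assoc, ← _root_.mul_assoc, R.T_mul_P, MonObj.mul_comp]
  simp only [_root_.mul_assoc]

theorem Rel.P_mul_F2 (b a : Γ(X.left, ⊤)) (t : X ⟶ T) (c : Γ(X.left, ⊤)) :
    P fP b * F2 fT fP h a t c = F2 fT fP h (b + a) t c := by
  have := R.hom_P
  rw [F2, F2, RankOne.P_add]; simp only [_root_.mul_assoc]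

theorem Rel.comp_F1 (g : X' ⟶ X) (y : Γ(X.left, ⊤)) (t : X ⟶ T) (x : Γ(X.left, ⊤)) :
    g ≫ F1 fT fP h y t x = F1 fT fP h (g.left.appTop y) (g ≫ t) (g.left.appTop x) := by
  simp only [F1, MonObj.comp_mul, comp_FM, RankOne.comp_P, Category.assoc]

theorem Rel.comp_F2 (g : X' ⟶ X) (a : Γ(X.left, ⊤)) (t : X ⟶ T) (c : Γ(X.left, ⊤)) :
    g ≫ F2 fT fP h a t c = F2 fT fP h (g.left.appTop a) (g ≫ t) (g.left.appTop c) := by
  simp only [F2, MonObj.comp_mul, comp_FM, RankOne.comp_P, comp_hW, Category.assoc]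

end Groth.Agent.RankOne16
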