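import Groth.Agent.Lib.RankOne16.Bruhat
import Groth.Agent.Lib.TorPts21.FieldDescent
import Groth.Agent.Lib.TorPts21.Sub
import Groth.Agent.Lib.TorPts21.Torus
import Groth.Agent.Lib.TorusHom19.Basic
import Groth.Agent.Lib.MTRigid29.MTFlat
import Groth.Agent.Lib.MTRigid29.MonoClosedGlobal

/-!
# A character non-trivial on every geometric fibre takes values of every order
-/

universe u

open CategoryTheory CategoryTheory.Limits MonoidalCategory CartesianMonoidalCategory MonObj AlgebraicGeometry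

set_option linter.style.haveILetI false
set_option backward.isDefEq.respectTransparency false
set_option backward.isDefEq.respectTransparency.types false

noncomputable section

namespace Groth.Agent.RankOne16

open DiagGL

variable {S : Scheme.{u}} {Q : Over S} [GrpObj Q]

theorem exists_pow_eq {k : Type u} [Field k] [IsAlgClosed k] {σ : Over (Spec (CommRingCat.of k))} [GrpObj σ] {r : ℕ}
    (C : Chars (Fin r → ℤ) σ) (m : ℕ) (hm : m ≠ 0) (x : VecGrp.pt k k ⟶ σ) : ∃ y : VecGrp.pt k k ⟶ σ, y ^ m = x := by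
  classical
  let R := Γ((VecGrp.pt k k).left, ⊤)
  let e : R ≃+* k := (Scheme.ΓSpecIso (CommRingCat.of k)).commRingCatIsoToRingEquiv
  let u : Fin r → Rˣ := fun l => (C.ch x).toHomUnits (Multiplicative.ofAdd (Pi.single l 1))
  have hroot : ∀ v : Rˣ, ∃ w : Rˣ, w ^ m = v := fun v => by
    obtain ⟨z, hz⟩ := IsAlgClosed.exists_pow_nat_eq (e (v : R)) (Nat.pos_of_ne_zero hm)
    have hu : IsUnit (z ^ m) := by rw [hz]; exact v.isUnit.map e
    obtain ⟨z', rfl⟩ := (isUnit_pow_iff hm).1 hu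
    refine ⟨Units.map e.symm.toRingHom.toMonoidHom z', Units.ext ?_⟩
    rw [Units.val_pow_eq_pow_val]
    show e.symm (z' : k) ^ m = v
    rw [← map_pow, hz, e.symm_apply_apply]
  choose w hw using hroot
  obtain ⟨y, hy⟩ := C.surj (T := VecGrp.pt k k) ((Units.coeHom _).comp (MonoidHom.mk'
    (fun a : Multiplicative (Fin r → ℤ) => ∏ l, w (u l) ^ a.toAdd l) fun a b => by
      simp only [toAdd_mul, Pi.add_apply, zpow_add, Finset.prod_mul_distrib]))
  have hyp : ∀ n : ℕ, ∀ a, C.ch (y ^ n) a = C.ch y a ^ n := fun n a => by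
    induction n with
    | zero =>
      rw [pow_zero, pow_zero]
      have h := C.mul (1 : VecGrp.pt k k ⟶ σ) 1 a
      rw [_root_.one_mul] at h
      have hu : IsUnit (C.ch (1 : VecGrp.pt k k ⟶ σ) a) := ((C.ch (1 : VecGrp.pt k k ⟶ σ)).toHomUnits a).isUnit
      exact hu.mul_left_cancel (by rw [← h, _root_.mul_one])
    | succ n ih => rw [pow_succ, C.mul, ih, pow_succ]
  refine ⟨y, C.inj fun a => ?_⟩
  rw [hyp, hy]
  show ((∏ l, w (u l) ^ a.toAdd l : Rˣ) : R) ^ m = _
  rw [← Units.val_pow_eq_pow_val, ← Finset.prod_pow, ← (C.ch x).coe_toHomUnits, Units.val_inj]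
  have ha : a = ∏ l, Multiplicative.ofAdd (Pi.single l (1 : ℤ) : Fin r → ℤ) ^ a.toAdd l := by
    refine Multiplicative.toAdd.injective (funext fun l => ?_)
    simp [Finset.sum_apply, Pi.single_apply]
  conv_rhs => rw [ha, map_prod]
  refine Finset.prod_congr rfl fun l _ => ?_
  rw [map_zpow, ← zpow_natCast, ← zpow_mul, _root_.mul_comm, zpow_mul, zpow_natCast, hw]

theorem exists_pt_pow_ne_one (hQ : Red.IsTorus Q) (β : Q ⟶ Red.Gm S) [IsMonHom β] (s : S)
    (hβ : (Over.pullback (Red.geomPt s)).map β ≠ 1) (m : ℕ) (hm : m ≠ 0) :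
    ∃ (x : Spec (CommRingCat.of (AlgebraicClosure (S.residueField s))) ⟶ S) (_ : ∀ q, x q = s)
      (t : kPt x ⟶ Q), GmPts.unitOfPt (t ≫ β) ^ m ≠ 1 := by
  let k := AlgebraicClosure (S.residueField s)
  let ψ := Red.geomPt s
  let F := Over.pullback ψ
  let adj := Over.mapPullbackAdj ψ
  letI : GrpObj (F.obj Q) := Functor.grpObjObj
  letI : GrpObj (F.obj (Red.Gm S)) := Functor.grpObjObj
  haveI : IsMonHom (F.map β) := inferInstance
  have hK : Red.IsTorus (Red.bc ψ Q) := TorusHom19.isTorus_bc hQ ψ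
  obtain ⟨r, ⟨C⟩⟩ := TorPts21.exists_chars hK
  haveI : Smooth (Red.bc ψ Q).hom := (TorPts21.smooth_connected_of_isTorus hK).1
  haveI : IsAffineHom Q.hom := MTRigid29.isAffineHom_of_isMultTypeFT (TorPts21.isMultTypeFT_of_isTorus hQ)
  haveI : IsAffineHom (Red.bc ψ Q).hom := MorphismProperty.pullback_snd _ _ ‹IsAffineHom Q.hom›
  haveI : IsAffine (Red.bc ψ Q).left := isAffine_of_isAffineHom (Red.bc ψ Q).hom
  haveI : IsAffineHom (Red.Gm S).hom :=
    MTRigid29.isAffineHom_of_isMultTypeFT (MTRigid29.isMultTypeFT_of_chars (DiagGL.charsDS S ℤ))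
  haveI : IsAffineHom (Red.bc ψ (Red.Gm S)).hom := MorphismProperty.pullback_snd _ _ ‹IsAffineHom (Red.Gm S).hom›
  haveI : IsAffine (Red.bc ψ (Red.Gm S)).left := isAffine_of_isAffineHom (Red.bc ψ (Red.Gm S)).hom
  haveI : IsClosedImmersion (η[Red.bc ψ (Red.Gm S)].left ≫ (Red.bc ψ (Red.Gm S)).hom) := by
    rw [Over.w]; exact inferInstanceAs (IsClosedImmersion (𝟙 _))
  haveI : IsClosedImmersion η[Red.bc ψ (Red.Gm S)].left :=
    IsClosedImmersion.of_comp η[Red.bc ψ (Red.Gm S)].left (Red.bc ψ (Red.Gm S)).hom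
  obtain ⟨p, hp⟩ : ∃ p : VecGrp.pt k k ⟶ Red.bc ψ Q, p ≫ F.map β ≠ 1 := by
    by_contra h
    refine hβ ?_
    obtain ⟨f', hf'⟩ := TorPts21.exists_lift_of_pts η[Red.bc ψ (Red.Gm S)] (F.map β : Red.bc ψ Q ⟶ Red.bc ψ (Red.Gm S))
      fun x => ⟨toUnit _, by rw [← Hom.one_def]; exact (not_not.1 fun hx => h ⟨x, hx⟩).symm⟩
    rw [← hf', Subsingleton.elim f' (toUnit _), ← Hom.one_def]
  obtain ⟨y, rfl⟩ := exists_pow_eq C m hm p
  let A := VecGrp.pt k k
  let t : (Over.map ψ).obj A ⟶ Q := (adj.homEquiv A Q).symm y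
  refine ⟨Spec.map (CommRingCat.ofHom (algebraMap k k)) ≫ ψ, fun q => ?_, t, fun ht => hp ?_⟩
  · show (Spec.map _ ≫ S.fromSpecResidueField s) ((Spec.map (CommRingCat.ofHom (algebraMap k k))) q) = s
    rw [Scheme.Hom.comp_apply]
    exact Scheme.fromSpecResidueField_apply s _
  have h1 : adj.homEquiv A (Red.Gm S) ((t ≫ β) ^ m) = (y ^ m) ≫ F.map β := by
    have h0 : adj.homEquiv A (Red.Gm S) (t ≫ β) = y ≫ F.map β := by
      rw [adj.homEquiv_naturality_right, Equiv.apply_symm_apply]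
    have hmul : ∀ a b : (Over.map ψ).obj A ⟶ Red.Gm S, adj.homEquiv A (Red.Gm S) (a * b) =
        adj.homEquiv A (Red.Gm S) a * adj.homEquiv A (Red.Gm S) b := fun a b => by
      simp only [adj.homEquiv_unit]
      rw [← MonObj.comp_mul]
      congr 1
      exact Functor.map_mul (Over.pullback ψ) a b
    let H : ((Over.map ψ).obj A ⟶ Red.Gm S) →* (A ⟶ F.obj (Red.Gm S)) :=
      MonoidHom.mk' (fun a => adj.homEquiv A (Red.Gm S) a) hmul
    show H ((t ≫ β) ^ m) = _
    rw [map_pow, show H (t ≫ β) = y ≫ F.map β from h0]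
    exact ((MonoidHom.mk' (fun g : A ⟶ F.obj Q => g ≫ F.map β) fun a b => MonObj.mul_comp a b _).map_pow y m).symm
  rw [← h1, show (t ≫ β) ^ m = 1 from ?_]
  · simp only [adj.homEquiv_unit, F, Functor.map_one]
    exact MonObj.comp_one _
  · apply (GmPts.equiv _).injective
    rw [map_pow, map_one]
    exact ht

/-- After a cover there is a point with `β ^ m - 1` invertible. -/
theorem exists_cover_scalar (hQ : Red.IsTorus Q) (β : Q ⟶ Red.Gm S) [IsMonHom β]
    (hβ : ∀ s : S, (Over.pullback (Red.geomPt s)).map β ≠ 1) (m : ℕ) (hm : m ≠ 0) (X : Over S) :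
    ∃ (X' : Over S) (e : X' ⟶ X) (t : X' ⟶ Q), (Epi e ∧ LocallyOfFiniteType e.left ∧ Surjective e.left) ∧
      IsUnit ((GmPts.unitOfPt (t ≫ β) : Γ(X'.left, ⊤)) ^ m - 1) := by
  have hmt := TorPts21.isMultTypeFT_of_isTorus hQ
  haveI : Flat Q.hom := MTRigid29.flat_of_isMultTypeFT hmt
  haveI : LocallyOfFiniteType Q.hom := MTRigid29.locallyOfFiniteType_of_isMultTypeFT hmt
  let B : Γ(Q.left, ⊤) := (GmPts.unitOfPt β : Γ(Q.left, ⊤)) ^ m - 1
  let V : Q.left.Opens := Q.left.basicOpen B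
  haveI : Surjective (V.ι ≫ Q.hom) := ⟨fun s => by
    obtain ⟨x, hx, t, ht⟩ := exists_pt_pow_ne_one hQ β s (hβ s) m hm
    have hu : IsUnit (t.left.appTop B) := by
      have e1 : t.left.appTop B = (GmPts.unitOfPt (t ≫ β) : Γ((kPt x).left, ⊤)) ^ m - 1 := by
        rw [GmPts.unitOfPt_comp]
        simp only [B, map_sub, map_pow, map_one]
        rfl
      rw [e1]
      refine isUnit_of_ne fun h => ht (Units.ext ?_)
      rw [Units.val_pow_eq_pow_val, Units.val_one]
      exact sub_eq_zero.1 h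
    let pt : (kPt x).left := (IsLocalRing.closedPoint (AlgebraicClosure (S.residueField s)) :
      Spec (CommRingCat.of (AlgebraicClosure (S.residueField s))))
    have hV : t.left pt ∈ V := by
      show pt ∈ t.left ⁻¹ᵁ (Q.left.basicOpen B)
      rw [Scheme.preimage_basicOpen_top, Scheme.basicOpen_of_isUnit _ hu]
      trivial
    refine ⟨⟨t.left pt, hV⟩, ?_⟩
    rw [Scheme.Hom.comp_apply]
    show (t.left ≫ Q.hom) pt = s
    rw [Over.w t]
    exact hx pt⟩
  haveI : Flat (pullback.fst X.hom (V.ι ≫ Q.hom)) := MorphismProperty.pullback_fst _ _ inferInstance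
  haveI : LocallyOfFiniteType (pullback.fst X.hom (V.ι ≫ Q.hom)) := MorphismProperty.pullback_fst _ _ inferInstance
  haveI : Surjective (pullback.fst X.hom (V.ι ≫ Q.hom)) := MorphismProperty.pullback_fst _ _ inferInstance
  haveI : Epi (pullback.fst X.hom (V.ι ≫ Q.hom)) := Flat.epi_of_flat_of_surjective _
  let X' : Over S := Over.mk (pullback.fst X.hom (V.ι ≫ Q.hom) ≫ X.hom)
  let e : X' ⟶ X := Over.homMk (pullback.fst X.hom (V.ι ≫ Q.hom))
  haveI : Epi e.left := ‹Epi (pullback.fst X.hom (V.ι ≫ Q.hom))›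
  let t : X' ⟶ Q := Over.homMk (pullback.snd X.hom (V.ι ≫ Q.hom) ≫ V.ι) (by
    rw [Category.assoc]; exact pullback.condition.symm)
  refine ⟨X', e, t, ⟨Over.epi_of_epi_left _, ‹LocallyOfFiniteType (pullback.fst X.hom (V.ι ≫ Q.hom))›,
    ‹Surjective (pullback.fst X.hom (V.ι ≫ Q.hom))›⟩, ?_⟩
  have e1 : t.left.appTop B = (GmPts.unitOfPt (t ≫ β) : Γ(X'.left, ⊤)) ^ m - 1 := by
    rw [GmPts.unitOfPt_comp]
    simp only [B, map_sub, map_pow, map_one]
    rfl
  rw [← e1]
  show IsUnit ((pullback.snd X.hom (V.ι ≫ Q.hom) ≫ V.ι).appTop B)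
  rw [Scheme.Hom.comp_appTop]
  refine IsUnit.map (pullback.snd X.hom (V.ι ≫ Q.hom)).appTop.hom ?_
  have h := RingedSpace.isUnit_res_basicOpen Q.left.toRingedSpace B
  rw [Scheme.Opens.ι_appTop]
  have h' := h.map (Q.left.presheaf.map (homOfLE (show V.ι ''ᵁ ⊤ ≤ Q.left.basicOpen B by
    rw [Scheme.Opens.ι_image_top])).op).hom
  erw [← CommRingCat.comp_apply, ← Functor.map_comp] at h'
  exact h'

end Groth.Agent.RankOne16
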